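import Cfsg.Agent.H249.Co3.Tr7_m3
import Cfsg.Agent.H527.C3.Twist_m3
import Cfsg.Agent.H557.Co3.CentE8_m3
import Cfsg.Agent.Nodes.KindE
import Mathlib
import Cfsg.Agent.FastGrp
import Cfsg.Agent.Prune
set_option linter.all false

section
prune_inst 0x7fbcb9fbabf8b5dfdfff7e7fafdedffdfdb83fffa6dff9cbffe06bff0bdf4b0ac965fb8d8fea12fe1ed7e21490f87b53fdffbefeea29fc7ffffd5ff41ffbffcfedf6b50851de88b40f300fff03f0778e7f3fffffffffffffffffffffffffffbeffbfffffffff

-- part: H169/Co3/RowE7
section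
set_option linter.all false
open scoped Cfsg.Agent.FastGrp

-- part: H169/Co3/DimE7
section
/-!
# S1920, case B: `m(z) = 64` in `E₇(q)`, `q` odd (helper169)
-/

set_option autoImplicit false

namespace Cfsg.Agent.H169.Co3

open Cfsg Cfsg.Lie Cfsg.Lie.ChevalleyDatum
open Cfsg.Agent.ChevalleyStructure Cfsg.Agent.ChevalleyStructure.CoxeterGeomTypes
open Cfsg.Agent.Nodes.RGDChev Cfsg.Agent.BpExc.TorChev Cfsg.Agent.BpExc.TorAll
open Cfsg.Agent.GpExc.Field (emb emb_injective coe_emb)
open Cfsg.Agent.H13.Co3 (CB)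
open Cfsg.Agent.H415.C3 (Kit exists_kit)
open Module Subgroup

/-- parity masks of the root coordinates, E7 -/
private def pmE7 (i : ℕ) : ℕ := Nat.mod (Nat.shiftRight (nat_lit 0x3f769a441a442112d221089608965bbf019bcf660f66319b366319bc19bcf6603c40e3f703f739dc0ee73bf03bf1c08f07f8007f807fbde001ef7f807f8007f830001fffdff83e00001f07fefffe0003007ffff81fffc0000000fffe07ffff801fffffffe000000000000001fffffffe) (Nat.mul 128 i)) (nat_lit 0x100000000000000000000000000000000)

/-- number of ones among the first `n` bits -/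
private noncomputable def pcnt (x n : ℕ) : ℕ := Nat.rec 0 (fun k r => Nat.add r (Nat.mod (Nat.shiftRight x k) 2)) n

private theorem pcnt_eq (x n : ℕ) : (Finset.univ.filter fun s : Fin n => x.testBit s = true).card = pcnt x n := by
  rw [Finset.card_filter, Fin.sum_univ_eq_sum_range (fun s => if x.testBit s = true then 1 else 0) n]
  induction n with
  | zero => rfl
  | succ n ih =>
    rw [Finset.sum_range_succ, ih]
    show _ = pcnt x n + (x >>> n) % 2
    congr 1
    rw [Nat.testBit_eq_decide_div_mod_eq, Nat.shiftRight_eq_div_pow]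
    rcases Nat.mod_two_eq_zero_or_one (x / 2 ^ n) with h | h <;> simp [h]

private theorem pm_ok : ∀ (i : Fin 7) (s : Fin 126), Odd (vec chevE7 7 s i) ↔ (pmE7 i).testBit s = true := by
  decide +kernel

private theorem odd_if {v : ℤ} {m s : ℕ} (b : Bool) (h : Odd v ↔ m.testBit s = true) :
    Odd (if b then v else 0) ↔ (bif b then m else 0).testBit s = true := by
  cases b
  · simp
  · simpa using h

private theorem odd_xor {v w : ℤ} {m n s : ℕ} (h : Odd v ↔ m.testBit s = true) (h' : Odd w ↔ n.testBit s = true) :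
    Odd (v + w) ↔ (Nat.xor m n).testBit s = true := by
  show _ ↔ (m ^^^ n).testBit s = true
  rw [Nat.testBit_xor, Int.odd_add, ← Int.not_odd_iff_even, h, h']
  cases m.testBit s <;> cases n.testBit s <;> simp

private def xmE7 (b0 b1 b2 b3 b4 b5 b6 : Bool) : ℕ :=
  Nat.xor (Nat.xor (Nat.xor (Nat.xor (Nat.xor (Nat.xor (bif b0 then pmE7 (0 : Fin 7) else 0) (bif b1 then pmE7 (1 : Fin 7) else 0))
    (bif b2 then pmE7 (2 : Fin 7) else 0)) (bif b3 then pmE7 (3 : Fin 7) else 0)) (bif b4 then pmE7 (4 : Fin 7) else 0))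
    (bif b5 then pmE7 (5 : Fin 7) else 0)) (bif b6 then pmE7 (6 : Fin 7) else 0)

private theorem xm_ok : ∀ b0 b1 b2 b3 b4 b5 b6 : Bool, (b0 || b1 || b2 || b3 || b4 || b5 || b6) = false ∨
    pcnt (xmE7 b0 b1 b2 b3 b4 b5 b6) 126 = 54 ∨ pcnt (xmE7 b0 b1 b2 b3 b4 b5 b6) 126 = 64 ∨
    pcnt (xmE7 b0 b1 b2 b3 b4 b5 b6) 126 = 70 := by
  decide +kernel

/-- number of roots with odd value, E7 -/
theorem tabE7 : ∀ b : Fin 7 → Bool, b = (fun _ => false) ∨
    (Finset.univ.filter fun s : Fin chevE7.nroots => Odd (∑ i, if b i then vec chevE7 7 s i else 0)).card = 54 ∨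
    (Finset.univ.filter fun s : Fin chevE7.nroots => Odd (∑ i, if b i then vec chevE7 7 s i else 0)).card = 64 ∨
    (Finset.univ.filter fun s : Fin chevE7.nroots => Odd (∑ i, if b i then vec chevE7 7 s i else 0)).card = 70 := by
  intro b
  have e : (Finset.univ.filter fun s : Fin chevE7.nroots => Odd (∑ i, if b i then vec chevE7 7 s i else 0)).card =
      pcnt (xmE7 (b 0) (b 1) (b 2) (b 3) (b 4) (b 5) (b 6)) 126 := by
    rw [← pcnt_eq]
    refine congrArg Finset.card (Finset.filter_congr (s := (Finset.univ : Finset (Fin 126))) fun s _ => ?_)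
    rw [Fin.sum_univ_seven]
    exact odd_xor (odd_xor (odd_xor (odd_xor (odd_xor (odd_xor (odd_if _ (pm_ok 0 s)) (odd_if _ (pm_ok 1 s)))
      (odd_if _ (pm_ok 2 s))) (odd_if _ (pm_ok 3 s))) (odd_if _ (pm_ok 4 s))) (odd_if _ (pm_ok 5 s))) (odd_if _ (pm_ok 6 s))
  rw [e]
  refine (xm_ok (b 0) (b 1) (b 2) (b 3) (b 4) (b 5) (b 6)).imp_left fun h => ?_
  simp only [Bool.or_eq_false_iff] at h
  obtain ⟨⟨⟨⟨⟨⟨h0, h1⟩, h2⟩, h3⟩, h4⟩, h5⟩, h6⟩ := h
  funext i
  fin_cases i <;> assumption

theorem finrank_Vm {D : ChevalleyDatum} {k : Type} [Field k] {G : Type*} [Group G] (φ : G →* ↥(D.group k)) (z : G) :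
    finrank k ↥(Vm φ z) = Cfsg.Agent.H167.Co3.mL D (φ z) := by
  have h : Cfsg.Agent.H167.EX.rho D k (φ z) - (-1 : k) • (1 : End k (D.Idx → k)) =
      Matrix.toLin' (((φ z : ↥(D.group k)) : GL D.Idx k) : Matrix D.Idx D.Idx k) + 1 := by
    refine LinearMap.ext fun v => ?_
    have h1 : (Cfsg.Agent.H167.EX.rho D k (φ z) - (-1 : k) • (1 : End k (D.Idx → k))) v =
        Cfsg.Agent.H167.EX.rho D k (φ z) v - (-1 : k) • v := rfl
    rw [h1, neg_smul, one_smul, sub_neg_eq_add]
    rfl
  unfold Vm Cfsg.Agent.H167.Co3.mL Cfsg.Agent.H167.Co3.mm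
  rw [h]

/-- **`m(z) = 64`** -/
theorem e7_m64 {F : Type} [Field F] [Finite F] (h2F : (2 : F) ≠ 0) {G : Type*} [Group G] [Finite G]
    (φ₀ : G →* ↥(chevE7.group F)) (hφ₀ : Function.Injective φ₀) {P N0 : Subgroup G} {z s : G}
    {ψ : ↥(normalizer (P : Set G)) →* Equiv.Perm (Fin 6)}
    (C : CB P N0 z s ψ) : Cfsg.Agent.H167.Co3.mL chevE7 (φ₀ z) = 64 := by
  obtain ⟨p, hpc⟩ := CharP.exists F
  have hpp : Fact p.Prime := ⟨(CharP.char_is_prime_or_zero F p).resolve_right (CharP.char_ne_zero_of_finite F p)⟩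
  have hp2 : p ≠ 2 := by
    rintro rfl
    exact h2F (by exact_mod_cast CharP.cast_eq_zero F 2)
  set k := AlgebraicClosure F with hkdef
  have hch : CharP k p := charP_of_injective_algebraMap (algebraMap F k).injective p
  have hk : HAlg p k := Cfsg.Agent.H944.RootVals.hAlg_closure p F
  have hpT : IsType chevE7 7 CoxeterMatrix.E₇ := Cfsg.Agent.Nodes.KindE.isType7
  have cne : ∀ n : ℕ, n.Prime → p ≠ n → (n : k) ≠ 0 := by
    intro n hn hpn h0
    exact hpn ((Nat.prime_dvd_prime_iff_eq Fact.out hn).1 ((CharP.cast_eq_zero_iff k p n).1 h0))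
  have h2 : (2 : k) ≠ 0 := by exact_mod_cast cne 2 Nat.prime_two hp2
  let φ : G →* ↥(chevE7.group k) := (emb hpT.inList (algebraMap F k)).comp φ₀
  have hφ : Function.Injective φ := (emb_injective hpT.inList (algebraMap F k)).comp hφ₀
  obtain ⟨A, E, x, r, ψ', K⟩ := exists_kit C
  have hz : z ∈ centralizer ({z} : Set G) := mem_centralizer_singleton_iff.2 rfl
  obtain ⟨i, hi⟩ := IsAlgClosed.exists_pow_nat_eq (-1 : k) (n := 2) (by norm_num)
  rw [pow_two] at hi
  have h8 := dvd_eight K h2 hi (Rm φ z) hz (Rm_z φ z hz)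
  have hV : finrank k ↥(Vm φ z) = 64 := by
    obtain ⟨b, hb, hb'⟩ := exists_neg hpT p hk hp2 (z := φ z) (by rw [← map_mul, C.z_sq, map_one])
      (fun h => C.z_ne (hφ (by rw [h, map_one])))
    have hb'' : finrank k ↥(Vm φ z) = _ := hb'
    rw [hb''] at h8 ⊢
    rcases tabE7 b with h | h | h | h
    · exact absurd h hb
    · rw [h] at h8
      exact absurd h8 (by norm_num)
    · exact h
    · rw [h] at h8
      exact absurd h8 (by norm_num)
  have hm := finrank_Vm φ z
  rw [hV] at hm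
  have he : Cfsg.Agent.H167.Co3.mL chevE7 (φ z) = Cfsg.Agent.H167.Co3.mL chevE7 (φ₀ z) :=
    Cfsg.Agent.H167.Co3.mL_emb hpT (algebraMap F k) (φ₀ z)
  rw [← he, ← hm]

end Cfsg.Agent.H169.Co3
end

-- part: H627/Co3/Comb
section
/-!
# S1920, case B: group theory for the E₇ analysis (helper627)

* `exists_K2` : the second derived subgroup of `C(N0)` induces `A₆`;
* `lemE` : a subgroup `D` of `N0` of order at least 16, whose central involutions are in `⟨z⟩`, has no proper subgroup `D'` of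
  index 2 such that all elements outside have square `z`.
-/

set_option autoImplicit false

open Subgroup Equiv

namespace Cfsg.Agent.H627.Co3

open Cfsg.Agent.H13.Co3 Cfsg.Agent.H738.C3

variable {G : Type*} [Group G]
variable {P N0 : Subgroup G} {z s : G} {ψ : ↥(normalizer (P : Set G)) →* Equiv.Perm (Fin 6)}

/-- the second derived subgroup of `C(N0)` -/
def K2 (N0 : Subgroup G) : Subgroup G :=
  ⁅⁅centralizer (N0 : Set G), centralizer (N0 : Set G)⁆, ⁅centralizer (N0 : Set G), centralizer (N0 : Set G)⁆⁆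

theorem exists_K2 (C : CB P N0 z s ψ) (π : Equiv.Perm (Fin 6)) (hπ : Equiv.Perm.sign π = 1) :
    ∃ k, ∃ hk : k ∈ AA C, k ∈ (K2 N0 : Set G) ∧ psi C ⟨k, hk⟩ = π := by
  have hle : centralizer (N0 : Set G) ≤ AA C := fun g hg =>
    comm_le_AA C fun n hn => (mem_centralizer_iff.1 hg n hn).symm
  set f : ↥(centralizer (N0 : Set G)) →* Equiv.Perm (Fin 6) := (psi C).comp (inclusion hle) with hf
  have h1 : alternatingGroup (Fin 6) ≤ (⊤ : Subgroup ↥(centralizer (N0 : Set G))).map f := by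
    intro σ hσ
    obtain ⟨g, hg, hc, hgσ⟩ := exists_even C (Perm.mem_alternatingGroup.1 hσ)
    exact ⟨⟨g, mem_centralizer_iff.2 fun n hn => (hc n hn).symm⟩, mem_top _, hgσ⟩
  have h6 : (5 : ℕ) ≤ Nat.card (Fin 6) := by rw [Nat.card_eq_fintype_card, Fintype.card_fin]; norm_num
  have hA := commutator_alternatingGroup_eq_self h6
  have h2 : alternatingGroup (Fin 6) ≤ (⁅(⊤ : Subgroup ↥(centralizer (N0 : Set G))),
      (⊤ : Subgroup ↥(centralizer (N0 : Set G)))⁆ : Subgroup ↥(centralizer (N0 : Set G))).map f := by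
    rw [map_commutator, ← hA]
    exact commutator_mono h1 h1
  have h3 : alternatingGroup (Fin 6) ≤ (⁅(⁅(⊤ : Subgroup ↥(centralizer (N0 : Set G))),
      (⊤ : Subgroup ↥(centralizer (N0 : Set G)))⁆ : Subgroup ↥(centralizer (N0 : Set G))),
      (⁅(⊤ : Subgroup ↥(centralizer (N0 : Set G))),
      (⊤ : Subgroup ↥(centralizer (N0 : Set G)))⁆ : Subgroup ↥(centralizer (N0 : Set G)))⁆ :
        Subgroup ↥(centralizer (N0 : Set G))).map f := by
    rw [map_commutator, ← hA]
    exact commutator_mono h2 h2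
  obtain ⟨k, hk, hkπ⟩ := h3 (Perm.mem_alternatingGroup.2 hπ)
  refine ⟨k, hle k.2, ?_, hkπ⟩
  have h4 : (k : G) ∈ (⁅(⁅(⊤ : Subgroup ↥(centralizer (N0 : Set G))),
      (⊤ : Subgroup ↥(centralizer (N0 : Set G)))⁆ : Subgroup ↥(centralizer (N0 : Set G))),
      (⁅(⊤ : Subgroup ↥(centralizer (N0 : Set G))),
      (⊤ : Subgroup ↥(centralizer (N0 : Set G)))⁆ : Subgroup ↥(centralizer (N0 : Set G)))⁆ :
        Subgroup ↥(centralizer (N0 : Set G))).map (centralizer (N0 : Set G)).subtype := ⟨k, hk, rfl⟩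
  rw [map_commutator, map_commutator, ← MonoidHom.range_eq_map, range_subtype] at h4
  exact h4

/-- central elements of `N0` of order at most 2 -/
theorem mem_z_of_cen (C : CB P N0 z s ψ) {x : G} (hx : x ∈ N0) (hc : ∀ m ∈ N0, x * m = m * x) (h2 : x * x = 1) :
    x = 1 ∨ x = z := by
  obtain ⟨k, hk⟩ := mem_zpowers_iff.1 (C.cen x hx hc)
  have hs2 : s ^ (2 : ℤ) = z := by
    rw [show (2 : ℤ) = ((2 : ℕ) : ℤ) from rfl, zpow_natCast, pow_two, C.s_sq]
  rcases Int.even_or_odd' k with ⟨j, rfl | rfl⟩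
  · rw [zpow_mul, hs2] at hk
    rcases Int.even_or_odd' j with ⟨i, rfl | rfl⟩
    · left
      rw [zpow_mul, show z ^ (2 : ℤ) = 1 by rw [show (2 : ℤ) = ((2 : ℕ) : ℤ) from rfl, zpow_natCast, pow_two, C.z_sq],
        one_zpow] at hk
      exact hk.symm
    · right
      rw [zpow_add, zpow_mul, show z ^ (2 : ℤ) = 1 by
        rw [show (2 : ℤ) = ((2 : ℕ) : ℤ) from rfl, zpow_natCast, pow_two, C.z_sq], one_zpow, one_mul, zpow_one] at hk
      exact hk.symm
  · exfalso
    have h3 : x * x = s ^ (2 * (2 * j + 1)) := by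
      rw [← hk, ← zpow_add]
      congr 1
      ring
    rw [zpow_mul, hs2, h2, zpow_add, zpow_mul, show z ^ (2 : ℤ) = 1 by
        rw [show (2 : ℤ) = ((2 : ℕ) : ℤ) from rfl, zpow_natCast, pow_two, C.z_sq], one_zpow, one_mul, zpow_one] at h3
    exact C.z_ne h3.symm

open Classical in
/-- **Lemma E** -/
theorem lemE [Finite G] (C : CB P N0 z s ψ) {D : Subgroup G} (hD : D ≤ N0) (h16 : 16 ≤ Nat.card D)
    (hZ : ∀ x ∈ D, (∀ y ∈ D, x * y = y * x) → x * x = 1 → x = 1 ∨ x = z) {D' : Set G} (hD' : D' ⊆ D)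
    (h11 : ∀ x ∈ D', ∀ y ∈ D', x * y ∈ D') (h10 : ∀ x ∈ D', ∀ y ∈ D, y ∉ D' → x * y ∉ D')
    (h00 : ∀ x ∈ D, ∀ y ∈ D, x ∉ D' → y ∉ D' → x * y ∈ D') (hne : ∃ y ∈ D, y ∉ D')
    (hq : ∀ y ∈ D, y ∉ D' → y * y = z) : False := by
  obtain ⟨y, hy, hyD⟩ := hne
  have hyy := hq y hy hyD
  have hinv : ∀ x ∈ D', x * y * x = y := by
    intro x hx
    have h1 := hq (x * y) (D.mul_mem (hD' hx) hy) (h10 x hx y hy hyD)
    have h2 : x * y * x * y = y * y := by rw [hyy, ← h1]; group
    exact mul_right_cancel h2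
  have hcomm : ∀ x ∈ D', ∀ w ∈ D', x * w = w * x := by
    intro x hx w hw
    have h1 := hinv (w * x) (h11 w hw x hx)
    have h2 := hinv x hx
    have h3 := hinv w hw
    -- `w x y w x = y = x y x`, `w y w = y`
    have e1 : x * y = y * x⁻¹ := eq_mul_inv_iff_mul_eq.2 h2
    have e2 : w * y = y * w⁻¹ := eq_mul_inv_iff_mul_eq.2 h3
    have e3 : (w * x) * y = y * (w * x)⁻¹ := by
      rw [eq_mul_inv_iff_mul_eq]; exact h1
    have e4 : (w * x) * y = y * (x⁻¹ * w⁻¹)⁻¹⁻¹ := by rw [e3]; group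
    have e5 : (w * x) * y = w * (y * x⁻¹) := by rw [← e1]; group
    have e6 : w * (y * x⁻¹) = y * w⁻¹ * x⁻¹ := by rw [← mul_assoc, e2]
    have e7 : y * (w * x)⁻¹ = y * (w⁻¹ * x⁻¹) := by rw [← e3, e5, e6, mul_assoc]
    have e8 := mul_left_cancel e7
    have e9 : (w * x)⁻¹ = (x * w)⁻¹ := by rw [e8]; group
    exact (inv_injective e9).symm
  have hfix : ∀ x ∈ D', x * y = y * x → x = 1 ∨ x = z := by
    intro x hx hxy
    have hxx : x * x = 1 := by
      have h1 := hinv x hx
      rw [hxy, mul_assoc] at h1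
      exact mul_eq_left.1 h1
    refine hZ x (hD' hx) (fun w hw => ?_) hxx
    by_cases hwD : w ∈ D'
    · exact hcomm x hx w hwD
    · have h1 := hcomm x hx _ (h00 w hw y hy hwD hyD)
      have h2 : w = w * y * y⁻¹ := by group
      have h3 : x * y⁻¹ = y⁻¹ * x := by
        rw [eq_inv_mul_iff_mul_eq, ← mul_assoc, ← hxy]; group
      calc x * w = x * (w * y) * y⁻¹ := by group
        _ = w * y * (x * y⁻¹) := by rw [h1]; group
        _ = w * x := by rw [h3]; group
  -- the number of elements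
  have hx0 : ∃ x0 ∈ D', ∀ x ∈ D', ¬ (x * y = y * x) → x * x0 ∈ D' ∧ (x * x0) * y = y * (x * x0) ∨ False := by
    by_cases h : ∃ x0 ∈ D', ¬ (x0 * y = y * x0)
    · obtain ⟨x0, h0, h1⟩ := h
      refine ⟨x0, h0, fun x hx hxy => Or.inl ⟨h11 x hx x0 h0, ?_⟩⟩
      have k1 : x0 * y = z * (y * x0) := (C.comm x0 (hD (hD' h0)) y (hD hy)).resolve_left h1
      have k2 : x * y = z * (y * x) := (C.comm x (hD (hD' hx)) y (hD hy)).resolve_left hxy
      have k3 : x * z = z * x := (C.comm x (hD (hD' hx)) z (C.PN C.zP)).elim id (fun h => by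
        exfalso
        have h4 : x * z = x := by rw [h, ← mul_assoc, C.z_sq, one_mul]
        exact C.z_ne (by simpa using h4))
      calc x * x0 * y = x * (x0 * y) := mul_assoc _ _ _
        _ = (x * z) * (y * x0) := by rw [k1]; simp only [mul_assoc]
        _ = z * (x * y) * x0 := by rw [k3]; simp only [mul_assoc]
        _ = z * z * (y * x * x0) := by rw [k2]; simp only [mul_assoc]
        _ = _ := by rw [C.z_sq, one_mul, mul_assoc]
    · push Not at h
      have h1 : ∃ x ∈ D', True := ⟨y * y, h00 y hy y hy hyD hyD, trivial⟩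
      obtain ⟨x0, h0, -⟩ := h1
      exact ⟨x0, h0, fun x hx hxy => absurd (h x hx) hxy⟩
  obtain ⟨x0, hx0D, hx0⟩ := hx0
  let w' : G → G := fun w => if w ∈ D' then w else w * y
  let w'' : G → G := fun w => if w' w * y = y * w' w then w' w else w' w * x0
  have hw' : ∀ w ∈ D, w' w ∈ D' := by
    intro w hw
    simp only [w']
    split_ifs with h
    · exact h
    · exact h00 w hw y hy h hyD
  have hw'' : ∀ w ∈ D, w'' w = 1 ∨ w'' w = z := by
    intro w hw
    simp only [w'']
    split_ifs with h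
    · exact hfix _ (hw' w hw) h
    · rcases hx0 _ (hw' w hw) h with ⟨h1, h2⟩ | h1
      · exact hfix _ h1 h2
      · exact h1.elim
  have hcard : Nat.card D ≤ Nat.card (Bool × Bool × Bool) := by
    refine Nat.card_le_card_of_injective (fun w : D => (decide ((w : G) ∈ D'), decide (w' w * y = y * w' w),
      decide (w'' w = 1))) ?_
    intro a b hab
    simp only [Prod.mk.injEq, decide_eq_decide] at hab
    obtain ⟨e1, e2, e3⟩ := hab
    have e4 : w'' a = w'' b := by
      rcases hw'' a a.2 with h | h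
      · rw [h, e3.1 h]
      · rcases hw'' b b.2 with h' | h'
        · exfalso
          have := e3.2 h'
          rw [h] at this
          exact C.z_ne this
        · rw [h, h']
    have e5 : w' a = w' b := by
      simp only [w''] at e4
      by_cases h : w' (a : G) * y = y * w' a
      · rw [if_pos h, if_pos (e2.1 h)] at e4
        exact e4
      · rw [if_neg h, if_neg (fun h' => h (e2.2 h'))] at e4
        exact mul_right_cancel e4
    apply Subtype.ext
    simp only [w'] at e5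
    by_cases h : (a : G) ∈ D'
    · rw [if_pos h, if_pos (e1.1 h)] at e5
      exact e5
    · rw [if_neg h, if_neg (fun h' => h (e1.2 h'))] at e5
      exact mul_right_cancel e5
  have h8 : Nat.card (Bool × Bool × Bool) = 8 := by
    rw [Nat.card_eq_fintype_card]; rfl
  omega

end Cfsg.Agent.H627.Co3
end

-- part: H627/Co3/Lin
section
/-!
# S1920, case B, `E₇(q)`: basic consequences of the interface (helper627)
-/

set_option autoImplicit false

namespace Cfsg.Agent.H627.Co3

open Module Subgroup Matrix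

section SL

variable {F : Type*} [Field F]

/-- upper transvection -/
def up (t : F) : Matrix.SpecialLinearGroup (Fin 2) F := ⟨!![1, t; 0, 1], by simp [Matrix.det_fin_two]⟩

/-- lower transvection -/
def lo (t : F) : Matrix.SpecialLinearGroup (Fin 2) F := ⟨!![1, 0; t, 1], by simp [Matrix.det_fin_two]⟩

theorem up_add (t u : F) : up t * up u = up (t + u) := by
  apply Subtype.ext
  rw [Matrix.SpecialLinearGroup.coe_mul]
  ext i j
  (revert i j; simp only [up, Matrix.mul_apply, Fin.sum_univ_two, add_comm, _root_.Fin.forall_fin_succ, _root_.Matrix.of_apply, _root_.Matrix.cons_val', _root_.Matrix.cons_val_fin_one, Fin.isValue, _root_.Matrix.cons_val_zero, _root_.Matrix.cons_val_one, _root_.mul_one, _root_.MulZeroClass.mul_zero, _root_.zero_add, _root_.Matrix.cons_val_succ, _root_.forall_const, _root_.true_and, _root_.one_mul, _root_.MulZeroClass.zero_mul, _root_.implies_true, _root_.and_self])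

theorem lo_add (t u : F) : lo t * lo u = lo (t + u) := by
  apply Subtype.ext
  rw [Matrix.SpecialLinearGroup.coe_mul]
  ext i j
  (revert i j; simp only [lo, Matrix.mul_apply, Fin.sum_univ_two, add_comm, _root_.Fin.forall_fin_succ, _root_.Matrix.of_apply, _root_.Matrix.cons_val', _root_.Matrix.cons_val_fin_one, Fin.isValue, _root_.Matrix.cons_val_zero, _root_.Matrix.cons_val_one, _root_.mul_one, _root_.Matrix.cons_val_succ, _root_.MulZeroClass.mul_zero, _root_.zero_add, _root_.implies_true, _root_.and_true, _root_.MulZeroClass.zero_mul, _root_.one_mul, _root_.and_self])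

theorem up_lo_up {x : Matrix.SpecialLinearGroup (Fin 2) F} (hc : x.1 1 0 ≠ 0) :
    x = up ((x.1 0 0 - 1) / x.1 1 0) * lo (x.1 1 0) * up ((x.1 1 1 - 1) / x.1 1 0) := by
  have hd := x.2
  rw [Matrix.det_fin_two] at hd
  apply Subtype.ext
  rw [Matrix.SpecialLinearGroup.coe_mul, Matrix.SpecialLinearGroup.coe_mul]
  ext i j
  (revert i j; simp only [up, lo, Matrix.mul_apply, Fin.sum_univ_two, _root_.Fin.forall_fin_succ, Fin.isValue, _root_.Matrix.cons_mul, _root_.Nat.succ_eq_add_one, Nat.reduceAdd, _root_.Matrix.vecMul_cons, _root_.Matrix.head_cons, _root_.one_smul, _root_.Matrix.tail_cons, _root_.Matrix.smul_cons, _root_.smul_eq_mul, _root_.mul_one, _root_.Matrix.smul_empty, _root_.Matrix.empty_vecMul, _root_.add_zero, _root_.Matrix.add_cons, _root_.zero_add, _root_.Matrix.empty_add_empty, _root_.zero_smul, _root_.Matrix.empty_mul, _root_.Equiv.symm_apply_apply, _root_.Matrix.of_apply, _root_.Matrix.cons_val', _root_.Matrix.cons_val_fin_one, _root_.Matrix.cons_val_zero,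 _root_.Matrix.cons_val_one, _root_.MulZeroClass.mul_zero, _root_.Matrix.cons_val_succ, _root_.Fin.succ_zero_eq_one, _root_.IsEmpty.forall_iff, _root_.and_true, _root_.true_and]) <;> (repeat' with_reducible apply And.intro) <;> field_simp <;>
    first | ring1 | skip
  linear_combination -hd

theorem closure_SL : Subgroup.closure (Set.range (up (F := F)) ∪ Set.range lo) = ⊤ := by
  have h1 : ∀ t : F, up t ∈ Subgroup.closure (Set.range (up (F := F)) ∪ Set.range lo) := fun t =>
    Subgroup.subset_closure (Or.inl ⟨t, rfl⟩)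
  have h2 : ∀ t : F, lo t ∈ Subgroup.closure (Set.range (up (F := F)) ∪ Set.range lo) := fun t =>
    Subgroup.subset_closure (Or.inr ⟨t, rfl⟩)
  have h3 : ∀ x : Matrix.SpecialLinearGroup (Fin 2) F, x.1 1 0 ≠ 0 →
      x ∈ Subgroup.closure (Set.range (up (F := F)) ∪ Set.range lo) := by
    intro x hx
    rw [up_lo_up hx]
    exact mul_mem (mul_mem (h1 _) (h2 _)) (h1 _)
  rw [eq_top_iff]
  intro x _
  by_cases hx : x.1 1 0 = 0
  · have h4 : (x * lo 1).1 1 0 ≠ 0 := by
      have hd := x.2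
      rw [Matrix.det_fin_two, hx] at hd
      rw [Matrix.SpecialLinearGroup.coe_mul]
      simp only [lo, Matrix.mul_apply, Fin.sum_univ_two, hx]
      simp
      rintro h0
      rw [h0] at hd
      simp at hd
    have h5 : x = x * lo 1 * (lo 1)⁻¹ := by group
    rw [h5]
    exact mul_mem (h3 _ h4) (inv_mem (h2 1))
  · exact h3 x hx

end SL

variable {G : Type*} [Group G] {z : G} {F V : Type*} [Field F] [AddCommGroup V] [Module F V] {B : LinearMap.BilinForm F V}

namespace E7I

variable (I : E7I z F B)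

theorem R_one : I.R 1 1 1 := by
  have h := I.Rι 1
  rwa [map_one, Matrix.SpecialLinearGroup.coe_one] at h

theorem R_z : I.R z 1 1 := by
  have h := I.Rι (-1)
  rw [I.ι_neg, Matrix.SpecialLinearGroup.coe_neg, Matrix.SpecialLinearGroup.coe_one] at h
  have h1 := I.scal (c := -1) (d := 1) h (neg_ne_zero.2 one_ne_zero) one_ne_zero
  simpa only [_root_.smul_neg, _root_.neg_smul, _root_.one_smul, _root_.neg_neg] using h1

include I in
theorem z_sq : z * z = 1 := by
  rw [← I.ι_neg, ← map_mul, neg_mul_neg, one_mul, map_one]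

include I in
theorem nontriv : ∃ u : V, u ≠ 0 := by
  have h : 0 < finrank F V := by rw [I.dim]; norm_num
  have := Module.nontrivial_of_finrank_pos h
  exact exists_ne 0

theorem M_inj {g : G} {a : Matrix (Fin 2) (Fin 2) F} {M : Module.End F V} (h : I.R g a M) {u : V} (hu : M u = 0) :
    u = 0 := by
  obtain ⟨μ, hμ, h1, -⟩ := I.sim h
  refine I.nd u fun v => ?_
  have h2 := h1 u v
  rw [hu, map_zero, LinearMap.zero_apply] at h2
  exact (mul_eq_zero.1 h2.symm).resolve_left hμ

theorem M_ne {g : G} {a : Matrix (Fin 2) (Fin 2) F} {M : Module.End F V} (h : I.R g a M) : M ≠ 0 := by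
  rintro rfl
  obtain ⟨u, hu⟩ := I.nontriv
  exact hu (I.M_inj h rfl)

theorem inv' {g : G} {a : Matrix (Fin 2) (Fin 2) F} {M : Module.End F V} (h : I.R g a M) :
    ∃ b N, ∃ c d : F, I.R g⁻¹ b N ∧ c ≠ 0 ∧ d ≠ 0 ∧ a * b = c • (1 : Matrix (Fin 2) (Fin 2) F) ∧
      M * N = d • (1 : Module.End F V) := by
  obtain ⟨b, N, hb⟩ := I.ex g⁻¹ ((show Commute g z from I.cz h).inv_left).eq
  have h1 := I.mul h hb
  rw [mul_inv_cancel] at h1
  obtain ⟨⟨c, hc⟩, ⟨d, hd⟩⟩ := I.uniq I.R_one h1
  refine ⟨b, N, c, d, hb, ?_, ?_, hc, hd⟩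
  · rintro rfl
    apply I.det h1
    rw [hc, zero_smul, Matrix.det_zero]
  · rintro rfl
    apply I.M_ne h1
    rw [hd, zero_smul]

theorem eq_of {g h : G} {a a' : Matrix (Fin 2) (Fin 2) F} {M M' : Module.End F V} {c d : F} (hg : I.R g a M)
    (hh : I.R h a' M') (ha : a' = c • a) (hM : M' = d • M) : h = g ∨ h = z * g := by
  obtain ⟨b, N, c1, d1, hb, hc1, hd1, h1, h2⟩ := I.inv' hg
  have hc : c ≠ 0 := by
    rintro rfl
    apply I.det hh
    rw [ha, zero_smul, Matrix.det_zero]
  have hd : d ≠ 0 := by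
    rintro rfl
    apply I.M_ne hh
    rw [hM, zero_smul]
  have h3 := I.mul hh hb
  rw [ha, hM, smul_mul_assoc, smul_mul_assoc, h1, h2, smul_smul, smul_smul] at h3
  have h4 := I.scal (c := (c * c1)⁻¹) (d := (d * d1)⁻¹) h3 (inv_ne_zero (mul_ne_zero hc hc1))
    (inv_ne_zero (mul_ne_zero hd hd1))
  rw [smul_smul, smul_smul, inv_mul_cancel₀ (mul_ne_zero hc hc1), inv_mul_cancel₀ (mul_ne_zero hd hd1), one_smul,
    one_smul] at h4
  rcases I.ker h4 with h5 | h5
  · left; exact mul_inv_eq_one.1 h5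
  · right; exact mul_inv_eq_iff_eq_mul.1 h5

theorem comm_of {g h : G} {a a' : Matrix (Fin 2) (Fin 2) F} {M M' : Module.End F V} {c d : F} (hg : I.R g a M)
    (hh : I.R h a' M') (ha : a * a' = c • (a' * a)) (hM : M * M' = d • (M' * M)) :
    g * h = h * g ∨ g * h = z * (h * g) := I.eq_of (I.mul hh hg) (I.mul hg hh) ha hM

theorem ι_z (x : Matrix.SpecialLinearGroup (Fin 2) F) : I.ι x * z = z * I.ι x := I.cz (I.Rι x)

/-- **the action on `SL₂`** -/
theorem conj_ι {g : G} {a : Matrix (Fin 2) (Fin 2) F} {M : Module.End F V} (hg : I.R g a M)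
    {x x' : Matrix.SpecialLinearGroup (Fin 2) F} (hx : x'.1 * a = a * x.1) : g * I.ι x = I.ι x' * g := by
  have hu : IsUnit a.det := isUnit_iff_ne_zero.2 (I.det hg)
  let c : Matrix.SpecialLinearGroup (Fin 2) F →* Matrix.SpecialLinearGroup (Fin 2) F :=
    { toFun := fun x => ⟨a * x.1 * a⁻¹, by
        rw [Matrix.det_mul, Matrix.det_mul, x.2, mul_one, ← Matrix.det_mul, Matrix.mul_nonsing_inv _ hu,
          Matrix.det_one]⟩
      map_one' := by
        apply Subtype.ext
        show a * (1 : Matrix.SpecialLinearGroup (Fin 2) F).1 * a⁻¹ = 1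
        rw [Matrix.SpecialLinearGroup.coe_one, mul_one, Matrix.mul_nonsing_inv _ hu]
      map_mul' := fun x y => by
        apply Subtype.ext
        show a * (x * y).1 * a⁻¹ = (a * x.1 * a⁻¹) * (a * y.1 * a⁻¹)
        rw [Matrix.SpecialLinearGroup.coe_mul]
        have h1 : a⁻¹ * a = 1 := Matrix.nonsing_inv_mul _ hu
        calc a * (x.1 * y.1) * a⁻¹ = a * x.1 * 1 * y.1 * a⁻¹ := by simp only [mul_assoc, one_mul]
          _ = _ := by rw [← h1]; simp only [mul_assoc] }
  have hc : ∀ x, (c x).1 * a = a * x.1 := by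
    intro x
    show a * x.1 * a⁻¹ * a = a * x.1
    rw [mul_assoc, Matrix.nonsing_inv_mul _ hu, mul_one]
  have key : ∀ x, g * I.ι x = I.ι (c x) * g ∨ g * I.ι x = z * (I.ι (c x) * g) := by
    intro x
    have h1 := I.mul hg (I.Rι x)
    have h2 := I.mul (I.Rι (c x)) hg
    refine I.eq_of (c := 1) (d := 1) h2 h1 ?_ ?_
    · rw [one_smul]; exact (hc x).symm
    · rw [one_smul, mul_one, one_mul]
  have hsq : ∀ x, g * I.ι (x * x) = I.ι (c (x * x)) * g := by
    intro x
    rw [map_mul, map_mul, map_mul]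
    rcases key x with h | h
    · rw [← mul_assoc, h, mul_assoc, h, mul_assoc]
    · calc g * (I.ι x * I.ι x) = (g * I.ι x) * I.ι x := by rw [mul_assoc]
        _ = (z * (I.ι (c x) * g)) * I.ι x := by rw [h]
        _ = (z * I.ι (c x)) * (g * I.ι x) := by simp only [mul_assoc]
        _ = (z * (I.ι (c x) * z)) * (I.ι (c x) * g) := by rw [h]; simp only [mul_assoc]
        _ = (z * z) * (I.ι (c x) * (I.ι (c x) * g)) := by rw [I.ι_z]; simp only [mul_assoc]
        _ = _ := by rw [I.z_sq, one_mul, mul_assoc]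
  have hall : (MulAut.conj g).toMonoidHom.comp I.ι = I.ι.comp c := by
    refine MonoidHom.eq_of_eqOn_dense closure_SL ?_
    haveI : NeZero (2 : F) := ⟨I.two⟩
    rintro _ (⟨t, rfl⟩ | ⟨t, rfl⟩)
    · have h3 : up t = up (t / 2) * up (t / 2) := by rw [up_add, add_halves]
      have h4 := hsq (up (t / 2))
      rw [← h3] at h4
      show g * I.ι (up t) * g⁻¹ = I.ι (c (up t))
      rw [h4, mul_inv_cancel_right]
    · have h3 : lo t = lo (t / 2) * lo (t / 2) := by rw [lo_add, add_halves]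
      have h4 := hsq (lo (t / 2))
      rw [← h3] at h4
      show g * I.ι (lo t) * g⁻¹ = I.ι (c (lo t))
      rw [h4, mul_inv_cancel_right]
  have h5 : c x = x' := by
    apply Subtype.ext
    show a * x.1 * a⁻¹ = x'.1
    rw [← hx, mul_assoc, Matrix.mul_nonsing_inv _ hu, mul_one]
  have h6 : g * I.ι x * g⁻¹ = I.ι (c x) := DFunLike.congr_fun hall x
  rw [← h5, ← h6, inv_mul_cancel_right]

theorem comm_ι {g : G} {a : Matrix (Fin 2) (Fin 2) F} {M : Module.End F V} {c : F} (hg : I.R g a M)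
    (ha : a = c • (1 : Matrix (Fin 2) (Fin 2) F)) (x : Matrix.SpecialLinearGroup (Fin 2) F) : g * I.ι x = I.ι x * g := by
  refine I.conj_ι hg ?_
  rw [ha, smul_mul_assoc, mul_smul_comm, one_mul, mul_one]

end E7I

end Cfsg.Agent.H627.Co3
end

-- part: H627/Co3/Mat2
section
/-!
# S1920, case B, `E₇(q)`: 2 x 2 matrices (helper627)
-/

set_option autoImplicit false

namespace Cfsg.Agent.H627.Co3

open Matrix

variable {F : Type*} [Field F]

/-- `a` is scalar -/
def Sc (a : Matrix (Fin 2) (Fin 2) F) : Prop := ∃ c : F, a = c • (1 : Matrix (Fin 2) (Fin 2) F)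

theorem sc_of {a : Matrix (Fin 2) (Fin 2) F} (h1 : a 0 1 = 0) (h2 : a 1 0 = 0) (h3 : a 0 0 = a 1 1) : Sc a := by
  refine ⟨a 0 0, ?_⟩
  ext i j
  (revert i j; simp only [h1, h2, h3, _root_.Fin.forall_fin_succ, Fin.isValue, _root_.Matrix.smul_apply, _root_.smul_eq_mul, _root_.Fin.succ_zero_eq_one, _root_.IsEmpty.forall_iff, _root_.and_true, _root_.Matrix.one_apply_eq, _root_.mul_one, Nat.reduceAdd, _root_.ne_eq, _root_.zero_ne_one, _root_.not_false_eq_true, _root_.Matrix.one_apply_ne, _root_.MulZeroClass.mul_zero, _root_.and_self, _root_.Fin.succ_ne_zero])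

omit [Field F] in
theorem entries {a b : Matrix (Fin 2) (Fin 2) F} (h : a = b) :
    a 0 0 = b 0 0 ∧ a 0 1 = b 0 1 ∧ a 1 0 = b 1 0 ∧ a 1 1 = b 1 1 := by
  subst h; exact ⟨rfl, rfl, rfl, rfl⟩

theorem tr0 {a : Matrix (Fin 2) (Fin 2) F} {δ : F} (h : a * a = δ • (1 : Matrix (Fin 2) (Fin 2) F)) (hn : ¬ Sc a) :
    a 1 1 = - a 0 0 := by
  obtain ⟨h00, h01, h10, h11⟩ := entries h
  simp only [Matrix.mul_apply, Fin.sum_univ_two, Matrix.smul_apply, Matrix.one_apply, smul_eq_mul] at h00 h01 h10 h11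
  simp only [_root_.Fin.isValue, ↓ _root_.reduceIte, _root_.mul_one, _root_.zero_ne_one, _root_.MulZeroClass.mul_zero, _root_.one_ne_zero] at h00 h01 h10 h11
  by_contra hne
  have hs : a 0 0 + a 1 1 ≠ 0 := fun h0 => hne (eq_neg_of_add_eq_zero_right h0)
  apply hn
  refine sc_of ?_ ?_ ?_
  · refine (mul_eq_zero.1 (?_ : (a 0 0 + a 1 1) * a 0 1 = 0)).resolve_left hs
    linear_combination h01
  · refine (mul_eq_zero.1 (?_ : (a 0 0 + a 1 1) * a 1 0 = 0)).resolve_left hs
    linear_combination h10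
  · refine sub_eq_zero.1 ((mul_eq_zero.1 (?_ : (a 0 0 + a 1 1) * (a 0 0 - a 1 1) = 0)).resolve_left hs)
    linear_combination h00 - h11

theorem comm_lin {b c : Matrix (Fin 2) (Fin 2) F} (hb : ¬ Sc b) (h : b * c = c * b) :
    ∃ α β : F, c = α • (1 : Matrix (Fin 2) (Fin 2) F) + β • b := by
  obtain ⟨h00, h01, h10, h11⟩ := entries h
  simp only [Matrix.mul_apply, Fin.sum_univ_two] at h00 h01 h10 h11
  have key : ∀ α β : F, c 0 0 = α + β * b 0 0 → c 0 1 = β * b 0 1 → c 1 0 = β * b 1 0 → c 1 1 = α + β * b 1 1 →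
      c = α • (1 : Matrix (Fin 2) (Fin 2) F) + β • b := by
    intro α β e1 e2 e3 e4
    ext i j
    (revert i j; simp only [e1, e2, e3, e4, _root_.Fin.forall_fin_succ, _root_.Matrix.add_apply, _root_.Matrix.smul_apply, _root_.smul_eq_mul, Fin.isValue, _root_.Fin.succ_zero_eq_one, _root_.IsEmpty.forall_iff, _root_.and_true, _root_.Matrix.one_apply_eq, _root_.mul_one, Nat.reduceAdd, _root_.ne_eq, _root_.zero_ne_one, _root_.not_false_eq_true, _root_.Matrix.one_apply_ne, _root_.MulZeroClass.mul_zero, _root_.zero_add, _root_.and_self, _root_.Fin.succ_ne_zero])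
  by_cases h1 : b 0 1 = 0
  · by_cases h2 : b 1 0 = 0
    · have h3 : b 0 0 - b 1 1 ≠ 0 := fun h3 => hb (sc_of h1 h2 (sub_eq_zero.1 h3))
      rw [h1] at h01 h00
      rw [h2] at h10 h11
      refine ⟨c 0 0 - (c 0 0 - c 1 1) / (b 0 0 - b 1 1) * b 0 0, (c 0 0 - c 1 1) / (b 0 0 - b 1 1), key _ _ ?_ ?_ ?_ ?_⟩
      · ring
      · rw [h1, mul_zero]
        refine (mul_eq_zero.1 (?_ : (b 0 0 - b 1 1) * c 0 1 = 0)).resolve_left h3
        linear_combination h01
      · rw [h2, mul_zero]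
        refine (mul_eq_zero.1 (?_ : (b 0 0 - b 1 1) * c 1 0 = 0)).resolve_left h3
        linear_combination -h10
      · field_simp; ring
    · refine ⟨c 0 0 - c 1 0 / b 1 0 * b 0 0, c 1 0 / b 1 0, key _ _ ?_ ?_ ?_ ?_⟩
      · ring
      · field_simp; linear_combination -h00
      · field_simp
      · field_simp; linear_combination -h10
  · refine ⟨c 0 0 - c 0 1 / b 0 1 * b 0 0, c 0 1 / b 0 1, key _ _ ?_ ?_ ?_ ?_⟩
    · ring
    · field_simp
    · field_simp; linear_combination h00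
    · field_simp; linear_combination h01

theorem comm_comm {b c d : Matrix (Fin 2) (Fin 2) F} (hb : ¬ Sc b) (hc : b * c = c * b) (hd : b * d = d * b) :
    c * d = d * c := by
  obtain ⟨α, β, rfl⟩ := comm_lin hb hc
  obtain ⟨γ, δ, rfl⟩ := comm_lin hb hd
  simp only [add_mul, mul_add, smul_mul_assoc, mul_smul_comm, one_mul, mul_one]
  module

theorem not_sc_of_anti (h2 : (2 : F) ≠ 0) {a b : Matrix (Fin 2) (Fin 2) F} (hab : a * b = - (b * a)) (hd : (b * a).det ≠ 0) :
    ¬ Sc a := by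
  rintro ⟨c, rfl⟩
  rw [smul_mul_assoc, mul_smul_comm, one_mul, mul_one, eq_neg_iff_add_eq_zero, ← add_smul, ← two_mul] at hab
  rw [mul_smul_comm, mul_one] at hd
  rw [mul_smul] at hab
  rcases smul_eq_zero.1 hab with h | h
  · exact h2 h
  · rw [h] at hd
    exact hd Matrix.det_zero

theorem sc_of_comm (h2 : (2 : F) ≠ 0) {a b c : Matrix (Fin 2) (Fin 2) F} (hab : a * b = - (b * a)) (hd : (b * a).det ≠ 0)
    (ha : a * c = c * a) (hb : b * c = c * b) : Sc c := by
  obtain ⟨α, β, rfl⟩ := comm_lin (not_sc_of_anti h2 hab hd) ha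
  simp only [add_mul, mul_add, smul_mul_assoc, mul_smul_comm, one_mul, mul_one] at hb
  have h3 : β • (b * a) = β • (a * b) := add_left_cancel hb
  rw [hab, smul_neg, eq_neg_iff_add_eq_zero, ← two_smul F, smul_smul] at h3
  rcases smul_eq_zero.1 h3 with h | h
  · refine ⟨α, ?_⟩
    rw [(mul_eq_zero.1 h).resolve_left h2, zero_smul, add_zero]
  · rw [h] at hd
    exact absurd Matrix.det_zero hd

/-- an element commuting with the nonscalar `b`, both with scalar squares -/
theorem sc_or {a b : Matrix (Fin 2) (Fin 2) F} (h2 : (2 : F) ≠ 0) (hb : ¬ Sc b) (h : b * a = a * b) {δ ε : F}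
    (ha : a * a = δ • (1 : Matrix (Fin 2) (Fin 2) F)) (hbb : b * b = ε • (1 : Matrix (Fin 2) (Fin 2) F)) :
    Sc a ∨ ∃ β : F, a = β • b := by
  obtain ⟨α, β, rfl⟩ := comm_lin hb h
  by_cases hβ : β = 0
  · left; exact ⟨α, by rw [hβ, zero_smul, add_zero]⟩
  by_cases hα : α = 0
  · right; exact ⟨β, by rw [hα, zero_smul, zero_add]⟩
  exfalso
  apply hb
  simp only [add_mul, mul_add, smul_mul_assoc, mul_smul_comm, one_mul, mul_one, hbb] at ha
  refine ⟨(2 * α * β)⁻¹ * (δ - α * α - β * β * ε), ?_⟩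
  have h3 : (2 * α * β) • b = (δ - α * α - β * β * ε) • (1 : Matrix (Fin 2) (Fin 2) F) := by
    have h4 : (2 * α * β) • b + (α * α + β * β * ε) • (1 : Matrix (Fin 2) (Fin 2) F) = δ • 1 := by
      rw [← ha]; module
    rw [eq_sub_of_add_eq h4]; module
  rw [mul_smul, ← h3, smul_smul, inv_mul_cancel₀ (mul_ne_zero (mul_ne_zero h2 hα) hβ), one_smul]

theorem exists_XY [Finite F] (h2 : (2 : F) ≠ 0) {D : F} (hD : D ≠ 0) : ∃ X Y : F, X ^ 2 - D * Y ^ 2 = -1 := by
  have := Fintype.ofFinite F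
  have hodd : Fintype.card F % 2 = 1 := by
    rw [← Nat.odd_iff, ← Nat.not_even_iff_odd, even_iff_two_dvd]
    intro h
    have h3 := FiniteField.cast_card_eq_zero F
    obtain ⟨p, hp⟩ := CharP.exists F
    have hpp : p.Prime := (CharP.char_is_prime_or_zero F p).resolve_right (CharP.char_ne_zero_of_finite F p)
    obtain ⟨n, -, hn⟩ := FiniteField.card F p
    rw [hn] at h
    have h4 : p = 2 := ((Nat.prime_dvd_prime_iff_eq Nat.prime_two hpp).1 (Nat.prime_two.dvd_of_dvd_pow h)).symm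
    apply h2
    have h5 := CharP.cast_eq_zero F p
    rw [h4] at h5
    exact_mod_cast h5
  obtain ⟨X, Y, h⟩ := FiniteField.exists_root_sum_quadratic (R := F) (f := Polynomial.X ^ 2 + Polynomial.C 1)
    (g := Polynomial.C (-D) * Polynomial.X ^ 2) (by
      rw [Polynomial.degree_X_pow_add_C (by norm_num)]; rfl) (by
      rw [Polynomial.degree_C_mul_X_pow _ (neg_ne_zero.2 hD)]; rfl) hodd
  simp only [_root_.map_one, _root_.Polynomial.eval_add, _root_.Polynomial.eval_pow, _root_.Polynomial.eval_X, _root_.Polynomial.eval_one, _root_.map_neg, _root_.neg_mul, _root_.Polynomial.eval_neg, _root_.Polynomial.eval_mul, _root_.Polynomial.eval_C] at h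
  exact ⟨X, Y, by linear_combination h⟩

/-- an element of `SL₂` with square `-1` anticommuting with `a` -/
theorem exists_anti [Finite F] (h2 : (2 : F) ≠ 0) {a : Matrix (Fin 2) (Fin 2) F} (ht : a 1 1 = - a 0 0) (hd : a.det ≠ 0) :
    ∃ j : Matrix.SpecialLinearGroup (Fin 2) F, j.1 * j.1 = -1 ∧ a * j.1 = - (j.1 * a) := by
  rw [Matrix.det_fin_two, ht] at hd
  have key : ∀ x y w : F, x ^ 2 + y * w = -1 → 2 * a 0 0 * x + a 0 1 * w + a 1 0 * y = 0 →
      ∃ j : Matrix.SpecialLinearGroup (Fin 2) F, j.1 * j.1 = -1 ∧ a * j.1 = - (j.1 * a) := by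
    intro x y w h1 h3
    refine ⟨⟨!![x, y; w, -x], ?_⟩, ?_, ?_⟩
    · rw [Matrix.det_fin_two]
      simp
      linear_combination -h1
    · ext i j
      (revert i j; simp only [Matrix.mul_apply, Fin.sum_univ_two, _root_.Fin.forall_fin_succ, _root_.Matrix.of_apply, _root_.Matrix.cons_val', _root_.Matrix.cons_val_fin_one, Fin.isValue, _root_.Matrix.cons_val_zero, _root_.Matrix.cons_val_one, _root_.Matrix.neg_apply, _root_.Matrix.cons_val_succ, _root_.mul_neg, _root_.IsEmpty.forall_iff, _root_.Matrix.one_apply_eq, Nat.reduceAdd, _root_.Fin.succ_zero_eq_one, _root_.ne_eq, _root_.zero_ne_one, _root_.not_false_eq_true, _root_.Matrix.one_apply_ne, _root_.neg_zero, _root_.neg_mul, _root_.Fin.succ_ne_zero, _root_.neg_neg, _root_.and_true, _root_.true_and]) <;> (repeat' with_reducible apply And.intro)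
      · linear_combination h1
      · ring
      · ring
      · linear_combination h1
    · have ha : a = !![a 0 0, a 0 1; a 1 0, - a 0 0] := by
        ext i j
        (revert i j; simp only [ht, _root_.Fin.forall_fin_succ, Fin.isValue, _root_.Matrix.of_apply, _root_.Matrix.cons_val', _root_.Matrix.cons_val_fin_one, _root_.Matrix.cons_val_zero, _root_.Matrix.cons_val_succ, _root_.Fin.succ_zero_eq_one, _root_.IsEmpty.forall_iff, _root_.and_true, _root_.and_self])
      generalize a 0 0 = p at *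
      generalize a 0 1 = q at *
      generalize a 1 0 = r at *
      subst ha
      rw [Matrix.mul_fin_two, Matrix.mul_fin_two]
      ext i j
      (revert i j; simp only [_root_.Fin.forall_fin_succ, _root_.mul_neg, _root_.neg_mul, _root_.neg_neg, _root_.Matrix.of_apply, _root_.Matrix.cons_val', _root_.Matrix.cons_val_fin_one, _root_.Matrix.neg_apply, Fin.isValue, _root_.Matrix.cons_val_zero, _root_.Matrix.cons_val_succ, _root_.forall_const, _root_.neg_add_rev, _root_.and_true, _root_.true_and]) <;> (repeat' with_reducible apply And.intro)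
      · linear_combination h3
      · ring
      · ring
      · linear_combination h3
  by_cases h01 : a 0 1 = 0
  · by_cases h10 : a 1 0 = 0
    · exact key 0 1 (-1) (by ring) (by rw [h01, h10]; ring)
    · -- `y = -(2 p x + q w) / r`
      obtain ⟨X, Y, hXY⟩ := exists_XY h2 (D := a 0 0 ^ 2 + a 0 1 * a 1 0) (by
        intro h; apply hd; linear_combination -h)
      refine key (X + a 0 0 * Y) (-(2 * a 0 0 * (X + a 0 0 * Y) + a 0 1 * (Y * a 1 0)) / a 1 0) (Y * a 1 0) ?_ ?_
      · field_simp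
        linear_combination hXY
      · field_simp; ring
  · obtain ⟨X, Y, hXY⟩ := exists_XY h2 (D := a 0 0 ^ 2 + a 0 1 * a 1 0) (by
      intro h; apply hd; linear_combination -h)
    refine key (X + a 0 0 * Y) (Y * a 0 1) (-(2 * a 0 0 * (X + a 0 0 * Y) + a 1 0 * (Y * a 0 1)) / a 0 1) ?_ ?_
    · field_simp
      linear_combination hXY
    · field_simp; ring

/-- scaling a nonscalar matrix with scalar square and square determinant into `SL₂` -/
theorem exists_SL {b : Matrix (Fin 2) (Fin 2) F} {δ : F} (hb : ¬ Sc b)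
    (hbb : b * b = δ • (1 : Matrix (Fin 2) (Fin 2) F)) (hd : b.det ≠ 0) (hs : IsSquare b.det) :
    ∃ j : Matrix.SpecialLinearGroup (Fin 2) F, j.1 * j.1 = -1 ∧ ∃ e : F, e ≠ 0 ∧ j.1 = e • b := by
  obtain ⟨e, he⟩ := hs
  have he0 : e ≠ 0 := by rintro rfl; rw [mul_zero] at he; exact hd he
  have ht := tr0 hbb hb
  have h1 : (e⁻¹ • b).det = 1 := by
    rw [Matrix.det_smul, Fintype.card_fin, he]; field_simp
  have h3 : b * b = (-(e * e)) • (1 : Matrix (Fin 2) (Fin 2) F) := by
    rw [← he, Matrix.det_fin_two]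
    ext i j
    (revert i j; simp only [Matrix.mul_apply, Fin.sum_univ_two, ht, _root_.Fin.forall_fin_succ, Fin.isValue, _root_.mul_neg, _root_.neg_sub, _root_.sub_neg_eq_add, _root_.Matrix.smul_apply, _root_.smul_eq_mul, _root_.Fin.succ_zero_eq_one, _root_.IsEmpty.forall_iff, _root_.and_true, _root_.Matrix.one_apply_eq, _root_.mul_one, Nat.reduceAdd, _root_.ne_eq, _root_.zero_ne_one, _root_.not_false_eq_true, _root_.Matrix.one_apply_ne, _root_.MulZeroClass.mul_zero, _root_.Fin.succ_ne_zero, _root_.neg_mul, _root_.neg_neg, _root_.add_left_inj]) <;> (repeat' with_reducible apply And.intro) <;> ring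
  refine ⟨⟨e⁻¹ • b, h1⟩, ?_, e⁻¹, inv_ne_zero he0, rfl⟩
  show (e⁻¹ • b) * (e⁻¹ • b) = -1
  rw [smul_mul_assoc, mul_smul_comm, h3, smul_smul, smul_smul]
  have h4 : e⁻¹ * e⁻¹ * -(e * e) = -1 := by field_simp
  rw [h4, neg_smul, one_smul]

/-- one of three determinants is a square -/
theorem exists_sq [Finite F] {x y : F} (hx : ¬ IsSquare x) (hy : ¬ IsSquare y) : IsSquare (x * y) := by
  have := Fintype.ofFinite F
  classical
  by_cases hF : ringChar F = 2
  · exact FiniteField.isSquare_of_char_two hF _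
  have h1 : quadraticChar F x = -1 := quadraticChar_neg_one_iff_not_isSquare.2 hx
  have h2 : quadraticChar F y = -1 := quadraticChar_neg_one_iff_not_isSquare.2 hy
  have hx0 : x ≠ 0 := by rintro rfl; exact hx ⟨0, by simp⟩
  have hy0 : y ≠ 0 := by rintro rfl; exact hy ⟨0, by simp⟩
  rw [← quadraticChar_one_iff_isSquare (mul_ne_zero hx0 hy0), map_mul, h1, h2]
  rfl

end Cfsg.Agent.H627.Co3
end

-- part: H79/Co3/WLem
section
/-!
# S1920, `E₇`: the W-lemma (helper79)

`T` a skew similitude whose multiplier `μ` is not a square, `M ∈ Ω` an involution commuting with `T`: the dimension of the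
`(-1)`-eigenspace of `M` is divisible by 4.
-/

set_option autoImplicit false

namespace Cfsg.Agent.H79.Co3

open Module

section

variable {F V : Type*} [Field F] [AddCommGroup V] [Module F V] {B : LinearMap.BilinForm F V} {T : V →ₗ[F] V} {μ : F}

/-- a nondegenerate nonzero subspace contains a nonisotropic vector -/
theorem exists_ani (h2 : (2 : F) ≠ 0) (hs : ∀ u v, B u v = B v u) {U : Submodule F V} (hU : U ≠ ⊥)
    (hn : ∀ u ∈ U, (∀ v ∈ U, B u v = 0) → u = 0) : ∃ u ∈ U, B u u ≠ 0 := by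
  by_contra hcon
  push Not at hcon
  apply hU
  rw [Submodule.eq_bot_iff]
  intro u hu
  refine hn u hu fun v hv => ?_
  have h1 := hcon (u + v) (U.add_mem hu hv)
  simp only [map_add, LinearMap.add_apply] at h1
  rw [hcon u hu, hcon v hv, hs v u] at h1
  have h3 : 2 * B u v = 0 := by linear_combination h1
  exact (mul_eq_zero.1 h3).resolve_left h2

/-- an orthogonal basis in pairs `v`, `T v` -/
theorem exists_pairs [FiniteDimensional F V] (h2 : (2 : F) ≠ 0) (hs : ∀ u v, B u v = B v u) (hμ : μ ≠ 0)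
    (hT : ∀ u v, B (T u) (T v) = μ * B u v) (hsk : ∀ u v, B (T u) v = - B u (T v)) :
    ∀ n, ∀ U : Submodule F V, finrank F U ≤ n → (∀ u ∈ U, (∀ v ∈ U, B u v = 0) → u = 0) → (∀ u ∈ U, T u ∈ U) →
      ∃ (m k : ℕ) (w : Fin k → V) (c : F), k = 2 * m ∧ c ≠ 0 ∧ (∀ i, w i ∈ U) ∧ (∀ i j, i ≠ j → B (w i) (w j) = 0) ∧
        (∏ i, B (w i) (w i) = μ ^ m * c ^ 2) ∧ U ≤ Submodule.span F (Set.range w) := by
  intro n
  induction n with
  | zero =>
    intro U hU _ _
    have h0 : U = ⊥ := Submodule.finrank_eq_zero.1 (Nat.le_zero.1 hU)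
    refine ⟨0, 0, Fin.elim0, 1, rfl, one_ne_zero, fun i => i.elim0, fun i => i.elim0, by simp, ?_⟩
    rw [h0]
    exact bot_le
  | succ n ih =>
    intro U hU hn hTU
    by_cases h0 : U = ⊥
    · refine ⟨0, 0, Fin.elim0, 1, rfl, one_ne_zero, fun i => i.elim0, fun i => i.elim0, by simp, ?_⟩
      rw [h0]
      exact bot_le
    obtain ⟨v, hv, hb⟩ := exists_ani h2 hs h0 hn
    have hvT : B v (T v) = 0 := by
      have h1 : B v (T v) = - B v (T v) := (hs _ _).trans (hsk v v)
      have h3 : (2 : F) * B v (T v) = 0 := by linear_combination h1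
      exact (mul_eq_zero.1 h3).resolve_left h2
    have hTv : B (T v) v = 0 := by rw [hs, hvT]
    have hbT : B (T v) (T v) ≠ 0 := by
      rw [hT]
      exact mul_ne_zero hμ hb
    let U' : Submodule F V :=
      { carrier := {u | u ∈ U ∧ B u v = 0 ∧ B u (T v) = 0}
        zero_mem' := ⟨U.zero_mem, by rw [map_zero, LinearMap.zero_apply], by rw [map_zero, LinearMap.zero_apply]⟩
        add_mem' := by
          rintro a b ⟨ha, ha1, ha2⟩ ⟨hb, hb1, hb2⟩
          refine ⟨U.add_mem ha hb, ?_, ?_⟩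
          · rw [map_add, LinearMap.add_apply, ha1, hb1, add_zero]
          · rw [map_add, LinearMap.add_apply, ha2, hb2, add_zero]
        smul_mem' := by
          rintro c a ⟨ha, ha1, ha2⟩
          refine ⟨U.smul_mem c ha, ?_, ?_⟩
          · rw [map_smul, LinearMap.smul_apply, ha1, smul_zero]
          · rw [map_smul, LinearMap.smul_apply, ha2, smul_zero] }
    have hmem : ∀ u, u ∈ U' ↔ u ∈ U ∧ B u v = 0 ∧ B u (T v) = 0 := fun _ => Iff.rfl
    have hlt : U' < U := by
      refine lt_of_le_of_ne (fun u hu => ((hmem u).1 hu).1) fun h => hb ?_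
      rw [← h] at hv
      exact ((hmem v).1 hv).2.1
    have hdec : ∀ u ∈ U, ∃ u' ∈ U', ∃ a b : F, u = a • v + (b • T v + u') := by
      intro u hu
      refine ⟨u - (B u v / B v v) • v - (B u (T v) / B (T v) (T v)) • T v, (hmem _).2 ⟨?_, ?_, ?_⟩,
        B u v / B v v, B u (T v) / B (T v) (T v), by abel⟩
      · exact U.sub_mem (U.sub_mem hu (U.smul_mem _ hv)) (U.smul_mem _ (hTU v hv))
      · rw [map_sub, map_sub, LinearMap.sub_apply, LinearMap.sub_apply, map_smul, map_smul, LinearMap.smul_apply,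
          LinearMap.smul_apply, smul_eq_mul, smul_eq_mul, hTv, div_mul_cancel₀ _ hb]
        ring
      · rw [map_sub, map_sub, LinearMap.sub_apply, LinearMap.sub_apply, map_smul, map_smul, LinearMap.smul_apply,
          LinearMap.smul_apply, smul_eq_mul, smul_eq_mul, hvT, div_mul_cancel₀ _ hbT]
        ring
    obtain ⟨m, k, w, c, hk, hc, hwU, hort, hprod, hspan⟩ := ih U'
      (by have := Submodule.finrank_lt_finrank_of_lt hlt; omega)
      (by
        intro u hu h
        obtain ⟨huU, h1, h3⟩ := (hmem u).1 hu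
        apply hn u huU
        intro x hx
        obtain ⟨x', hx', a, b, rfl⟩ := hdec x hx
        rw [map_add, map_add, map_smul, map_smul, h1, h3, h x' hx', smul_zero, smul_zero, add_zero, add_zero])
      (by
        intro u hu
        obtain ⟨huU, h1, h3⟩ := (hmem u).1 hu
        refine (hmem _).2 ⟨hTU u huU, ?_, ?_⟩
        · rw [hsk, h3, neg_zero]
        · rw [hT, h1, mul_zero])
    have hw := fun i => (hmem _).1 (hwU i)
    refine ⟨m + 1, k + 1 + 1, Fin.cons v (Fin.cons (T v) w), B v v * c, by omega, mul_ne_zero hb hc, ?_, ?_, ?_, ?_⟩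
    · intro i
      refine Fin.cases ?_ (fun i => ?_) i
      · exact hv
      · rw [Fin.cons_succ]
        refine Fin.cases ?_ (fun i => ?_) i
        · exact hTU v hv
        · rw [Fin.cons_succ]
          exact (hw i).1
    · intro i j
      refine Fin.cases ?_ (fun i => ?_) i
      · refine Fin.cases ?_ (fun j => ?_) j
        · intro h
          exact absurd rfl h
        · intro _
          rw [Fin.cons_succ, Fin.cons_zero]
          refine Fin.cases ?_ (fun j => ?_) j
          · exact hvT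
          · rw [Fin.cons_succ, hs]
            exact (hw j).2.1
      · rw [Fin.cons_succ]
        refine Fin.cases ?_ (fun i => ?_) i
        · refine Fin.cases ?_ (fun j => ?_) j
          · intro _
            rw [Fin.cons_zero, Fin.cons_zero]
            exact hTv
          · rw [Fin.cons_succ, Fin.cons_zero]
            refine Fin.cases ?_ (fun j => ?_) j
            · intro h
              exact absurd rfl h
            · intro _
              rw [Fin.cons_succ, hs]
              exact (hw j).2.2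
        · rw [Fin.cons_succ]
          refine Fin.cases ?_ (fun j => ?_) j
          · intro _
            rw [Fin.cons_zero]
            exact (hw i).2.1
          · rw [Fin.cons_succ]
            refine Fin.cases ?_ (fun j => ?_) j
            · intro _
              rw [Fin.cons_zero]
              exact (hw i).2.2
            · intro h
              rw [Fin.cons_succ]
              exact hort i j (fun hij => h (by rw [hij]))
    · rw [Fin.prod_univ_succ, Fin.prod_univ_succ]
      simp only [Fin.cons_succ, Fin.cons_zero]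
      rw [hprod, hT]
      ring
    · intro u hu
      obtain ⟨u', hu', a, b, rfl⟩ := hdec u hu
      rw [Fin.range_cons, Fin.range_cons]
      refine Submodule.mem_span_insert.2 ⟨a, _, Submodule.mem_span_insert.2 ⟨b, u', hspan hu', rfl⟩, rfl⟩

/-- the length of an orthogonal nonisotropic basis -/
theorem linInd_of_orth {ι : Type*} [Fintype ι] {w : ι → V} (hort : ∀ i j, i ≠ j → B (w i) (w j) = 0)
    (h0 : ∀ i, B (w i) (w i) ≠ 0) : LinearIndependent F w := by
  classical
  rw [Fintype.linearIndependent_iff]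
  intro g hg i
  have h1 : B (∑ j, g j • w j) (w i) = g i * B (w i) (w i) := by
    rw [map_sum, LinearMap.sum_apply, Finset.sum_eq_single i]
    · rw [map_smul, LinearMap.smul_apply, smul_eq_mul]
    · intro j _ hj
      rw [map_smul, LinearMap.smul_apply, hort j i hj, smul_zero]
    · intro h
      exact absurd (Finset.mem_univ i) h
  rw [hg, map_zero, LinearMap.zero_apply] at h1
  exact (mul_eq_zero.1 h1.symm).resolve_right (h0 i)

end

open Cfsg.Agent.H627.Co3

variable {F V : Type*} [Field F] [AddCommGroup V] [Module F V] {B : LinearMap.BilinForm F V}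

/-- **the W-lemma** -/
theorem w_lemma {G : Type*} [Group G] {z : G} (I : E7I z F B) {M T : Module.End F V} {μ : F} (hM : M ∈ I.Om)
    (hMM : M * M = 1) (hS : _root_.Cfsg.Agent.H627.Co3.Sym B M) (hTM : T * M = M * T) (hT : ∀ u v, B (T u) (T v) = μ * B u v)
    (hsk : ∀ u v, B (T u) v = - B u (T v)) (hmu : ¬ IsSquare μ) : 4 ∣ finrank F (LinearMap.ker (M + 1)) := by
  classical
  have hfd : FiniteDimensional F V := FiniteDimensional.of_finrank_pos (by rw [I.dim]; norm_num)
  have hμ : μ ≠ 0 := by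
    rintro rfl
    exact hmu IsSquare.zero
  have hMM' : ∀ v, M (M v) = v := fun v => congrArg (fun f : Module.End F V => f v) hMM
  have hTM' : ∀ v, T (M v) = M (T v) := fun v => congrArg (fun f : Module.End F V => f v) hTM
  -- the eigenspaces
  have hmem : ∀ (e : F) (v : V), v ∈ LinearMap.ker (M + e • (1 : Module.End F V)) ↔ M v = -(e • v) := by
    intro e v
    rw [LinearMap.mem_ker, LinearMap.add_apply, LinearMap.smul_apply, Module.End.one_apply, add_eq_zero_iff_eq_neg]
  have h2 := I.two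
  have key : ∀ e : F, e * e = 1 → ∃ (m k : ℕ) (w : Fin k → V) (c : F), k = 2 * m ∧ c ≠ 0 ∧
      (∀ i, w i ∈ LinearMap.ker (M + e • (1 : Module.End F V))) ∧ (∀ i j, i ≠ j → B (w i) (w j) = 0) ∧
        (∏ i, B (w i) (w i) = μ ^ m * c ^ 2) ∧
        LinearMap.ker (M + e • (1 : Module.End F V)) ≤ Submodule.span F (Set.range w) := by
    intro e he
    refine exists_pairs h2 I.symm hμ hT hsk _ _ le_rfl ?_ ?_
    · intro u hu h
      rw [hmem] at hu
      apply I.nd
      intro x
      -- `x = ½ (x - e M x) + ½ (x + e M x)`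
      have h3 : B u (x - e • M x) = 0 := by
        apply h
        rw [hmem, map_sub, map_smul, hMM', smul_sub, smul_smul, he, one_smul, neg_sub]
      have h4 : B u (x + e • M x) = 0 := by
        have h5 := hS u x
        rw [hu, map_neg, map_smul, LinearMap.neg_apply, LinearMap.smul_apply, smul_eq_mul] at h5
        rw [map_add, map_smul, smul_eq_mul, ← h5]
        linear_combination (-(B u x)) * he
      rw [map_sub] at h3
      rw [map_add] at h4
      have h6 : (2 : F) * B u x = 0 := by linear_combination h3 + h4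
      exact (mul_eq_zero.1 h6).resolve_left h2
    · intro u hu
      rw [hmem] at hu ⊢
      rw [← hTM', hu, map_neg, map_smul]
  obtain ⟨m, k, w, c, hk, hc, hw, hort, hprod, hspan⟩ := key 1 (one_mul 1)
  obtain ⟨m', k', w', c', hk', hc', hw', hort', hprod', hspan'⟩ := key (-1) (by ring)
  have hw1 : ∀ i, M (w i) = -(w i) := fun i => by rw [(hmem _ _).1 (hw i), one_smul]
  have hw1' : ∀ i, M (w' i) = w' i := fun i => by rw [(hmem _ _).1 (hw' i), neg_one_smul, neg_neg]
  have hn0 : ∀ i, B (w i) (w i) ≠ 0 := by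
    intro i h
    have := Finset.prod_eq_zero (f := fun i => B (w i) (w i)) (Finset.mem_univ i) h
    rw [hprod] at this
    exact mul_ne_zero (pow_ne_zero _ hμ) (pow_ne_zero _ hc) this
  have hn0' : ∀ i, B (w' i) (w' i) ≠ 0 := by
    intro i h
    have := Finset.prod_eq_zero (f := fun i => B (w' i) (w' i)) (Finset.mem_univ i) h
    rw [hprod'] at this
    exact mul_ne_zero (pow_ne_zero _ hμ) (pow_ne_zero _ hc') this
  have hcross : ∀ i j, B (w i) (w' j) = 0 := by
    intro i j
    have h3 := hS (w i) (w' j)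
    rw [hw1, hw1', map_neg, LinearMap.neg_apply] at h3
    have h4 : (2 : F) * B (w i) (w' j) = 0 := by linear_combination -h3
    exact (mul_eq_zero.1 h4).resolve_left h2
  -- the combined family
  have hli : LinearIndependent F (Sum.elim w w') := by
    refine linInd_of_orth (B := B) ?_ ?_
    · rintro (i | i) (j | j) hij
      · exact hort i j fun h => hij (by rw [h])
      · exact hcross i j
      · rw [Sum.elim_inr, Sum.elim_inl, I.symm]
        exact hcross j i
      · exact hort' i j fun h => hij (by rw [h])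
    · rintro (i | i)
      · exact hn0 i
      · exact hn0' i
  have hsp : ⊤ ≤ Submodule.span F (Set.range (Sum.elim w w')) := by
    intro x _
    have h3 : x = (2 : F)⁻¹ • (x - M x) + (2 : F)⁻¹ • (x + M x) := by
      rw [← smul_add, sub_add_add_cancel, ← two_smul F, smul_smul, inv_mul_cancel₀ h2, one_smul]
    rw [h3, Set.Sum.elim_range, Submodule.span_union]
    refine Submodule.add_mem_sup (Submodule.smul_mem _ _ (hspan ?_)) (Submodule.smul_mem _ _ (hspan' ?_))
    · rw [hmem, map_sub, hMM', one_smul, neg_sub]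
    · rw [hmem, map_add, hMM', neg_one_smul, neg_neg, add_comm]
  let b : Basis (Fin k ⊕ Fin k') F V := Basis.mk hli hsp
  have hb : ∀ x, b x = Sum.elim w w' x := fun x => Basis.mk_apply hli hsp x
  have hcard : k + k' = 12 := by
    have h3 := finrank_eq_card_basis b
    rw [Fintype.card_sum, Fintype.card_fin, Fintype.card_fin, I.dim] at h3
    exact h3.symm
  let e : Fin k ⊕ Fin k' ≃ Fin 12 := finSumFinEquiv.trans (finCongr hcard)
  let v : Basis (Fin 12) F V := b.reindex e
  have hv : ∀ x, v (e x) = Sum.elim w w' x := by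
    intro x
    rw [Basis.reindex_apply, Equiv.symm_apply_apply, hb]
  let J : Finset (Fin 12) := Finset.univ.map (Function.Embedding.inl.trans e.toEmbedding)
  have hJl : ∀ i : Fin k, e (Sum.inl i) ∈ J := fun i => Finset.mem_map.2 ⟨i, Finset.mem_univ _, rfl⟩
  have hJr : ∀ i : Fin k', e (Sum.inr i) ∉ J := by
    intro i h
    obtain ⟨j, -, hj⟩ := Finset.mem_map.1 h
    have h3 : e (Sum.inl j) = e (Sum.inr i) := hj
    exact absurd (e.injective h3) Sum.inl_ne_inr
  have hMs : M = sgn v J := by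
    refine v.ext fun j => ?_
    obtain ⟨x, rfl⟩ := e.surjective j
    rw [sgn, Basis.constr_basis, hv]
    rcases x with i | i
    · rw [if_pos (hJl i), Sum.elim_inl, hw1]
    · rw [if_neg (hJr i), Sum.elim_inr, hw1']
  have hsg := (I.signs v ?_ J).1 (hMs ▸ hM)
  · have hP : ∏ j ∈ J, B (v j) (v j) = μ ^ m * c ^ 2 := by
      rw [Finset.prod_map, ← hprod]
      refine Finset.prod_congr rfl fun i _ => ?_
      show B (v (e (Sum.inl i))) (v (e (Sum.inl i))) = _
      rw [hv, Sum.elim_inl]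
    obtain ⟨-, s, hs⟩ := hsg
    rw [hP] at hs
    have hm : Even m := by
      by_contra hodd
      rw [Nat.not_even_iff_odd] at hodd
      obtain ⟨t, rfl⟩ := hodd
      apply hmu
      refine ⟨s / (μ ^ t * c), ?_⟩
      have h3 : μ ^ t ≠ 0 := pow_ne_zero _ hμ
      field_simp
      rw [← pow_two] at hs
      rw [← hs]
      ring
    have hdim : finrank F (LinearMap.ker (M + 1)) = k := by
      have h3 : LinearMap.ker (M + 1) = Submodule.span F (Set.range w) := by
        have h4 : LinearMap.ker (M + (1 : F) • (1 : Module.End F V)) = LinearMap.ker (M + 1) := by rw [one_smul]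
        rw [← h4]
        refine le_antisymm hspan (Submodule.span_le.2 ?_)
        rintro _ ⟨i, rfl⟩
        exact hw i
      rw [h3, finrank_span_eq_card (linInd_of_orth hort hn0), Fintype.card_fin]
    rw [hdim, hk]
    obtain ⟨t, ht⟩ := hm
    exact ⟨t, by omega⟩
  · intro i j hij
    obtain ⟨x, rfl⟩ := e.surjective i
    obtain ⟨y, rfl⟩ := e.surjective j
    rw [hv, hv]
    have hxy : x ≠ y := fun h => hij (by rw [h])
    rcases x with i | i <;> rcases y with j | j
    · exact hort i j fun h => hxy (by rw [h])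
    · exact hcross i j
    · rw [Sum.elim_inr, Sum.elim_inl, I.symm]
      exact hcross j i
    · exact hort' i j fun h => hxy (by rw [h])

end Cfsg.Agent.H79.Co3
end

-- part: H627/Co3/Sgn
section
/-!
# S1920, case B, `E₇(q)`: signs (helper627)

`cc g h` : the commutator of `M_g`, `M_h`; `al g h` : the commutator of `a_g`, `a_h`; `ee g` : `M_g` is self-adjoint or skew.
-/

set_option autoImplicit false

namespace Cfsg.Agent.H627.Co3

open Module Subgroup Matrix
open Cfsg.Agent.H13.Co3 Cfsg.Agent.H738.C3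

variable {G : Type*} [Group G] {z : G} {F V : Type*} [Field F] [AddCommGroup V] [Module F V] {B : LinearMap.BilinForm F V}

section Gen

theorem smul_inj {W : Type*} [AddCommGroup W] [Module F W] {c d : F} {w : W} (hw : w ≠ 0) (h : c • w = d • w) : c = d := by
  rw [← sub_eq_zero, ← sub_smul, smul_eq_zero] at h
  exact sub_eq_zero.1 (h.resolve_right hw)

/-- eigenspaces interchanged by `T` -/
theorem fin6 (h2 : (2 : F) ≠ 0) (hd : finrank F V = 12) {M T : Module.End F V} {ν : F} (hν : ν ≠ 0)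
    (hM : M * M = ν ^ 2 • (1 : Module.End F V)) (hT : ∀ u, T u = 0 → u = 0) (hMT : M * T = -(T * M)) :
    finrank F (LinearMap.ker (M + ν • (1 : Module.End F V))) = 6 := by
  have hfd : FiniteDimensional F V := FiniteDimensional.of_finrank_pos (by rw [hd]; norm_num)
  have hMM : ∀ u, M (M u) = ν ^ 2 • u := fun u => by
    have := congrArg (fun f : Module.End F V => f u) hM
    simpa only [_root_.Module.End.mul_apply, _root_.LinearMap.smul_apply, _root_.Module.End.one_apply] using this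
  have hMT' : ∀ u, M (T u) = - T (M u) := fun u => by
    have := congrArg (fun f : Module.End F V => f u) hMT
    simpa using this
  have mem : ∀ (μ : F) u, u ∈ LinearMap.ker (M + μ • (1 : Module.End F V)) ↔ M u = - (μ • u) := by
    intro μ u
    rw [LinearMap.mem_ker]
    simp only [eq_neg_iff_add_eq_zero, _root_.LinearMap.add_apply, _root_.LinearMap.smul_apply, _root_.Module.End.one_apply]
  have hmap : ∀ μ : F, finrank F (LinearMap.ker (M + μ • (1 : Module.End F V))) ≤
      finrank F (LinearMap.ker (M + (-μ) • (1 : Module.End F V))) := by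
    intro μ
    let f : ↥(LinearMap.ker (M + μ • (1 : Module.End F V))) →ₗ[F] ↥(LinearMap.ker (M + (-μ) • (1 : Module.End F V))) :=
      LinearMap.restrict T (fun u hu => by
        rw [mem] at hu ⊢
        rw [hMT', hu, map_neg, map_smul, neg_neg, neg_smul, neg_neg])
    refine LinearMap.finrank_le_finrank_of_injective (f := f) ?_
    rw [← LinearMap.ker_eq_bot, LinearMap.ker_eq_bot']
    rintro ⟨u, hu⟩ h
    have h1 : T u = 0 := congrArg Subtype.val h
    exact Subtype.ext (hT u h1)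
  have hc : IsCompl (LinearMap.ker (M + ν • (1 : Module.End F V))) (LinearMap.ker (M + (-ν) • (1 : Module.End F V))) := by
    constructor
    · rw [Submodule.disjoint_def]
      intro u h1 h3
      rw [mem] at h1 h3
      rw [h1, neg_smul, neg_neg, eq_comm, eq_neg_iff_add_eq_zero, ← two_smul F, smul_smul] at h3
      exact (smul_eq_zero.1 h3).resolve_left (mul_ne_zero h2 hν)
    · rw [codisjoint_iff, eq_top_iff]
      intro u _
      rw [Submodule.mem_sup]
      refine ⟨(2 * ν)⁻¹ • (ν • u - M u), ?_, (2 * ν)⁻¹ • (ν • u + M u), ?_, ?_⟩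
      · rw [mem, map_smul, map_sub, map_smul, hMM]
        module
      · rw [mem, map_smul, map_add, map_smul, hMM]
        module
      · rw [← smul_add]
        have : ν • u - M u + (ν • u + M u) = (2 * ν) • u := by module
        rw [this, smul_smul, inv_mul_cancel₀ (mul_ne_zero h2 hν), one_smul]
  have h3 := Submodule.finrank_add_eq_of_isCompl hc
  have h4 := hmap ν
  have h5 := hmap (-ν)
  rw [neg_neg] at h5
  omega

end Gen

namespace E7I

variable (I : E7I z F B)

open Classical in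
/-- the matrix of `g` on `sl₂` -/
noncomputable def aa (g : G) : Matrix (Fin 2) (Fin 2) F := if h : g * z = z * g then (I.ex g h).choose else 0

open Classical in
/-- the similitude of `g` -/
noncomputable def MM (g : G) : Module.End F V := if h : g * z = z * g then (I.ex g h).choose_spec.choose else 0

theorem R_aM {g : G} (h : g * z = z * g) : I.R g (I.aa g) (I.MM g) := by
  unfold aa MM
  rw [dif_pos h, dif_pos h]
  exact (I.ex g h).choose_spec.choose_spec

theorem prop {g : G} {a : Matrix (Fin 2) (Fin 2) F} {M : Module.End F V} (h : I.R g a M) :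
    (∃ c : F, c ≠ 0 ∧ a = c • I.aa g) ∧ ∃ d : F, d ≠ 0 ∧ M = d • I.MM g := by
  obtain ⟨⟨c, hc⟩, ⟨d, hd⟩⟩ := I.uniq (I.R_aM (I.cz h)) h
  refine ⟨⟨c, ?_, hc⟩, ⟨d, ?_, hd⟩⟩
  · rintro rfl
    apply I.det h
    rw [hc, zero_smul, Matrix.det_zero]
  · rintro rfl
    apply I.M_ne h
    rw [hd, zero_smul]

include I in
theorem one_ne : (1 : F) ≠ -1 := by
  intro h
  apply I.two
  rw [← one_add_one_eq_two]
  nth_rw 2 [h]
  ring

open Classical in
/-- commutator of `M_g`, `M_h` -/
noncomputable def cc (g h : G) : F := if I.MM g * I.MM h = I.MM h * I.MM g then 1 else -1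

open Classical in
/-- commutator of `a_g`, `a_h` -/
noncomputable def al (g h : G) : F := if I.aa g * I.aa h = I.aa h * I.aa g then 1 else -1

open Classical in
/-- `M_g` is self-adjoint or skew -/
noncomputable def ee (g : G) : F := if Sym B (I.MM g) then 1 else -1

theorem cc_or (g h : G) : I.cc g h = 1 ∨ I.cc g h = -1 := by unfold cc; split_ifs <;> simp
theorem al_or (g h : G) : I.al g h = 1 ∨ I.al g h = -1 := by unfold al; split_ifs <;> simp
theorem ee_or (g : G) : I.ee g = 1 ∨ I.ee g = -1 := by unfold ee; split_ifs <;> simp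

/-- some nonzero value of the form -/
theorem exB (I : E7I z F B) : ∃ u v : V, B u v ≠ 0 := by
  obtain ⟨u, hu⟩ := I.nontriv
  by_contra h
  push Not at h
  exact hu (I.nd u (h u))

end E7I

section Sg

variable (I : E7I z F B) {P N0 : Subgroup G} {s : G} {ψ : ↥(normalizer (P : Set G)) →* Equiv.Perm (Fin 6)}
  (C : CB P N0 z s ψ)

include C in
theorem cz {n : G} (hn : n ∈ N0) : n * z = z * n := Act.z_comm C (act_N C hn)

include C in
theorem R_N {n : G} (hn : n ∈ N0) : I.R n (I.aa n) (I.MM n) := I.R_aM (cz C hn)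

theorem comm_ex {g h : G} {a a' : Matrix (Fin 2) (Fin 2) F} {M M' : Module.End F V} (hg : I.R g a M) (hh : I.R h a' M')
    (hc : g * h = h * g ∨ g * h = z * (h * g)) :
    (∃ c : F, c ^ 2 = 1 ∧ a * a' = c • (a' * a)) ∧ ∃ d : F, d ^ 2 = 1 ∧ M * M' = d • (M' * M) := by
  have h1 := I.mul hg hh
  have h2 := I.mul hh hg
  have h3 : I.R (g * h) (a' * a) (M' * M) := by
    rcases hc with h | h
    · rw [h]; exact h2
    · have h4 := I.mul I.R_z h2
      rwa [← h, one_mul, one_mul] at h4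
  obtain ⟨⟨c, hc⟩, ⟨d, hd⟩⟩ := I.uniq h3 h1
  refine ⟨⟨c, ?_, hc⟩, ⟨d, ?_, hd⟩⟩
  · have h5 := congrArg Matrix.det hc
    rw [Matrix.det_smul, Fintype.card_fin, Matrix.det_mul, Matrix.det_mul, mul_comm a.det] at h5
    have h6 : a'.det * a.det ≠ 0 := mul_ne_zero (I.det hh) (I.det hg)
    have h7 : (c ^ 2 - 1) * (a'.det * a.det) = 0 := by linear_combination -h5
    exact sub_eq_zero.1 ((mul_eq_zero.1 h7).resolve_right h6)
  · obtain ⟨u, v, huv⟩ := I.exB
    obtain ⟨μ, hμ, hμ', -⟩ := I.sim hg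
    obtain ⟨ν, hν, hν', -⟩ := I.sim hh
    have h5 : B ((M * M') u) ((M * M') v) = μ * ν * B u v := by
      rw [Module.End.mul_apply, Module.End.mul_apply, hμ', hν', mul_assoc]
    have h6 : B ((M' * M) u) ((M' * M) v) = μ * ν * B u v := by
      rw [Module.End.mul_apply, Module.End.mul_apply, hν', hμ']; ring
    rw [hd, LinearMap.smul_apply, LinearMap.smul_apply, map_smul, map_smul, LinearMap.smul_apply, h6, smul_eq_mul,
      smul_eq_mul] at h5
    have h7 : (d ^ 2 - 1) * (μ * ν * B u v) = 0 := by linear_combination h5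
    exact sub_eq_zero.1 ((mul_eq_zero.1 h7).resolve_right (mul_ne_zero (mul_ne_zero hμ hν) huv))

theorem pm {d : F} (h : d ^ 2 = 1) : d = 1 ∨ d = -1 := by
  have h1 : (d - 1) * (d + 1) = 0 := by linear_combination h
  rcases mul_eq_zero.1 h1 with h | h
  · left; exact sub_eq_zero.1 h
  · right; exact eq_neg_of_add_eq_zero_left h

include C in
theorem cc_spec {g h : G} (hg : g ∈ N0) (hh : h ∈ N0) : I.MM g * I.MM h = I.cc g h • (I.MM h * I.MM g) := by
  obtain ⟨d, hd, h1⟩ := (comm_ex I (R_N I C hg) (R_N I C hh) (C.comm g hg h hh)).2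
  unfold E7I.cc
  split_ifs with h2
  · rw [one_smul]; exact h2
  · rcases pm hd with rfl | rfl
    · rw [one_smul] at h1; exact absurd h1 h2
    · exact h1

include C in
theorem al_spec {g h : G} (hg : g ∈ N0) (hh : h ∈ N0) : I.aa g * I.aa h = I.al g h • (I.aa h * I.aa g) := by
  obtain ⟨d, hd, h1⟩ := (comm_ex I (R_N I C hg) (R_N I C hh) (C.comm g hg h hh)).1
  unfold E7I.al
  split_ifs with h2
  · rw [one_smul]; exact h2
  · rcases pm hd with rfl | rfl
    · rw [one_smul] at h1; exact absurd h1 h2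
    · exact h1

include C in
theorem cc_uniq {g h : G} (hg : g ∈ N0) (hh : h ∈ N0) {a a' : Matrix (Fin 2) (Fin 2) F} {M M' : Module.End F V}
    (h1 : I.R g a M) (h2 : I.R h a' M') {x : F} (h3 : M * M' = x • (M' * M)) : I.cc g h = x := by
  obtain ⟨-, d, hd, rfl⟩ := I.prop h1
  obtain ⟨-, d', hd', rfl⟩ := I.prop h2
  have h4 := I.M_ne (I.mul (R_N I C hh) (R_N I C hg))
  refine smul_inj h4 ?_
  rw [← cc_spec I C hg hh]
  simp only [smul_mul_assoc, mul_smul_comm, smul_smul] at h3
  have h5 : (d' * d) • (I.MM g * I.MM h) = (d' * d) • (x • (I.MM h * I.MM g)) := by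
    rw [h3, smul_smul]; congr 1; ring
  exact smul_right_injective _ (mul_ne_zero hd' hd) h5

include C in
theorem al_uniq {g h : G} (hg : g ∈ N0) (hh : h ∈ N0) {a a' : Matrix (Fin 2) (Fin 2) F} {M M' : Module.End F V}
    (h1 : I.R g a M) (h2 : I.R h a' M') {x : F} (h3 : a * a' = x • (a' * a)) : I.al g h = x := by
  obtain ⟨⟨d, hd, rfl⟩, -⟩ := I.prop h1
  obtain ⟨⟨d', hd', rfl⟩, -⟩ := I.prop h2
  have h4 := I.det (I.mul (R_N I C hh) (R_N I C hg))
  have h4' : I.aa h * I.aa g ≠ 0 := by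
    intro h0
    rw [h0, Matrix.det_zero] at h4
    exact h4 rfl
  refine smul_inj h4' ?_
  rw [← al_spec I C hg hh]
  simp only [smul_mul_assoc, mul_smul_comm, smul_smul] at h3
  have h5 : (d' * d) • (I.aa g * I.aa h) = (d' * d) • (x • (I.aa h * I.aa g)) := by
    rw [h3, smul_smul]; congr 1; ring
  exact smul_right_injective _ (mul_ne_zero hd' hd) h5

include C in
theorem cc_mul_right {g h k : G} (hg : g ∈ N0) (hh : h ∈ N0) (hk : k ∈ N0) : I.cc g (h * k) = I.cc g h * I.cc g k := by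
  refine cc_uniq I C hg (N0.mul_mem hh hk) (R_N I C hg) (I.mul (R_N I C hh) (R_N I C hk)) ?_
  rw [← mul_assoc, cc_spec I C hg hh, smul_mul_assoc, mul_assoc, cc_spec I C hg hk, mul_smul_comm, smul_smul, mul_assoc]

include C in
theorem cc_mul_left {g h k : G} (hg : g ∈ N0) (hh : h ∈ N0) (hk : k ∈ N0) : I.cc (g * h) k = I.cc g k * I.cc h k := by
  refine cc_uniq I C (N0.mul_mem hg hh) hk (I.mul (R_N I C hg) (R_N I C hh)) (R_N I C hk) ?_
  rw [mul_assoc, cc_spec I C hh hk, mul_smul_comm, ← mul_assoc, cc_spec I C hg hk, smul_mul_assoc, smul_smul, mul_assoc,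
    mul_comm (I.cc h k)]

include C in
theorem al_mul_right {g h k : G} (hg : g ∈ N0) (hh : h ∈ N0) (hk : k ∈ N0) : I.al g (h * k) = I.al g h * I.al g k := by
  refine al_uniq I C hg (N0.mul_mem hh hk) (R_N I C hg) (I.mul (R_N I C hh) (R_N I C hk)) ?_
  rw [← mul_assoc, al_spec I C hg hh, smul_mul_assoc, mul_assoc, al_spec I C hg hk, mul_smul_comm, smul_smul, mul_assoc]

include C in
theorem al_mul_left {g h k : G} (hg : g ∈ N0) (hh : h ∈ N0) (hk : k ∈ N0) : I.al (g * h) k = I.al g k * I.al h k := by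
  refine al_uniq I C (N0.mul_mem hg hh) hk (I.mul (R_N I C hg) (R_N I C hh)) (R_N I C hk) ?_
  rw [mul_assoc, al_spec I C hh hk, mul_smul_comm, ← mul_assoc, al_spec I C hg hk, smul_mul_assoc, smul_smul, mul_assoc,
    mul_comm (I.al h k)]

theorem cc_symm (g h : G) : I.cc g h = I.cc h g := by
  unfold E7I.cc
  congr 1
  exact propext eq_comm

theorem al_symm (g h : G) : I.al g h = I.al h g := by
  unfold E7I.al
  congr 1
  exact propext eq_comm

include C in
/-- squares -/
theorem sq_ex {n : G} (hn : n ∈ N0) {a : Matrix (Fin 2) (Fin 2) F} {M : Module.End F V} (h : I.R n a M) :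
    (∃ δ : F, δ ≠ 0 ∧ a * a = δ • (1 : Matrix (Fin 2) (Fin 2) F)) ∧
      ∃ l : F, l ≠ 0 ∧ M * M = l • (1 : Module.End F V) := by
  have h1 := I.mul h h
  have h2 : I.R (n * n) 1 1 := by
    rcases C.sq n hn with h | h
    · rw [h]; exact I.R_one
    · rw [h]; exact I.R_z
  obtain ⟨⟨c, hc⟩, ⟨d, hd⟩⟩ := I.uniq h2 h1
  refine ⟨⟨c, ?_, hc⟩, ⟨d, ?_, hd⟩⟩
  · rintro rfl
    apply I.det h1
    rw [hc, zero_smul, Matrix.det_zero]
  · rintro rfl
    apply I.M_ne h1
    rw [hd, zero_smul]

include C in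
theorem adj_ex {n : G} (hn : n ∈ N0) {a : Matrix (Fin 2) (Fin 2) F} {M : Module.End F V} (h : I.R n a M) :
    ∃ e : F, e ^ 2 = 1 ∧ ∀ u v, B (M u) v = e * B u (M v) := by
  obtain ⟨-, l, hl, hMM⟩ := sq_ex I C hn h
  obtain ⟨μ, hμ, hμ', -⟩ := I.sim h
  have h1 : ∀ u v, B (M u) v = (μ / l) * B u (M v) := by
    intro u v
    have h2 : M (M v) = l • v := by
      have := congrArg (fun f : Module.End F V => f v) hMM
      simpa only [_root_.Module.End.mul_apply, _root_.LinearMap.smul_apply, _root_.Module.End.one_apply] using this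
    have h3 := hμ' u (M v)
    rw [h2, map_smul, smul_eq_mul] at h3
    field_simp
    linear_combination h3
  refine ⟨μ / l, ?_, h1⟩
  obtain ⟨u, v, huv⟩ := I.exB
  have h2 : M (M u) = l • u := by
    have := congrArg (fun f : Module.End F V => f u) hMM
    simpa only [_root_.Module.End.mul_apply, _root_.LinearMap.smul_apply, _root_.Module.End.one_apply] using this
  have h3 := h1 (M u) v
  have h4 := h1 v (M u)
  rw [I.symm (M v), h2, map_smul, smul_eq_mul, I.symm v u] at h4
  rw [h2, map_smul, LinearMap.smul_apply, smul_eq_mul] at h3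
  have h5 : ((μ / l) ^ 2 - 1) * (l * B u v) = 0 := by linear_combination -h3 - (μ / l) * h4
  exact sub_eq_zero.1 ((mul_eq_zero.1 h5).resolve_right (mul_ne_zero hl huv))

include C in
theorem ee_spec {n : G} (hn : n ∈ N0) : ∀ u v, B (I.MM n u) v = I.ee n * B u (I.MM n v) := by
  obtain ⟨e, he, h1⟩ := adj_ex I C hn (R_N I C hn)
  unfold E7I.ee
  split_ifs with h2
  · intro u v; rw [one_mul]; exact h2 u v
  · rcases pm he with rfl | rfl
    · exact absurd (fun u v => by rw [h1 u v, one_mul]) h2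
    · exact h1

include C in
theorem ee_uniq {n : G} (hn : n ∈ N0) {a : Matrix (Fin 2) (Fin 2) F} {M : Module.End F V} (h : I.R n a M) {x : F}
    (hx : ∀ u v, B (M u) v = x * B u (M v)) : I.ee n = x := by
  obtain ⟨-, d, hd, rfl⟩ := I.prop h
  obtain ⟨-, l, hl, hMM⟩ := sq_ex I C hn (R_N I C hn)
  obtain ⟨u, v, huv⟩ := I.exB
  have h2 : I.MM n (I.MM n v) = l • v := by
    have := congrArg (fun f : Module.End F V => f v) hMM
    simpa only [_root_.Module.End.mul_apply, _root_.LinearMap.smul_apply, _root_.Module.End.one_apply] using this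
  have h3 := hx u (I.MM n v)
  have h4 := ee_spec I C hn u (I.MM n v)
  simp only [LinearMap.smul_apply, map_smul, smul_eq_mul, h2] at h3 h4
  rw [h4] at h3
  have h5 : (I.ee n - x) * (d * (l * B u v)) = 0 := by linear_combination h3
  exact sub_eq_zero.1 ((mul_eq_zero.1 h5).resolve_right (mul_ne_zero hd (mul_ne_zero hl huv)))

include C in
theorem ee_mul {g h : G} (hg : g ∈ N0) (hh : h ∈ N0) : I.ee (g * h) = I.ee g * I.ee h * I.cc g h := by
  refine ee_uniq I C (N0.mul_mem hg hh) (I.mul (R_N I C hg) (R_N I C hh)) ?_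
  intro u v
  rw [Module.End.mul_apply, ee_spec I C hg, ee_spec I C hh, ← Module.End.mul_apply, cc_spec I C hh hg,
    LinearMap.smul_apply, map_smul, smul_eq_mul, cc_symm I h g]
  ring

include C in
theorem ee_sym {n : G} (hn : n ∈ N0) (h : I.ee n = 1) : Sym B (I.MM n) := fun u v => by
  rw [ee_spec I C hn, h, one_mul]

include C in
/-- normalisation of the elements acting trivially on `sl₂` -/
theorem exOm {n : G} (hn : n ∈ N0) (hs : Sc (I.aa n)) : ∃ M ∈ I.Om, I.R n 1 M := by
  obtain ⟨c, hc⟩ := hs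
  have h1 := R_N I C hn
  have hc0 : c ≠ 0 := by
    rintro rfl
    apply I.det h1
    rw [hc, zero_smul, Matrix.det_zero]
  rw [hc] at h1
  have h2 := I.scal (c := c⁻¹) (d := 1) h1 (inv_ne_zero hc0) one_ne_zero
  rw [smul_smul, inv_mul_cancel₀ hc0, one_smul, one_smul] at h2
  obtain ⟨d, hd, h3⟩ := I.omT h2
  refine ⟨_, h3, ?_⟩
  have h4 := I.scal (c := 1) (d := d) h2 one_ne_zero hd
  rwa [one_smul] at h4

include C in
theorem of_R_one {n : G} (hn : n ∈ N0) {a : Matrix (Fin 2) (Fin 2) F} (h : I.R n a 1) : I.ee n = 1 ∧ ∀ m ∈ N0, I.cc n m = 1 := by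
  refine ⟨ee_uniq I C hn h fun u v => by simp, fun m hm => cc_uniq I C hn hm h (R_N I C hm) ?_⟩
  rw [one_mul, mul_one, one_smul]

include C in
/-- the table for elements of `D` with square 1 -/
theorem tab1 [Finite G] {n : G} (hn : n ∈ N0) (hs : Sc (I.aa n)) (h2 : n * n = 1) :
    I.ee n = 1 ∧ ∀ m ∈ N0, I.cc n m = 1 := by
  by_cases hsn : n ∈ zpowers s
  · have hcen : ∀ m ∈ N0, n * m = m * n := by
      intro m hm
      obtain ⟨k, hk⟩ := mem_zpowers_iff.1 hsn
      rw [← hk]
      exact ((show Commute m s from C.s_cen m hm).symm.zpow_left k).eq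
    rcases mem_z_of_cen C hn hcen h2 with rfl | rfl
    · exact of_R_one I C hn I.R_one
    · exact of_R_one I C hn I.R_z
  · obtain ⟨M, -, hM⟩ := exOm I C hn hs
    obtain ⟨m', hm', hconj⟩ := conj_z C hn hsn
    obtain ⟨ν, hν, hMM, hsym, hfin⟩ := I.t1 hM h2 ⟨m', by rw [hconj, cz C hn]⟩
    refine ⟨ee_uniq I C hn hM fun u v => by rw [one_mul]; exact hsym u v, fun m hm => ?_⟩
    rcases I.cc_or n m with h | h
    · exact h
    · exfalso
      obtain ⟨-, d, hd, hMd⟩ := I.prop hM
      have h3 := cc_spec I C hn hm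
      rw [h, neg_smul, one_smul] at h3
      have h4 : M * I.MM m = -(I.MM m * M) := by
        rw [hMd, smul_mul_assoc, mul_smul_comm, h3, smul_neg]
      have h5 := fin6 I.two I.dim hν hMM (fun u hu => I.M_inj (R_N I C hm) hu) h4
      omega

include C in
/-- the table for elements outside `PSL₂` -/
theorem tab3 {u : G} (hu : u ∈ N0) (hd : ¬ IsSquare (I.aa u).det) (he : I.ee u = 1) : u * u = 1 := by
  rcases C.sq u hu with h | h
  · exact h
  · exfalso
    have h1 := R_N I C hu
    obtain ⟨-, l, hl, hMM⟩ := sq_ex I C hu h1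
    have h2 := I.t3 h1 h (by
      rintro ⟨c, hc⟩
      apply hd
      rw [hc, Matrix.det_smul, Fintype.card_fin, Matrix.det_one, mul_one]
      exact ⟨c, sq c⟩) hMM (ee_sym I C hu he)
    obtain ⟨μ, hμ, hμ', hsq⟩ := I.sim h1
    apply hd
    rw [← hsq]
    obtain ⟨v, w, hvw⟩ := I.exB
    have h3 := hμ' v w
    have h4 : I.MM u (I.MM u w) = l • w := by
      have := congrArg (fun f : Module.End F V => f w) hMM
      simpa only [_root_.Module.End.mul_apply, _root_.LinearMap.smul_apply, _root_.Module.End.one_apply] using this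
    rw [ee_sym I C hu he, h4, map_smul, smul_eq_mul] at h3
    have h5 : l = μ := mul_right_cancel₀ hvw h3
    rw [← h5]
    exact h2

theorem End_ext {M : Module.End F V} {M' : Module.End F V} (h : M = M') (u : V) : M u = M' u := by rw [h]

include C in
/-- the table for elements of `D` commuting with a skew similitude of nonsquare multiplier -/
theorem tab2 {y u : G} (hy : y ∈ N0) (hs : Sc (I.aa y)) (hey : I.ee y = 1) (hu : u ∈ N0) (heu : I.ee u = -1)
    (hd : ¬ IsSquare (I.aa u).det) (hc : I.cc y u = 1) : y * y = 1 := by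
  have hfd : FiniteDimensional F V := FiniteDimensional.of_finrank_pos (by rw [I.dim]; norm_num)
  rcases C.sq y hy with h | h
  · exact h
  · exfalso
    obtain ⟨M, hMO, hM⟩ := exOm I C hy hs
    obtain ⟨-, l, hl, hMM⟩ := sq_ex I C hy hM
    obtain ⟨-, d, hd0, hMd⟩ := I.prop hM
    have hsym : Sym B M := by
      intro v w
      rw [hMd, LinearMap.smul_apply, map_smul, LinearMap.smul_apply, LinearMap.smul_apply, map_smul,
        ee_sym I C hy hey]
    have hl1 : l = 1 := by
      obtain ⟨v, w, hvw⟩ := I.exB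
      have h3 := I.om_iso hMO v w
      have h4 : M (M w) = l • w := by
        have := End_ext hMM w
        simpa only [_root_.Module.End.mul_apply, _root_.LinearMap.smul_apply, _root_.Module.End.one_apply] using this
      rw [hsym, h4, map_smul, smul_eq_mul] at h3
      have h5 : (l - 1) * B v w = 0 := by linear_combination h3
      exact sub_eq_zero.1 ((mul_eq_zero.1 h5).resolve_right hvw)
    rw [hl1, one_smul] at hMM
    obtain ⟨μ, hμ, hμ', hsq⟩ := I.sim (R_N I C hu)
    have h4 : I.MM u * M = M * I.MM u := by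
      have h3 := cc_spec I C hy hu
      rw [hc, one_smul] at h3
      rw [hMd, smul_mul_assoc, mul_smul_comm, h3]
    have h5 := Cfsg.Agent.H79.Co3.w_lemma I hMO hMM hsym h4 hμ' (fun v w => by
      rw [ee_spec I C hu, heu, neg_mul, one_mul]) (fun h => hd (hsq.1 h))
    have h6 := I.t2 (ν := 1) hM h (by rw [one_pow, one_smul]; exact hMM) hsym
    rw [one_smul] at h6
    have h7 : finrank F (LinearMap.ker (M + 1)) ≤ 12 := by rw [← I.dim]; exact Submodule.finrank_le _
    have h8 : finrank F (LinearMap.ker (M + 1)) = 0 ∨ finrank F (LinearMap.ker (M + 1)) = 12 := by omega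
    have hMM' : ∀ u, M (M u) = u := fun u => by
      have := End_ext hMM u
      simpa using this
    have h9 : ∃ c : F, M = c • (1 : Module.End F V) := by
      rcases h8 with h8 | h8
      · refine ⟨1, ?_⟩
        rw [one_smul]
        have h10 := (Submodule.finrank_eq_zero (R := F)).1 h8
        rw [LinearMap.ker_eq_bot'] at h10
        ext v
        have h11 := h10 (M v - v) (by
          simp [hMM'])
        rw [sub_eq_zero] at h11
        simpa using h11
      · refine ⟨-1, ?_⟩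
        have h10 : LinearMap.ker (M + 1) = ⊤ := Submodule.eq_top_of_finrank_eq (by rw [h8, I.dim])
        rw [LinearMap.ker_eq_top] at h10
        rw [eq_neg_of_add_eq_zero_left h10, neg_smul, one_smul]
    obtain ⟨c, hcM⟩ := h9
    have h12 := I.eq_of (c := 1) (d := c) I.R_one hM (by rw [one_smul]) hcM
    rcases h12 with h12 | h12
    · rw [h12, one_mul] at h
      exact C.z_ne h.symm
    · rw [mul_one] at h12
      rw [h12, C.z_sq] at h
      exact C.z_ne h.symm

end Sg

end Cfsg.Agent.H627.Co3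
end

-- part: H627/Co3/Four
section
/-!
# S1920, case B, `E₇(q)`: the action of `N0` on `sl₂` (helper627)
-/

set_option autoImplicit false

namespace Cfsg.Agent.H627.Co3

open Module Subgroup Matrix
open Cfsg.Agent.H13.Co3 Cfsg.Agent.H738.C3
open scoped commutatorElement

variable {G : Type*} [Group G] {z : G} {F V : Type*} [Field F] [AddCommGroup V] [Module F V] {B : LinearMap.BilinForm F V}

theorem mcancel {A X Y : Matrix (Fin 2) (Fin 2) F} (hA : A.det ≠ 0) (h : X * A = Y * A) : X = Y := by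
  have hu : IsUnit A.det := isUnit_iff_ne_zero.2 hA
  have h1 := congrArg (· * A⁻¹) h
  simpa only [mul_assoc, Matrix.mul_nonsing_inv _ hu, mul_one] using h1

theorem sc_smul {a : Matrix (Fin 2) (Fin 2) F} {c : F} (h : Sc a) : Sc (c • a) := by
  obtain ⟨d, rfl⟩ := h
  exact ⟨c * d, by rw [smul_smul]⟩

section

variable (I : E7I z F B) {P N0 : Subgroup G} {s : G} {ψ : ↥(normalizer (P : Set G)) →* Equiv.Perm (Fin 6)}
  (C : CB P N0 z s ψ)

theorem sc_iff {g : G} {a : Matrix (Fin 2) (Fin 2) F} {M : Module.End F V} (h : I.R g a M) : Sc (I.aa g) ↔ Sc a := by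
  obtain ⟨⟨c, hc, h1⟩, -⟩ := I.prop h
  constructor
  · intro h2; rw [h1]; exact sc_smul h2
  · intro h2
    have h3 : I.aa g = c⁻¹ • a := by rw [h1, smul_smul, inv_mul_cancel₀ hc, one_smul]
    rw [h3]; exact sc_smul h2

/-- elements of `C(N0)` commuting with `b` on `sl₂` -/
def S1 (N0 : Subgroup G) (b : Matrix (Fin 2) (Fin 2) F) : Subgroup G where
  carrier := {g | g ∈ centralizer (N0 : Set G) ∧ ∃ a M, I.R g a M ∧ a * b = b * a}
  one_mem' := ⟨one_mem _, 1, 1, I.R_one, by rw [one_mul, mul_one]⟩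
  mul_mem' := by
    rintro g h ⟨hg, a, M, h1, h2⟩ ⟨hh, a', M', h3, h4⟩
    exact ⟨mul_mem hg hh, a * a', M * M', I.mul h1 h3, by rw [mul_assoc, h4, ← mul_assoc, h2, mul_assoc]⟩
  inv_mem' := by
    rintro g ⟨hg, a, M, h1, h2⟩
    obtain ⟨b', N, c, d, h3, hc, hd, h4, h5⟩ := I.inv' h1
    refine ⟨inv_mem hg, b', N, h3, ?_⟩
    have h6 : (c⁻¹ • b') * a = 1 := by
      rw [mul_eq_one_comm, mul_smul_comm, h4, smul_smul, inv_mul_cancel₀ hc, one_smul]
    have h7 : b' * a = c • (1 : Matrix (Fin 2) (Fin 2) F) := by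
      rw [← h6, smul_mul_assoc, smul_smul, mul_inv_cancel₀ hc, one_smul]
    apply mcancel (I.det h1)
    rw [mul_assoc b' b a, ← h2, ← mul_assoc, h7, mul_assoc b b' a, h7, smul_mul_assoc, mul_smul_comm, one_mul, mul_one]

/-- elements of `C(N0)` acting trivially on `sl₂` -/
def S2 (N0 : Subgroup G) : Subgroup G where
  carrier := {g | g ∈ centralizer (N0 : Set G) ∧ ∃ a M, I.R g a M ∧ Sc a}
  one_mem' := ⟨one_mem _, 1, 1, I.R_one, 1, by rw [one_smul]⟩
  mul_mem' := by
    rintro g h ⟨hg, a, M, h1, c, rfl⟩ ⟨hh, a', M', h3, d, rfl⟩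
    exact ⟨mul_mem hg hh, _, _, I.mul h1 h3, c * d, by
      rw [smul_mul_assoc, mul_smul_comm, one_mul, smul_smul]⟩
  inv_mem' := by
    rintro g ⟨hg, a, M, h1, e, rfl⟩
    obtain ⟨b', N, c, d, h3, hc, hd, h4, h5⟩ := I.inv' h1
    refine ⟨inv_mem hg, b', N, h3, e⁻¹ * c, ?_⟩
    have he : e ≠ 0 := by
      rintro rfl
      apply I.det h1
      rw [zero_smul, Matrix.det_zero]
    rw [smul_mul_assoc, one_mul] at h4
    rw [mul_smul, ← h4, smul_smul, inv_mul_cancel₀ he, one_smul]

include C in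
theorem K2_sc {n : G} (hn : n ∈ N0) (hs : ¬ Sc (I.aa n)) {k : G} (hk : k ∈ K2 N0) : ∃ a M, I.R k a M ∧ Sc a := by
  have hz : ∀ {g : G}, g ∈ centralizer (N0 : Set G) → g * z = z * g := fun hg =>
    (mem_centralizer_iff.1 hg z (C.PN C.zP)).symm
  have hcn : ∀ {g : G}, g ∈ centralizer (N0 : Set G) → g * n = n * g := fun hg =>
    (mem_centralizer_iff.1 hg n hn).symm
  have h1 : ⁅centralizer (N0 : Set G), centralizer (N0 : Set G)⁆ ≤ S1 I N0 (I.aa n) := by
    rw [Subgroup.commutator_le]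
    intro g hg h hh
    have hgh : ⁅g, h⁆ ∈ centralizer (N0 : Set G) :=
      (commutator_le_self (centralizer (N0 : Set G))) (commutator_mem_commutator hg hh)
    obtain ⟨c, L, hcL⟩ := I.ex _ (hz hgh)
    have Rg := I.R_aM (hz hg)
    have Rh := I.R_aM (hz hh)
    have Rn := R_N I C hn
    obtain ⟨⟨x, hx, hx'⟩, -⟩ := comm_ex I Rg Rn (Or.inl (hcn hg))
    obtain ⟨⟨y, hy, hy'⟩, -⟩ := comm_ex I Rh Rn (Or.inl (hcn hh))
    refine ⟨hgh, c, L, hcL, ?_⟩
    have e1 : ⁅g, h⁆ * (h * g) = g * h := by rw [commutatorElement_def]; group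
    have h2 := I.mul hcL (I.mul Rh Rg)
    rw [e1] at h2
    obtain ⟨⟨w, hw⟩, -⟩ := I.uniq h2 (I.mul Rg Rh)
    have hx0 : x ≠ 0 := by rintro rfl; norm_num at hx
    have hy0 : y ≠ 0 := by rintro rfl; norm_num at hy
    have hw0 : w ≠ 0 := by
      rintro rfl
      apply I.det (I.mul Rg Rh)
      rw [hw, zero_smul, Matrix.det_zero]
    have e2 : (I.aa g * I.aa h) * I.aa n = (x * y) • (I.aa n * (I.aa g * I.aa h)) := by
      rw [mul_assoc, hy', mul_smul_comm, ← mul_assoc, hx', smul_mul_assoc, smul_smul, mul_comm y, mul_assoc]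
    have e3 : (I.aa h * I.aa g) * I.aa n = (x * y) • (I.aa n * (I.aa h * I.aa g)) := by
      rw [mul_assoc, hx', mul_smul_comm, ← mul_assoc, hy', smul_mul_assoc, smul_smul, mul_assoc]
    rw [hw, smul_mul_assoc, mul_smul_comm, smul_comm] at e2
    have e4 := smul_right_injective _ hw0 e2
    rw [mul_assoc, e3, mul_smul_comm] at e4
    have e5 := smul_right_injective _ (mul_ne_zero hx0 hy0) e4
    refine mcancel (I.det (I.mul Rh Rg)) ?_
    rw [mul_assoc, mul_assoc, e5]
  have h2 : K2 N0 ≤ S2 I N0 := by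
    unfold K2
    rw [Subgroup.commutator_le]
    intro g hg h hh
    obtain ⟨hg1, a, M, Rg, ha⟩ := h1 hg
    obtain ⟨hh1, a', M', Rh, ha'⟩ := h1 hh
    have hgh : ⁅g, h⁆ ∈ centralizer (N0 : Set G) :=
      (commutator_le_self (centralizer (N0 : Set G))) (commutator_mem_commutator hg1 hh1)
    obtain ⟨c, L, hcL⟩ := I.ex _ (hz hgh)
    refine ⟨hgh, c, L, hcL, ?_⟩
    have e1 : ⁅g, h⁆ * (h * g) = g * h := by rw [commutatorElement_def]; group
    have h2 := I.mul hcL (I.mul Rh Rg)
    rw [e1] at h2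
    obtain ⟨⟨w, hw⟩, -⟩ := I.uniq h2 (I.mul Rg Rh)
    have hw0 : w ≠ 0 := by
      rintro rfl
      apply I.det (I.mul Rg Rh)
      rw [hw, zero_smul, Matrix.det_zero]
    rw [comm_comm hs ha.symm ha'.symm, ← smul_mul_assoc] at hw
    refine ⟨w⁻¹, ?_⟩
    have e2 : 1 = w • c := mcancel (I.det (I.mul Rh Rg)) (by rw [one_mul]; exact hw)
    rw [e2, smul_smul, inv_mul_cancel₀ hw0, one_smul]
  exact (h2 hk).2

theorem four {j : Matrix.SpecialLinearGroup (Fin 2) F} (hj : j.1 * j.1 = -1) : I.ι j * I.ι j = z := by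
  have h1 : j * j = -1 := by
    apply Subtype.ext
    rw [Matrix.SpecialLinearGroup.coe_mul, Matrix.SpecialLinearGroup.coe_neg, Matrix.SpecialLinearGroup.coe_one]
    exact hj
  rw [← map_mul, h1]
  exact I.ι_neg

include C in
theorem liftN0 [Finite G] {n : G} (hn : n ∈ N0) (hs : ¬ Sc (I.aa n)) {j : Matrix.SpecialLinearGroup (Fin 2) F}
    (hj : j.1 * j.1 = -1) (hc : ∀ m ∈ N0, ∃ x : F, j.1 * I.aa m = x • (I.aa m * j.1)) : I.ι j ∈ N0 := by
  refine mem_N0 C (g := I.ι j) (K := (K2 N0 : Set G)) ?_ ⟨2, ?_⟩ (exists_K2 C) ?_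
  · rw [mem_AA, act_iff C]
    intro m hm
    obtain ⟨x, hx⟩ := hc m hm
    exact I.comm_of (d := 1) (I.Rι j) (R_N I C hm) hx (by rw [one_mul, mul_one, one_smul])
  · have h1 := four I hj
    rw [show (2 : ℕ) ^ 2 = 2 * 2 from rfl, pow_mul, pow_two (I.ι j), h1, pow_two, C.z_sq]
  · intro k hk
    obtain ⟨a, M, hR, c, rfl⟩ := K2_sc I C hn hs hk
    refine I.comm_of (c := 1) (d := 1) (I.Rι j) hR ?_ ?_
    · rw [mul_smul_comm, smul_mul_assoc, one_mul, mul_one, one_smul]
    · rw [one_mul, mul_one, one_smul]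

include C in
theorem exj [Finite G] {p t : G} (hp : p ∈ N0) (ht : t ∈ N0) (hal : I.al p t = -1) (hsq : IsSquare (I.aa p).det) :
    ∃ j : Matrix.SpecialLinearGroup (Fin 2) F, j.1 * j.1 = -1 ∧ I.ι j ∈ N0 ∧ ∀ k ∈ N0, I.al (I.ι j) k = I.al p k := by
  have h1 := al_spec I C hp ht
  rw [hal, neg_smul, one_smul] at h1
  have hns := not_sc_of_anti I.two h1 (I.det (I.mul (R_N I C ht) (R_N I C hp)))
  obtain ⟨⟨δ, -, hδ⟩, -⟩ := sq_ex I C hp (R_N I C hp)
  obtain ⟨j, hj, e, he, hje⟩ := exists_SL hns hδ (I.det (R_N I C hp)) hsq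
  have h2 : ∀ k ∈ N0, j.1 * I.aa k = I.al p k • (I.aa k * j.1) := by
    intro k hk
    rw [hje, smul_mul_assoc, al_spec I C hp hk, mul_smul_comm, smul_comm]
  have h3 : I.ι j ∈ N0 := liftN0 I C hp hns hj fun m hm => ⟨_, h2 m hm⟩
  exact ⟨j, hj, h3, fun k hk => al_uniq I C h3 hk (I.Rι j) (R_N I C hk) (h2 k hk)⟩

include C in
theorem exists_j [Finite G] [Finite F] {n : G} (hn : n ∈ N0) (hs : ¬ Sc (I.aa n)) :
    ∃ j : Matrix.SpecialLinearGroup (Fin 2) F, j.1 * j.1 = -1 ∧ I.ι j ∈ N0 ∧ ∃ t ∈ N0, I.al (I.ι j) t = -1 := by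
  by_cases hex : ∃ m ∈ N0, I.al n m = -1
  · obtain ⟨m, hm, hal⟩ := hex
    by_cases h1 : IsSquare (I.aa n).det
    · obtain ⟨j, hj, h2, h3⟩ := exj I C hn hm hal h1
      exact ⟨j, hj, h2, m, hm, by rw [h3 m hm, hal]⟩
    by_cases h2 : IsSquare (I.aa m).det
    · have hal' : I.al m n = -1 := by rw [al_symm]; exact hal
      obtain ⟨j, hj, h2, h3⟩ := exj I C hm hn hal' h2
      exact ⟨j, hj, h2, n, hn, by rw [h3 n hn, hal']⟩
    · have h3 : IsSquare (I.aa (n * m)).det := by
        obtain ⟨⟨c, hc, h4⟩, -⟩ := I.prop (I.mul (R_N I C hn) (R_N I C hm))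
        have h5 := exists_sq h1 h2
        rw [← Matrix.det_mul, h4, Matrix.det_smul, Fintype.card_fin] at h5
        obtain ⟨r, hr⟩ := h5
        refine ⟨c⁻¹ * r, ?_⟩
        field_simp
        rw [mul_comm, hr, sq]
      have h4 : I.al (n * m) m = -1 := by
        rw [al_mul_left I C hn hm hm, hal]
        unfold E7I.al
        rw [if_pos rfl, mul_one]
      obtain ⟨j, hj, h5, h6⟩ := exj I C (N0.mul_mem hn hm) hm h4 h3
      exact ⟨j, hj, h5, m, hm, by rw [h6 m hm, h4]⟩
  · exfalso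
    push Not at hex
    have hall : ∀ m ∈ N0, I.al n m = 1 := fun m hm => (I.al_or n m).resolve_right (hex m hm)
    obtain ⟨⟨δ, -, hδ⟩, -⟩ := sq_ex I C hn (R_N I C hn)
    obtain ⟨j, hj, hanti⟩ := exists_anti I.two (tr0 hδ hs) (I.det (R_N I C hn))
    have h1 : I.ι j ∈ N0 := by
      refine liftN0 I C hn hs hj fun m hm => ?_
      have h2 := al_spec I C hn hm
      rw [hall m hm, one_smul] at h2
      obtain ⟨⟨ε, -, hε⟩, -⟩ := sq_ex I C hm (R_N I C hm)
      rcases sc_or I.two hs h2 hε hδ with ⟨c, h⟩ | ⟨β, h⟩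
      · refine ⟨1, ?_⟩
        rw [h, mul_smul_comm, smul_mul_assoc, one_mul, mul_one, one_smul]
      · refine ⟨-1, ?_⟩
        rw [h, mul_smul_comm, smul_mul_assoc, hanti, smul_neg, neg_smul, one_smul, neg_neg]
    refine hex _ h1 (al_uniq I C hn h1 (R_N I C hn) (I.Rι j) ?_)
    rw [hanti, neg_smul, one_smul]

end

end Cfsg.Agent.H627.Co3
end

-- part: H898/Co3/TZero7
section
/-!
# S1920, case B, `E₇(q)`: the sign group (helper898)

`t0_E7` : if the set `Y` consists of commuting self-adjoint maps of square `ν²` then `G` contains a 2-group `W` of order at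
least `2^10` of elements represented by sign changes commuting with `Y`.
-/

set_option autoImplicit false
set_option linter.unusedSectionVars false

namespace Cfsg.Agent.H898.Co3

open Module Cfsg.Agent.H627.Co3
open scoped symmDiff

universe u v w

section sgn

variable {F V : Type*} [Field F] [AddCommGroup V] [Module F V] (v : Basis (Fin 12) F V)

/-- the sign of `j` in `J` -/
def sg (F : Type*) [Field F] (J : Finset (Fin 12)) (j : Fin 12) : F := if j ∈ J then -1 else 1

theorem sgn_basis (J : Finset (Fin 12)) (j : Fin 12) : sgn v J (v j) = sg F J j • v j := by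
  unfold sgn sg
  rw [Basis.constr_basis]
  split_ifs
  · rw [neg_smul, one_smul]
  · rw [one_smul]

theorem sg_mul (J K : Finset (Fin 12)) (j : Fin 12) : sg F J j * sg F K j = sg F (J ∆ K) j := by
  unfold sg
  simp only [Finset.mem_symmDiff]
  by_cases h1 : j ∈ J <;> by_cases h2 : j ∈ K <;> simp [h1, h2]

theorem sgn_mul (J K : Finset (Fin 12)) : sgn v J * sgn v K = sgn v (J ∆ K) := by
  refine v.ext fun j => ?_
  rw [Module.End.mul_apply, sgn_basis, map_smul, sgn_basis, sgn_basis, smul_smul, mul_comm, sg_mul]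

theorem sgn_empty : sgn v ∅ = 1 := by
  refine v.ext fun j => ?_
  rw [sgn_basis, Module.End.one_apply]
  simp [sg]

theorem sgn_comm {M : Module.End F V} (hM : ∀ i, ∃ c : F, M (v i) = c • v i) (J : Finset (Fin 12)) :
    sgn v J * M = M * sgn v J := by
  refine v.ext fun j => ?_
  obtain ⟨c, hc⟩ := hM j
  rw [Module.End.mul_apply, Module.End.mul_apply, hc, map_smul, sgn_basis, map_smul, hc, smul_comm]

/-- proportional sign changes -/
theorem eq_or_compl (h2 : (2 : F) ≠ 0) {J K : Finset (Fin 12)} {c : F} (h : sgn v K = c • sgn v J) : K = J ∨ K = Jᶜ := by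
  have h1 : ∀ j, sg F K j = c * sg F J j := by
    intro j
    have h3 := congrArg (fun f : Module.End F V => f (v j)) h
    simp only [LinearMap.smul_apply] at h3
    rw [sgn_basis, sgn_basis, smul_smul] at h3
    have h4 : (sg F K j - c * sg F J j) • v j = 0 := by rw [sub_smul, h3, sub_self]
    exact sub_eq_zero.1 ((smul_eq_zero.1 h4).resolve_right (v.ne_zero j))
  have hne : (-1 : F) ≠ 1 := by
    intro h
    apply h2
    linear_combination -h
  have hsg : ∀ (J : Finset (Fin 12)) (j : Fin 12), (sg F J j = 1 ↔ j ∉ J) ∧ (sg F J j = -1 ↔ j ∈ J) := by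
    intro J j
    unfold sg
    by_cases hj : j ∈ J
    · simp [hj, hne]
    · simp [hj, hne.symm]
  have hcc : c = 1 ∨ c = -1 := by
    have h3 := h1 0
    by_cases hJ : (0 : Fin 12) ∈ J <;> by_cases hK : (0 : Fin 12) ∈ K
    · rw [((hsg J 0).2).2 hJ, ((hsg K 0).2).2 hK] at h3
      left; linear_combination h3
    · rw [((hsg J 0).2).2 hJ, ((hsg K 0).1).2 hK] at h3
      right; linear_combination h3
    · rw [((hsg J 0).1).2 hJ, ((hsg K 0).2).2 hK] at h3
      right; linear_combination -h3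
    · rw [((hsg J 0).1).2 hJ, ((hsg K 0).1).2 hK] at h3
      left; linear_combination -h3
  rcases hcc with rfl | rfl
  · left
    ext j
    rw [← (hsg K j).2, ← (hsg J j).2, h1 j, one_mul]
  · right
    ext j
    rw [Finset.mem_compl, ← (hsg K j).2, ← (hsg J j).1, h1 j]
    constructor
    · intro h; linear_combination -h
    · intro h; rw [h, mul_one]

end sgn

section count

variable {F : Type*} [Field F] [Finite F]

theorem isSquare_mul_of_not {a b : F} (ha : ¬ IsSquare a) (hb : ¬ IsSquare b) : IsSquare (a * b) := by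
  classical
  have := Fintype.ofFinite F
  have ha0 : a ≠ 0 := by rintro rfl; exact ha ⟨0, by simp⟩
  have hb0 : b ≠ 0 := by rintro rfl; exact hb ⟨0, by simp⟩
  by_cases h2 : ringChar F = 2
  · exact absurd (FiniteField.isSquare_of_char_two h2 a) ha
  · rw [← quadraticChar_one_iff_isSquare (mul_ne_zero ha0 hb0), map_mul,
      quadraticChar_neg_one_iff_not_isSquare.2 ha, quadraticChar_neg_one_iff_not_isSquare.2 hb]
    norm_num

/-- the good sets of signs -/
def GJ (d : Fin 12 → F) (J : Finset (Fin 12)) : Prop := Even J.card ∧ IsSquare (∏ j ∈ J, d j)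

theorem prod_symmDiff {d : Fin 12 → F} (J K : Finset (Fin 12)) :
    (∏ j ∈ J ∆ K, d j) * (∏ j ∈ J ∩ K, d j) ^ 2 = (∏ j ∈ J, d j) * ∏ j ∈ K, d j := by
  have h1 : ∏ j ∈ J ∆ K, d j = (∏ j ∈ J \ K, d j) * ∏ j ∈ K \ J, d j := by
    rw [show J ∆ K = (J \ K) ∪ (K \ J) from rfl, Finset.prod_union]
    exact disjoint_sdiff_sdiff
  have h2 := Finset.prod_inter_mul_prod_sdiff J K d
  have h3 := Finset.prod_inter_mul_prod_sdiff K J d
  rw [Finset.inter_comm K J] at h3
  rw [h1, ← h2, ← h3]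
  ring

theorem card_symmDiff (J K : Finset (Fin 12)) : (J ∆ K).card + 2 * (J ∩ K).card = J.card + K.card := by
  have h1 : (J ∆ K).card = (J \ K).card + (K \ J).card := by
    rw [show J ∆ K = (J \ K) ∪ (K \ J) from rfl, Finset.card_union_of_disjoint]
    exact disjoint_sdiff_sdiff
  have h2 := Finset.card_inter_add_card_sdiff J K
  have h3 := Finset.card_inter_add_card_sdiff K J
  rw [Finset.inter_comm K J] at h3
  omega

theorem isSquare_of_mul_sq {a b : F} (hb : b ≠ 0) (h : IsSquare (a * b ^ 2)) : IsSquare a := by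
  obtain ⟨c, hc⟩ := h
  refine ⟨c / b, ?_⟩
  field_simp
  rw [hc]
  ring

theorem gj_symmDiff {d : Fin 12 → F} (hd : ∀ j, d j ≠ 0) {J K : Finset (Fin 12)} (h1 : (Even J.card ↔ Even K.card))
    (h2 : IsSquare (∏ j ∈ J, d j) ↔ IsSquare (∏ j ∈ K, d j)) : GJ d (J ∆ K) := by
  constructor
  · have := card_symmDiff J K
    have h3 : Even (J.card + K.card) := by rw [Nat.even_add]; exact h1
    rw [← this, Nat.even_add] at h3
    exact h3.2 (even_two_mul _)
  · refine isSquare_of_mul_sq (b := ∏ j ∈ J ∩ K, d j) (Finset.prod_ne_zero_iff.2 fun j _ => hd j) ?_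
    rw [prod_symmDiff]
    by_cases h : IsSquare (∏ j ∈ J, d j)
    · exact h.mul (h2.1 h)
    · exact isSquare_mul_of_not h fun h' => h (h2.2 h')

open Classical in
theorem card_gj {d : Fin 12 → F} (hd : ∀ j, d j ≠ 0) :
    2 ^ 10 ≤ (Finset.univ.filter fun J : Finset (Fin 12) => GJ d J).card := by
  let φ : Finset (Fin 12) → Bool × Bool := fun J => (decide (Even J.card), decide (IsSquare (∏ j ∈ J, d j)))
  obtain ⟨y, _, hy⟩ := Finset.exists_le_card_fiber_of_mul_le_card_of_maps_to (s := (Finset.univ : Finset (Finset (Fin 12))))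
    (t := (Finset.univ : Finset (Bool × Bool))) (f := φ) (n := 2 ^ 10) (fun _ _ => Finset.mem_univ _)
    ⟨(true, true), Finset.mem_univ _⟩ (by simp)
  have hne : (Finset.univ.filter fun J : Finset (Fin 12) => φ J = y).Nonempty := by
    rw [← Finset.card_pos]
    exact lt_of_lt_of_le (by norm_num) hy
  obtain ⟨K, hK⟩ := hne
  rw [Finset.mem_filter] at hK
  refine hy.trans ?_
  refine Finset.card_le_card_of_injOn (fun J => J ∆ K) ?_ ?_
  · intro J hJ
    rw [Finset.mem_coe, Finset.mem_filter] at hJ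
    rw [Finset.mem_coe, Finset.mem_filter]
    refine ⟨Finset.mem_univ _, ?_⟩
    have h1 : φ J = φ K := by rw [hJ.2, hK.2]
    have h2 := congrArg Prod.fst h1
    have h3 := congrArg Prod.snd h1
    simp only [φ, decide_eq_decide] at h2 h3
    exact gj_symmDiff hd h2 h3
  · intro J _ J' _ h
    exact symmDiff_left_injective K h

end count

section main

variable {G : Type*} [Group G] {F : Type*} [Field F] {V : Type*} [AddCommGroup V] [Module F V]

theorem Rz {z : G} {B : LinearMap.BilinForm F V} (I : E7I z F B) : I.R z 1 1 := by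
  have h1 := I.Rι (-1)
  rw [I.ι_neg] at h1
  have h2 := I.scal (c := -1) (d := 1) h1 (by simp) one_ne_zero
  rw [one_smul] at h2
  convert h2 using 1
  ext i j
  simp

theorem t0_E7 [Finite G] [Finite F] {z : G} {B : LinearMap.BilinForm F V} (I : E7I z F B) (hz : z ≠ 1)
    (Y : Set (Module.End F V)) (hc : ∀ M ∈ Y, ∀ N ∈ Y, M * N = N * M)
    (hY : ∀ M ∈ Y, _root_.Cfsg.Agent.H627.Co3.Sym B M ∧ ∃ ν : F, ν ≠ 0 ∧ M * M = ν ^ 2 • 1) :
    ∃ W : Subgroup G, IsPGroup 2 W ∧ 2 ^ 10 ≤ Nat.card W ∧ z ∈ W ∧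
      ∀ w ∈ W, ∃ N, N ∈ I.Om ∧ I.R w 1 N ∧ N * N = 1 ∧ ∀ M ∈ Y, N * M = M * N := by
  classical
  have : FiniteDimensional F V := Module.finite_of_finrank_pos (by rw [I.dim]; norm_num)
  obtain ⟨v, hv1, hv2, hv3⟩ := exists_eigenbasis (B := B) (S := Y) I.two I.symm I.nd (fun M hM => (hY M hM).2)
    (fun M hM => (hY M hM).1) hc I.dim
  set d : Fin 12 → F := fun j => B (v j) (v j) with hd
  have hom : ∀ J, sgn v J ∈ I.Om ↔ GJ d J := fun J => I.signs v hv1 J
  have hzz : z * z = 1 := by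
    have h1 := I.mul (Rz I) (Rz I)
    rw [mul_one, mul_one] at h1
    rcases I.ker h1 with h | h
    · exact h
    · exact absurd (by simpa using h) hz
  have hzW : ∃ J, GJ d J ∧ I.R z 1 (sgn v J) := ⟨∅, ⟨by simp only [_root_.Finset.card_empty, _root_.Even.zero], ⟨1, by simp⟩⟩, by rw [sgn_empty]; exact Rz I⟩
  have hmulW : ∀ {a b : G}, (∃ J, GJ d J ∧ I.R a 1 (sgn v J)) → (∃ J, GJ d J ∧ I.R b 1 (sgn v J)) →
      ∃ J, GJ d J ∧ I.R (a * b) 1 (sgn v J) := by
    rintro a b ⟨J, hJ, hJ'⟩ ⟨K, hK, hK'⟩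
    refine ⟨J ∆ K, gj_symmDiff hv2 (iff_of_true hJ.1 hK.1) (iff_of_true hJ.2 hK.2), ?_⟩
    have := I.mul hJ' hK'
    rwa [mul_one, sgn_mul] at this
  have hsqW : ∀ {a : G}, (∃ J, GJ d J ∧ I.R a 1 (sgn v J)) → a * a = 1 ∨ a * a = z := by
    rintro a ⟨J, hJ, hJ'⟩
    have := I.mul hJ' hJ'
    rw [mul_one, sgn_mul, symmDiff_self] at this
    refine I.ker ?_
    rwa [Finset.bot_eq_empty, sgn_empty] at this
  have hone : ∃ J, GJ d J ∧ I.R 1 1 (sgn v J) := by
    have := hmulW hzW hzW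
    rwa [hzz] at this
  let W : Subgroup G :=
    { carrier := {g | ∃ J, GJ d J ∧ I.R g 1 (sgn v J)}
      mul_mem' := fun ha hb => hmulW ha hb
      one_mem' := hone
      inv_mem' := by
        intro a ha
        rcases hsqW ha with h | h
        · have : a⁻¹ = a := inv_eq_of_mul_eq_one_left h
          rw [this]
          exact ha
        · have : a⁻¹ = a * z := by
            refine inv_eq_of_mul_eq_one_right ?_
            rw [← mul_assoc, h, hzz]
          rw [this]
          exact hmulW ha hzW }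
  have hW : ∀ g, g ∈ W ↔ ∃ J, GJ d J ∧ I.R g 1 (sgn v J) := fun g => Iff.rfl
  refine ⟨W, ?_, ?_, hzW, ?_⟩
  · rintro ⟨g, hg⟩
    refine ⟨2, Subtype.ext ?_⟩
    change g ^ (2 ^ 2) = 1
    have h1 : g ^ (2 ^ 2) = (g * g) * (g * g) := by
      rw [← pow_two, ← pow_two, ← pow_mul]
      norm_num
    rw [h1]
    rcases hsqW hg with h | h <;> rw [h]
    · rw [mul_one]
    · exact hzz
  · -- the order
    have hex : ∀ J : Finset (Fin 12), ∃ g, GJ d J → I.R g 1 (sgn v J) := by
      intro J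
      by_cases hJ : GJ d J
      · obtain ⟨g, hg⟩ := I.omS ((hom J).2 hJ)
        exact ⟨g, fun _ => hg⟩
      · exact ⟨1, fun h => absurd h hJ⟩
    choose γ hγ using hex
    let S : Finset (Finset (Fin 12)) := Finset.univ.filter fun J => GJ d J
    let f : Finset (Fin 12) × Bool → G := fun x => γ x.1 * (if x.2 then z else 1)
    have hfW : ∀ x ∈ S ×ˢ (Finset.univ : Finset Bool), ∃ K, I.R (f x) 1 (sgn v x.1) ∧ GJ d K ∧ I.R (f x) 1 (sgn v K) := by
      intro x hx
      rw [Finset.mem_product, Finset.mem_filter] at hx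
      have hx' := hγ x.1 hx.1.2
      refine ⟨x.1, ?_⟩
      have key : I.R (f x) 1 (sgn v x.1) := by
        change I.R (γ x.1 * (if x.2 then z else 1)) 1 (sgn v x.1)
        split_ifs
        · have := I.mul hx' (Rz I)
          rwa [mul_one, mul_one] at this
        · rwa [mul_one]
      exact ⟨key, hx.1.2, key⟩
    have hfib : ∀ b ∈ (S ×ˢ (Finset.univ : Finset Bool)).image f,
        ((S ×ˢ (Finset.univ : Finset Bool)).filter fun x => f x = b).card ≤ 2 := by
      intro b hb
      obtain ⟨x₀, hx₀, rfl⟩ := Finset.mem_image.1 hb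
      have h1 : ∀ x ∈ (S ×ˢ (Finset.univ : Finset Bool)).filter fun x => f x = f x₀, x.1 = x₀.1 ∨ x.1 = x₀.1ᶜ := by
        intro x hx
        rw [Finset.mem_filter] at hx
        obtain ⟨_, hx1, _⟩ := hfW x hx.1
        obtain ⟨_, hx2, _⟩ := hfW x₀ hx₀
        rw [hx.2] at hx1
        obtain ⟨_, c, hcc⟩ := I.uniq hx2 hx1
        exact eq_or_compl v I.two hcc
      have h2 : Set.InjOn Prod.fst (((S ×ˢ (Finset.univ : Finset Bool)).filter fun x => f x = f x₀ :
          Finset (Finset (Fin 12) × Bool)) : Set (Finset (Fin 12) × Bool)) := by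
        rintro ⟨J, e⟩ hx ⟨J', e'⟩ hy h
        have hJ : J = J' := h
        subst hJ
        rw [Finset.mem_coe, Finset.mem_filter] at hx hy
        have h3 : f (J, e) = f (J, e') := hx.2.trans hy.2.symm
        have h4 : (if e then z else 1 : G) = if e' then z else 1 := mul_left_cancel h3
        have h5 : e = e' := by
          cases e <;> cases e' <;> simp_all only [_root_.ne_eq, _root_.Fintype.univ_bool, _root_.Finset.mem_product, _root_.Finset.mem_insert, _root_.Finset.mem_singleton, _root_.Bool.eq_true_or_eq_false_self, _root_.and_true, _root_.exists_and_left, _root_.Prod.forall, _root_.Bool.forall_bool, _root_.Finset.mem_image, _root_.Prod.exists, _root_.Bool.exists_bool, _root_.Finset.mem_filter, _root_.and_imp, _root_.Bool.false_eq_true, _root_.or_true, _root_.and_self, _root_.true_and, ↓ _root_.reduceIte, _root_.Bool.true_eq_false, _root_.or_false, _root_.not_true_eq_false]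
        rw [h5]
      calc _ = (((S ×ˢ (Finset.univ : Finset Bool)).filter fun x => f x = f x₀).image Prod.fst).card :=
            (Finset.card_image_of_injOn h2).symm
        _ ≤ ({x₀.1, x₀.1ᶜ} : Finset (Finset (Fin 12))).card := by
            refine Finset.card_le_card fun J hJ => ?_
            obtain ⟨x, hx, rfl⟩ := Finset.mem_image.1 hJ
            rw [Finset.mem_insert, Finset.mem_singleton]
            exact h1 x hx
        _ ≤ 2 := Finset.card_le_two
    have h3 := Finset.card_le_mul_card_image (S ×ˢ (Finset.univ : Finset Bool)) 2 hfib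
    rw [Finset.card_product, Finset.card_univ, Fintype.card_bool] at h3
    have h4 : 2 ^ 10 ≤ S.card := card_gj hv2
    have h5 : ((S ×ˢ (Finset.univ : Finset Bool)).image f).card ≤ Nat.card W := by
      have h6 : Nat.card W = (W : Set G).ncard := Nat.card_coe_set_eq (W : Set G)
      rw [h6, ← Set.ncard_coe_finset]
      refine Set.ncard_le_ncard ?_ (Set.toFinite _)
      intro g hg
      rw [Finset.mem_coe, Finset.mem_image] at hg
      obtain ⟨x, hx, rfl⟩ := hg
      obtain ⟨K, _, hK, hK'⟩ := hfW x hx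
      exact ⟨K, hK, hK'⟩
    omega
  · rintro w ⟨J, hJ, hJ'⟩
    refine ⟨sgn v J, (hom J).2 hJ, hJ', ?_, fun M hM => sgn_comm v (hv3 M hM) J⟩
    rw [sgn_mul, symmDiff_self, Finset.bot_eq_empty, sgn_empty]

end main

end Cfsg.Agent.H898.Co3
end

-- part: H627/Co3/Dd
section
/-!
# S1920, case B, `E₇(q)`: the subgroup `D` of elements acting trivially on `sl₂` (helper627)
-/

set_option autoImplicit false

namespace Cfsg.Agent.H627.Co3

open Module Subgroup Matrix
open Cfsg.Agent.H13.Co3 Cfsg.Agent.H738.C3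

variable {G : Type*} [Group G] {z : G} {F V : Type*} [Field F] [AddCommGroup V] [Module F V] {B : LinearMap.BilinForm F V}

variable (I : E7I z F B) {P N0 : Subgroup G} {s : G} {ψ : ↥(normalizer (P : Set G)) →* Equiv.Perm (Fin 6)}
  (C : CB P N0 z s ψ)

include C in
theorem inv_eq {n : G} (hn : n ∈ N0) : n⁻¹ = n ∨ n⁻¹ = z * n := by
  rcases C.sq n hn with h | h
  · left; exact inv_eq_of_mul_eq_one_right h
  · right
    apply inv_eq_of_mul_eq_one_right
    rw [← mul_assoc, cz C hn, mul_assoc, h, C.z_sq]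

include C in
theorem sc_mul {g h : G} (hg : g ∈ N0) (hh : h ∈ N0) (h1 : Sc (I.aa g)) (h2 : Sc (I.aa h)) : Sc (I.aa (g * h)) := by
  rw [sc_iff I (I.mul (R_N I C hg) (R_N I C hh))]
  obtain ⟨c, hc⟩ := h1
  obtain ⟨d, hd⟩ := h2
  exact ⟨c * d, by rw [hc, hd, smul_mul_assoc, mul_smul_comm, one_mul, smul_smul]⟩

theorem sc_one : Sc (I.aa 1) := (sc_iff I I.R_one).2 ⟨1, by rw [one_smul]⟩

theorem sc_z : Sc (I.aa z) := (sc_iff I I.R_z).2 ⟨1, by rw [one_smul]⟩

/-- the elements of `N0` acting trivially on `sl₂` -/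
def DD : Subgroup G where
  carrier := {n | n ∈ N0 ∧ Sc (I.aa n)}
  one_mem' := ⟨one_mem _, sc_one I⟩
  mul_mem' := fun {g h} hg hh => ⟨mul_mem hg.1 hh.1, sc_mul I C hg.1 hh.1 hg.2 hh.2⟩
  inv_mem' := by
    rintro g ⟨hg, h1⟩
    refine ⟨inv_mem hg, ?_⟩
    rcases inv_eq C hg with h | h
    · rw [h]; exact h1
    · rw [h]; exact sc_mul I C (C.PN C.zP) hg (sc_z I) h1

theorem DD_le : DD I C ≤ N0 := fun _ h => h.1

/-- **no nontrivial sign function on `D`** -/
theorem killD [Finite G] (h16 : 16 ≤ Nat.card (DD I C))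
    (hZ : ∀ x ∈ DD I C, (∀ y ∈ DD I C, x * y = y * x) → x * x = 1 → x = 1 ∨ x = z) {f : G → F}
    (hf : ∀ x ∈ DD I C, ∀ y ∈ DD I C, f (x * y) = f x * f y) (hpm : ∀ x, f x = 1 ∨ f x = -1)
    (h1 : ∀ y ∈ DD I C, y * y = 1 → f y = 1) : ∀ y ∈ DD I C, f y = 1 := by
  by_contra hne
  push Not at hne
  obtain ⟨y0, hy0, hy1⟩ := hne
  have hm1 : ∀ {x}, f x ≠ 1 → f x = -1 := fun {x} h => (hpm x).resolve_left h
  refine lemE C (DD_le I C) h16 hZ (D' := {x | x ∈ DD I C ∧ f x = 1}) (fun x hx => hx.1) ?_ ?_ ?_ ⟨y0, hy0, ?_⟩ ?_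
  · rintro x ⟨hx, h2⟩ y ⟨hy, h3⟩
    exact ⟨mul_mem hx hy, by rw [hf x hx y hy, h2, h3, one_mul]⟩
  · rintro x ⟨hx, h2⟩ y hy h3 ⟨-, h4⟩
    rw [hf x hx y hy, h2, one_mul] at h4
    exact h3 ⟨hy, h4⟩
  · rintro x hx y hy h2 h3
    refine ⟨mul_mem hx hy, ?_⟩
    rw [hf x hx y hy, hm1 (fun h => h2 ⟨hx, h⟩), hm1 (fun h => h3 ⟨hy, h⟩)]
    ring
  · rintro ⟨-, h⟩; exact hy1 h
  · intro y hy h2
    rcases C.sq y hy.1 with h | h
    · exact absurd ⟨hy, h1 y hy h⟩ h2
    · exact h

/-- the commutators of `D` vanish -/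
theorem cc_D [Finite G] (h16 : 16 ≤ Nat.card (DD I C))
    (hZ : ∀ x ∈ DD I C, (∀ y ∈ DD I C, x * y = y * x) → x * x = 1 → x = 1 ∨ x = z) {m : G} (hm : m ∈ N0) :
    ∀ y ∈ DD I C, I.cc y m = 1 :=
  killD I C h16 hZ (f := fun x => I.cc x m) (fun _ hx _ hy => cc_mul_left I C hx.1 hy.1 hm) (fun x => I.cc_or x m)
    (fun _ hy h => (tab1 I C hy.1 hy.2 h).2 m hm)

theorem ee_D [Finite G] (h16 : 16 ≤ Nat.card (DD I C))
    (hZ : ∀ x ∈ DD I C, (∀ y ∈ DD I C, x * y = y * x) → x * x = 1 → x = 1 ∨ x = z) : ∀ y ∈ DD I C, I.ee y = 1 :=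
  killD I C h16 hZ (f := fun x => I.ee x) (fun x hx y hy => by
      show I.ee (x * y) = I.ee x * I.ee y
      rw [ee_mul I C hx.1 hy.1, cc_D I C h16 hZ hy.1 x hx, mul_one])
    (fun x => I.ee_or x) (fun _ hy h => (tab1 I C hy.1 hy.2 h).1)

include C in
theorem cc_rep {n m : G} (hn : n ∈ N0) (hm : m ∈ N0) {a a' : Matrix (Fin 2) (Fin 2) F} {M M' : Module.End F V}
    (h1 : I.R n a M) (h2 : I.R m a' M') : M * M' = I.cc n m • (M' * M) := by
  obtain ⟨-, d, hd, rfl⟩ := I.prop h1
  obtain ⟨-, d', hd', rfl⟩ := I.prop h2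
  simp only [smul_mul_assoc, mul_smul_comm, cc_spec I C hn hm, smul_smul]
  congr 1
  ring

include C in
theorem sqOm {n : G} (hn : n ∈ N0) (he : I.ee n = 1) {a : Matrix (Fin 2) (Fin 2) F} {M : Module.End F V} (hM : M ∈ I.Om)
    (h1 : I.R n a M) : Sym B M ∧ M * M = 1 := by
  obtain ⟨-, l, hl, hMM⟩ := sq_ex I C hn h1
  obtain ⟨-, d, hd0, hMd⟩ := I.prop h1
  have hsym : Sym B M := by
    intro v w
    rw [hMd, LinearMap.smul_apply, map_smul, LinearMap.smul_apply, LinearMap.smul_apply, map_smul, ee_sym I C hn he]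
  refine ⟨hsym, ?_⟩
  have hl1 : l = 1 := by
    obtain ⟨v, w, hvw⟩ := I.exB
    have h3 := I.om_iso hM v w
    have h4 : M (M w) = l • w := by
      have := End_ext hMM w
      simpa only [_root_.Module.End.mul_apply, _root_.LinearMap.smul_apply, _root_.Module.End.one_apply] using this
    rw [hsym, h4, map_smul, smul_eq_mul] at h3
    have h5 : (l - 1) * B v w = 0 := by linear_combination h3
    exact sub_eq_zero.1 ((mul_eq_zero.1 h5).resolve_right hvw)
  rw [hMM, hl1, one_smul]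

/-- **(T0)** if `c = 0`, `e = 0` on `D` and `N0 = D (N0 ∩ ι(SL₂))`: a big 2-subgroup of `A` acting trivially on `sl₂` -/
theorem exists_W [Finite G] [Finite F] (hcc : ∀ x ∈ DD I C, ∀ y ∈ DD I C, I.cc x y = 1) (hee : ∀ x ∈ DD I C, I.ee x = 1)
    (hN : ∀ n ∈ N0, ∃ q, q ∈ N0 ∧ (∃ a, I.R q a 1) ∧ n * q ∈ DD I C) :
    ∃ W : Subgroup G, IsPGroup 2 W ∧ 2 ^ 10 ≤ Nat.card W ∧ W ≤ AA C ∧ ∀ w ∈ W, ∃ N, I.R w 1 N := by
  obtain ⟨W, h1, h2, h3, h4⟩ := Cfsg.Agent.H898.Co3.t0_E7 I C.z_ne
    {M | M ∈ I.Om ∧ ∃ n ∈ DD I C, I.R n 1 M} (by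
      rintro M ⟨hM, n, hn, hR⟩ N ⟨hN, m, hm, hR'⟩
      have h1 := cc_rep I C hn.1 hm.1 hR hR'
      rwa [hcc n hn m hm, one_smul] at h1) (by
      rintro M ⟨hM, n, hn, hR⟩
      obtain ⟨h1, h2⟩ := sqOm I C hn.1 (hee n hn) hM hR
      exact ⟨h1, 1, one_ne_zero, by rw [one_pow, one_smul]; exact h2⟩)
  refine ⟨W, h1, h2, ?_, fun w hw => ?_⟩
  · intro w hw
    obtain ⟨N, -, hN1, -, hN2⟩ := h4 w hw
    rw [mem_AA, act_iff C]
    intro n hn
    obtain ⟨q, hq, ⟨a, hqa⟩, hnq⟩ := hN n hn
    obtain ⟨M, hMO, hM⟩ := exOm I C hnq.1 hnq.2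
    have h5 := hN2 M ⟨hMO, _, hnq, hM⟩
    have h6 := I.mul (R_N I C hn) hqa
    rw [mul_one] at h6
    obtain ⟨-, c, hc⟩ := I.uniq hM h6
    refine I.comm_of (c := 1) (d := 1) hN1 (R_N I C hn) (by rw [one_mul, mul_one, one_smul]) ?_
    rw [one_smul, hc, mul_smul_comm, smul_mul_assoc, h5]
  · obtain ⟨N, -, hN1, -⟩ := h4 w hw
    exact ⟨N, hN1⟩

/-- the order of `W` -/
theorem card_W [Finite G] {W : Subgroup G} (hW : IsPGroup 2 W) (hWA : W ≤ AA C) (hR : ∀ w ∈ W, ∃ N, I.R w 1 N) :
    Nat.card W ≤ Nat.card (DD I C) * 16 := by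
  have : Fact (Nat.Prime 2) := ⟨Nat.prime_two⟩
  set f : ↥W →* Equiv.Perm (Fin 6) := (psi C).comp (inclusion hWA) with hf
  have h1 : Nat.card ↥W = Nat.card f.ker * Nat.card f.range := by
    rw [← Subgroup.card_mul_index f.ker, ← Nat.card_congr (QuotientGroup.quotientKerEquivRange f).toEquiv]
    rfl
  have hker : Nat.card f.ker ≤ Nat.card (DD I C) := by
    refine Nat.card_le_card_of_injective (fun w => ⟨(w.1 : G), ?_⟩) ?_
    · have h2 : (w.1 : G) ∈ N0 := by
        refine mem_N0_of_psi C (hWA w.1.2) ?_ w.2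
        obtain ⟨k, hk⟩ := hW w.1
        exact ⟨k, by rw [← SubmonoidClass.coe_pow, hk]; rfl⟩
      obtain ⟨N, hN⟩ := hR _ w.1.2
      exact ⟨h2, (sc_iff I hN).2 ⟨1, by rw [one_smul]⟩⟩
    · intro a b hab
      exact Subtype.ext (Subtype.ext (congrArg (fun x : ↥(DD I C) => (x : G)) hab))
  have hrange : IsPGroup 2 f.range := hW.of_surjective f.rangeRestrict f.rangeRestrict_surjective
  obtain ⟨a, ha⟩ := hrange.exists_card_eq
  have h5 : Nat.card f.range ∣ 720 := by
    have := Subgroup.card_subgroup_dvd_card f.range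
    rwa [Nat.card_eq_fintype_card (α := Equiv.Perm (Fin 6)), Fintype.card_perm] at this
  have h6 : 2 ^ a ∣ 2 ^ 4 * 45 := by rw [← ha]; exact h5
  have h7 : 2 ^ a ∣ 2 ^ 4 := (Nat.Coprime.pow_left a (by norm_num)).dvd_of_dvd_mul_right h6
  have h8 : Nat.card f.range ≤ 16 := by rw [ha]; exact Nat.le_of_dvd (by norm_num) h7
  rw [h1]
  exact Nat.mul_le_mul hker h8

end Cfsg.Agent.H627.Co3
end

-- part: H627/Co3/Main
section
/-!
# S1920, case B, `E₇(q)`, `z` of type `A₁D₆`: the contradiction (helper627)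
-/

set_option autoImplicit false

namespace Cfsg.Agent.H627.Co3

open Module Subgroup Matrix
open Cfsg.Agent.H13.Co3 Cfsg.Agent.H738.C3

variable {G : Type*} [Group G] {z : G} {F V : Type*} [Field F] [AddCommGroup V] [Module F V] {B : LinearMap.BilinForm F V}

theorem exists_conj {a : Matrix (Fin 2) (Fin 2) F} (ha : a.det ≠ 0) (x : Matrix.SpecialLinearGroup (Fin 2) F) :
    ∃ x' : Matrix.SpecialLinearGroup (Fin 2) F, x'.1 * a = a * x.1 := by
  have hu : IsUnit a.det := isUnit_iff_ne_zero.2 ha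
  refine ⟨⟨a * x.1 * a⁻¹, ?_⟩, ?_⟩
  · rw [Matrix.det_mul, Matrix.det_mul, x.2, mul_one, ← Matrix.det_mul, Matrix.mul_nonsing_inv _ hu, Matrix.det_one]
  · show a * x.1 * a⁻¹ * a = a * x.1
    rw [mul_assoc, Matrix.nonsing_inv_mul _ hu, mul_one]

theorem exists_w : ∃ w : Matrix.SpecialLinearGroup (Fin 2) F, w.1 * w.1 = -1 ∧ ¬ Sc w.1 := by
  refine ⟨⟨!![0, 1; -1, 0], by simp [Matrix.det_fin_two]⟩, ?_, ?_⟩
  · ext i j
    (revert i j; simp only [Matrix.mul_apply, Fin.sum_univ_two, _root_.Fin.forall_fin_succ, _root_.Matrix.of_apply, _root_.Matrix.cons_val', _root_.Matrix.cons_val_fin_one, Fin.isValue, _root_.Matrix.cons_val_zero, _root_.Matrix.cons_val_one, _root_.Matrix.neg_apply, _root_.MulZeroClass.mul_zero, _root_.mul_neg, _root_.mul_one, _root_.zero_add, _root_.neg_inj, _root_.Matrix.cons_val_succ, _root_.add_zero, _root_.IsEmpty.forall_iff, _root_.and_true, _root_.Matrix.one_apply_eq, Nat.reduceAdd, _root_.Fin.succ_zero_eq_one, _root_.ne_eq, _root_.zero_ne_one,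 _root_.not_false_eq_true, _root_.Matrix.one_apply_ne, _root_.neg_zero, _root_.and_self, _root_.Fin.succ_ne_zero, _root_.true_and])
  · rintro ⟨c, hc⟩
    have := (entries hc).2.1
    simp at this

variable (I : E7I z F B) {P N0 : Subgroup G} {s : G} {ψ : ↥(normalizer (P : Set G)) →* Equiv.Perm (Fin 6)}
  (C : CB P N0 z s ψ)

include C in
theorem exists_K1 [Finite G] (hall : ∀ n ∈ N0, Sc (I.aa n)) (π : Equiv.Perm (Fin 6)) (hπ : Equiv.Perm.sign π = 1) :
    ∃ k, ∃ hk : k ∈ AA C, k ∈ Set.range I.ι ∧ psi C ⟨k, hk⟩ = π := by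
  have hι : ∀ x, I.ι x ∈ AA C := by
    intro x
    rw [mem_AA, act_iff C]
    intro n hn
    obtain ⟨c, hc⟩ := hall n hn
    refine I.comm_of (c := 1) (d := 1) (I.Rι x) (R_N I C hn) ?_ ?_
    · rw [hc, mul_smul_comm, smul_mul_assoc, one_mul, mul_one, one_smul]
    · rw [one_mul, mul_one, one_smul]
  let κ : Matrix.SpecialLinearGroup (Fin 2) F →* Equiv.Perm (Fin 6) := (psi C).comp (I.ι.codRestrict (AA C) hι)
  have hκ : ∀ x, κ x = psi C ⟨I.ι x, hι x⟩ := fun _ => rfl
  have hnorm : ∀ σ : Equiv.Perm (Fin 6), Equiv.Perm.sign σ = 1 → ∀ x, ∃ x', σ * κ x * σ⁻¹ = κ x' := by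
    intro σ hσ x
    obtain ⟨g, hg, hc, hgσ⟩ := exists_even C hσ
    have hgz : g * z = z * g := hc z (C.PN C.zP)
    obtain ⟨a, M, hR⟩ := I.ex g hgz
    obtain ⟨x', hx'⟩ := exists_conj (I.det hR) x
    have h1 := I.conj_ι hR hx'
    refine ⟨x', ?_⟩
    rw [← hgσ, hκ, hκ, mul_inv_eq_iff_eq_mul, ← map_mul, ← map_mul]
    exact congrArg _ (Subtype.ext h1)
  obtain ⟨w, hw, hws⟩ := exists_w (F := F)
  have hκw : κ w ≠ 1 := by
    intro h1
    have h2 : I.ι w ∈ N0 := by
      refine mem_N0_of_psi C (hι w) ⟨2, ?_⟩ h1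
      rw [show (2 : ℕ) ^ 2 = 2 * 2 from rfl, pow_mul, pow_two (I.ι w), four I hw, pow_two, C.z_sq]
    exact hws ((sc_iff I (I.Rι w)).1 (hall _ h2))
  have hex : ∃ σ ∈ alternatingGroup (Fin 6), ¬ (σ * κ w = κ w * σ) := by
    by_contra h
    push Not at h
    exact hκw (cent_alt_six _ h)
  obtain ⟨σ, hσ, hne⟩ := hex
  have hsσ := Equiv.Perm.mem_alternatingGroup.1 hσ
  let H : Subgroup ↥(alternatingGroup (Fin 6)) := κ.range.subgroupOf (alternatingGroup (Fin 6))
  have hH : H.Normal := by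
    constructor
    rintro ⟨n, hn⟩ hnH ⟨g, hg⟩
    rw [mem_subgroupOf] at hnH ⊢
    obtain ⟨x, hx⟩ := hnH
    obtain ⟨x', hx'⟩ := hnorm g (Equiv.Perm.mem_alternatingGroup.1 hg) x
    refine ⟨x', ?_⟩
    rw [← hx', hx]
    rfl
  have : IsSimpleGroup ↥(alternatingGroup (Fin 6)) := alternatingGroup.isSimpleGroup (by simp)
  have hHne : H ≠ ⊥ := by
    intro h0
    obtain ⟨x', hx'⟩ := hnorm σ hsσ w
    have h1 : σ * κ w * σ⁻¹ * (κ w)⁻¹ ∈ alternatingGroup (Fin 6) := by
      rw [Equiv.Perm.mem_alternatingGroup, map_mul, map_mul, map_mul, map_inv, map_inv, hsσ, one_mul, inv_one, mul_one,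
        mul_inv_cancel]
    have h2 : (⟨_, h1⟩ : ↥(alternatingGroup (Fin 6))) ∈ H := by
      rw [mem_subgroupOf]
      refine ⟨x' * w⁻¹, ?_⟩
      rw [map_mul, map_inv, ← hx']
    rw [h0, mem_bot] at h2
    have h3 : σ * κ w * σ⁻¹ * (κ w)⁻¹ = 1 := congrArg Subtype.val h2
    apply hne
    rwa [mul_inv_eq_one, mul_inv_eq_iff_eq_mul] at h3
  have hHt : H = ⊤ := (hH.eq_bot_or_eq_top).resolve_left hHne
  have h3 : (⟨π, Equiv.Perm.mem_alternatingGroup.2 hπ⟩ : ↥(alternatingGroup (Fin 6))) ∈ H := by rw [hHt]; exact mem_top _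
  rw [mem_subgroupOf] at h3
  obtain ⟨x, hx⟩ := h3
  exact ⟨I.ι x, hι x, ⟨x, rfl⟩, hx⟩

include C in
/-- all `a_n` scalar -/
theorem case_i [Finite G] [Finite F] (hall : ∀ n ∈ N0, Sc (I.aa n)) : False := by
  have hD : ∀ {n}, n ∈ N0 → n ∈ DD I C := fun hn => ⟨hn, hall _ hn⟩
  have hDe : DD I C = N0 := le_antisymm (DD_le I C) fun _ h => hD h
  have h16 : 16 ≤ Nat.card (DD I C) := by rw [hDe, C.card]; norm_num
  have hZ : ∀ x ∈ DD I C, (∀ y ∈ DD I C, x * y = y * x) → x * x = 1 → x = 1 ∨ x = z := fun x hx h1 h2 =>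
    mem_z_of_cen C hx.1 (fun m hm => h1 m (hD hm)) h2
  obtain ⟨W, h1, h2, h3, h4⟩ := exists_W I C (fun x hx y hy => cc_D I C h16 hZ hy.1 x hx) (ee_D I C h16 hZ)
    (fun n hn => ⟨1, one_mem _, ⟨1, I.R_one⟩, by rw [mul_one]; exact hD hn⟩)
  have h5 : W ≤ N0 := by
    intro w hw
    refine mem_N0 C (h3 hw) ?_ (exists_K1 I C hall) ?_
    · obtain ⟨k, hk⟩ := h1 ⟨w, hw⟩
      exact ⟨k, congrArg Subtype.val hk⟩
    · rintro _ ⟨x, rfl⟩
      obtain ⟨N, hN⟩ := h4 w hw
      refine I.comm_of (c := 1) (d := 1) hN (I.Rι x) ?_ ?_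
      · rw [one_mul, mul_one, one_smul]
      · rw [one_mul, mul_one, one_smul]
  have h6 := Nat.le_of_dvd Nat.card_pos (card_dvd_of_le h5)
  rw [C.card] at h6
  omega

section Four

variable {j : Matrix.SpecialLinearGroup (Fin 2) F} (hj : j.1 * j.1 = -1) (hy : I.ι j ∈ N0) {t : G} (ht : t ∈ N0)
  (hal : I.al (I.ι j) t = -1)

theorem al_self (g : G) : I.al g g = 1 := by
  unfold E7I.al
  rw [if_pos rfl]

include C hy ht hal in
theorem sc_al {n : G} (hn : n ∈ N0) (h1 : I.al (I.ι j) n = 1) (h2 : I.al t n = 1) : Sc (I.aa n) := by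
  have h3 := al_spec I C hy ht
  rw [hal, neg_smul, one_smul] at h3
  have h4 := al_spec I C hy hn
  have h5 := al_spec I C ht hn
  rw [h1, one_smul] at h4
  rw [h2, one_smul] at h5
  exact sc_of_comm I.two h3 (I.det (I.mul (R_N I C ht) (R_N I C hy))) h4 h5

include C in
theorem al_sc {n m : G} (hn : n ∈ N0) (hm : m ∈ N0) (hs : Sc (I.aa n)) : I.al n m = 1 := by
  refine al_uniq I C hn hm (R_N I C hn) (R_N I C hm) ?_
  obtain ⟨c, hc⟩ := hs
  rw [hc, smul_mul_assoc, mul_smul_comm, one_mul, mul_one, one_smul]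

include C hy ht hal in
/-- `N0 = D ⟨y0, t⟩` -/
theorem exists_q {n : G} (hn : n ∈ N0) : n ∈ DD I C ∨ n * I.ι j ∈ DD I C ∨ n * t ∈ DD I C ∨ n * (I.ι j * t) ∈ DD I C := by
  have hal' : I.al t (I.ι j) = -1 := by rw [al_symm]; exact hal
  rcases I.al_or (I.ι j) n with h1 | h1 <;> rcases I.al_or t n with h2 | h2
  · left
    exact ⟨hn, sc_al I C hy ht hal hn h1 h2⟩
  · right; left
    refine ⟨mul_mem hn hy, sc_al I C hy ht hal (mul_mem hn hy) ?_ ?_⟩
    · rw [al_mul_right I C hy hn hy, h1, al_self, mul_one]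
    · rw [al_mul_right I C ht hn hy, h2, hal']; ring
  · right; right; left
    refine ⟨mul_mem hn ht, sc_al I C hy ht hal (mul_mem hn ht) ?_ ?_⟩
    · rw [al_mul_right I C hy hn ht, h1, hal]; ring
    · rw [al_mul_right I C ht hn ht, h2, al_self, mul_one]
  · right; right; right
    refine ⟨mul_mem hn (mul_mem hy ht), sc_al I C hy ht hal (mul_mem hn (mul_mem hy ht)) ?_ ?_⟩
    · rw [al_mul_right I C hy hn (mul_mem hy ht), al_mul_right I C hy hy ht, h1, hal, al_self]; ring
    · rw [al_mul_right I C ht hn (mul_mem hy ht), al_mul_right I C ht hy ht, h2, hal', al_self]; ring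

include C hy ht hal in
theorem card_D_ge [Finite G] : 16 ≤ Nat.card (DD I C) := by
  classical
  have hq : ∀ n : N0, ∃ d : DD I C × Fin 4, (n : G) = d.1 * (![1, (I.ι j)⁻¹, t⁻¹, (I.ι j * t)⁻¹] d.2) := by
    intro n
    rcases exists_q I C hy ht hal n.2 with h | h | h | h
    · exact ⟨(⟨_, h⟩, 0), by simp⟩
    · exact ⟨(⟨_, h⟩, 1), by simp⟩
    · exact ⟨(⟨_, h⟩, 2), by simp⟩
    · exact ⟨(⟨_, h⟩, 3), by simp [mul_assoc]⟩
  choose f hf using hq
  have h1 : Nat.card N0 ≤ Nat.card (DD I C × Fin 4) := Nat.card_le_card_of_injective f (by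
    intro a b hab
    exact Subtype.ext (by rw [hf a, hf b, hab]))
  rw [C.card, Nat.card_prod, Nat.card_eq_fintype_card (α := Fin 4), Fintype.card_fin] at h1
  omega

include C hy ht hal in
theorem card_D_le [Finite G] : Nat.card (DD I C) ≤ 16 := by
  have hal' : I.al t (I.ι j) = -1 := by rw [al_symm]; exact hal
  have hne := I.one_ne
  let f : DD I C × Fin 4 → N0 := fun d => ⟨(d.1 : G) * (![1, I.ι j, t, I.ι j * t] d.2), by
    refine mul_mem d.1.2.1 ?_
    rcases d with ⟨d, i⟩
    fin_cases i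
    · exact one_mem _
    · exact hy
    · exact ht
    · exact mul_mem hy ht⟩
  have h1 : Nat.card (DD I C × Fin 4) ≤ Nat.card N0 := Nat.card_le_card_of_injective f (by
    rintro ⟨a, i⟩ ⟨b, k⟩ hab
    have h2 : (a : G) * (![1, I.ι j, t, I.ι j * t] i) = (b : G) * (![1, I.ι j, t, I.ι j * t] k) :=
      congrArg Subtype.val hab
    have hmem : ∀ i, (![1, I.ι j, t, I.ι j * t] i) ∈ N0 := by
      intro i
      fin_cases i
      · exact one_mem _
      · exact hy
      · exact ht
      · exact mul_mem hy ht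
    have h3 : ∀ m ∈ N0, I.al m (![1, I.ι j, t, I.ι j * t] i) = I.al m (![1, I.ι j, t, I.ι j * t] k) := by
      intro m hm
      have h4 := congrArg (I.al m) h2
      rwa [al_mul_right I C hm a.2.1 (hmem i), al_mul_right I C hm b.2.1 (hmem k), al_symm I m a, al_symm I m b,
        al_sc I C a.2.1 hm a.2.2, al_sc I C b.2.1 hm b.2.2, one_mul, one_mul] at h4
    have h5 := h3 _ hy
    have h6 := h3 _ ht
    have e0 : ∀ m ∈ N0, I.al m 1 = 1 := fun m hm => by
      rw [al_symm]; exact al_sc I C (one_mem _) hm (sc_one I)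
    have e1 : I.al (I.ι j) (I.ι j * t) = -1 := by rw [al_mul_right I C hy hy ht, al_self, hal, one_mul]
    have e2 : I.al t (I.ι j * t) = -1 := by rw [al_mul_right I C ht hy ht, al_self, hal', mul_one]
    have hik : i = k := by
      fin_cases i <;> fin_cases k <;>
        simp [e0 _ hy, e0 _ ht, e1, e2, al_self, hal, hal', hne, hne.symm] at h5 h6 ⊢
    subst hik
    have h7 : (a : G) = b := mul_right_cancel h2
    rw [Subtype.ext h7])
  rw [C.card, Nat.card_prod, Nat.card_eq_fintype_card (α := Fin 4), Fintype.card_fin] at h1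
  omega

include C hy ht hal in
/-- all `a_n` in `PSL₂` -/
theorem case_sq [Finite G] [Finite F] (hsq : IsSquare (I.aa t).det) : False := by
  have hal' : I.al t (I.ι j) = -1 := by rw [al_symm]; exact hal
  obtain ⟨j', hj', hy1, hk⟩ := exj I C ht hy hal' hsq
  have hal1 : I.al (I.ι j) (I.ι j') = -1 := by rw [al_symm, hk _ hy, hal']
  have h16 := card_D_ge I C hy hy1 hal1
  have h16' := card_D_le I C hy hy1 hal1
  have hq : ∀ n ∈ N0, ∃ x, I.ι x ∈ N0 ∧ n * I.ι x ∈ DD I C := by
    intro n hn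
    rcases exists_q I C hy hy1 hal1 hn with h | h | h | h
    · exact ⟨1, by rw [map_one]; exact one_mem _, by rw [map_one, mul_one]; exact h⟩
    · exact ⟨j, hy, h⟩
    · exact ⟨j', hy1, h⟩
    · exact ⟨j * j', by rw [map_mul]; exact mul_mem hy hy1, by rw [map_mul]; exact h⟩
  have hZ : ∀ x ∈ DD I C, (∀ y ∈ DD I C, x * y = y * x) → x * x = 1 → x = 1 ∨ x = z := by
    intro x hx h1 h2
    refine mem_z_of_cen C hx.1 (fun m hm => ?_) h2
    obtain ⟨w, hw, hmw⟩ := hq m hm
    obtain ⟨c, hc⟩ := hx.2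
    have h3 := I.comm_ι (R_N I C hx.1) hc w
    have h4 := h1 _ hmw
    have h5 : (x * m) * I.ι w = (m * x) * I.ι w := by
      rw [mul_assoc, h4, mul_assoc, mul_assoc, h3]
    exact mul_right_cancel h5
  obtain ⟨W, h1, h2, h3, h4⟩ := exists_W I C (fun x hx y hy => cc_D I C h16 hZ hy.1 x hx) (ee_D I C h16 hZ)
    (fun n hn => by
      obtain ⟨x, hx, hnx⟩ := hq n hn
      exact ⟨I.ι x, hx, ⟨_, I.Rι x⟩, hnx⟩)
  have h5 := card_W I C h1 h3 h4
  omega

include C hy in
theorem rep_j {v : G} (hv : v ∈ N0) : j.1 * I.aa v = I.al (I.ι j) v • (I.aa v * j.1) := by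
  obtain ⟨⟨c, hc, h1⟩, -⟩ := I.prop (I.Rι j)
  rw [h1, smul_mul_assoc, al_spec I C hy hv, mul_smul_comm, smul_comm]

include C hy in
theorem noncomm {v : G} (hv : v ∈ N0) (hav : I.al (I.ι j) v = -1) : v * I.ι j = z * (I.ι j * v) := by
  have h1 := rep_j I C hy hv
  rw [hav, neg_smul, one_smul] at h1
  have h2 := I.conj_ι (R_N I C hv) (x := j) (x' := -j) (by
    rw [Matrix.SpecialLinearGroup.coe_neg, neg_mul, h1, neg_neg])
  rw [h2]
  have h3 : I.ι (-j) = z * I.ι j := by
    have h4 : -j = -1 * j := by rw [neg_mul, one_mul]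
    rw [h4, map_mul]
    congr 1
    exact I.ι_neg
  rw [h3, mul_assoc]

include C hy in
theorem comm_y {v : G} (hv : v ∈ N0) (hav : I.al (I.ι j) v = 1) : v * I.ι j = I.ι j * v := by
  have h1 := rep_j I C hy hv
  rw [hav, one_smul] at h1
  exact I.conj_ι (R_N I C hv) (x := j) (x' := j) h1

include C hy ht hal in
theorem det_v {v : G} (hnsq : ¬ IsSquare (I.aa t).det) (hv : v ∈ N0) (hav : I.al (I.ι j) v = -1) :
    ¬ IsSquare (I.aa v).det := by
  have hne := I.one_ne
  rintro ⟨r, hr⟩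
  have hr0 : r ≠ 0 := by
    rintro rfl
    rw [mul_zero] at hr
    exact I.det (R_N I C hv) hr
  have key : ∀ {q : G} {b : Matrix (Fin 2) (Fin 2) F} {N : Module.End F V}, I.R q b N → Sc (I.aa (v * q)) → IsSquare b.det := by
    intro q b N hq hs
    have h1 := I.mul (R_N I C hv) hq
    obtain ⟨c, hc⟩ := (sc_iff I h1).1 hs
    have h2 := congrArg Matrix.det hc
    rw [Matrix.det_mul, Matrix.det_smul, Fintype.card_fin, Matrix.det_one, mul_one, hr] at h2
    refine ⟨c / r, ?_⟩
    field_simp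
    rw [sq, sq] at *
    linear_combination h2
  rcases exists_q I C hy ht hal hv with h | h | h | h
  · have h1 := al_sc I C hv hy h.2
    rw [al_symm, hav] at h1
    exact hne h1.symm
  · have h1 := al_sc I C h.1 hy h.2
    rw [al_symm, al_mul_right I C hy hv hy, al_self, hav, mul_one] at h1
    exact hne h1.symm
  · exact hnsq (key (R_N I C ht) h.2)
  · have h1 := key (I.mul (I.Rι j) (R_N I C ht)) h.2
    rw [Matrix.det_mul, j.2, one_mul] at h1
    exact hnsq h1

include C hy ht hal in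
/-- commuting with `D`, `y0`, `t` -/
theorem cen_of {p : G} (h1 : ∀ y ∈ DD I C, p * y = y * p) (h2 : p * I.ι j = I.ι j * p) (h3 : p * t = t * p) :
    ∀ m ∈ N0, p * m = m * p := by
  intro m hm
  have key : ∀ {q : G}, p * q = q * p → m * q ∈ DD I C → p * m = m * p := by
    intro q h4 h5
    have h6 := h1 _ h5
    have h7 : (p * m) * q = (m * p) * q := by
      rw [mul_assoc, h6, mul_assoc, mul_assoc, h4]
    exact mul_right_cancel h7
  rcases exists_q I C hy ht hal hm with h | h | h | h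
  · exact h1 m h
  · exact key h2 h
  · exact key h3 h
  · exact key (by rw [← mul_assoc, h2, mul_assoc, h3, mul_assoc]) h

include C hy ht hal in
theorem case_iv1 [Finite G] (hnsq : ¬ IsSquare (I.aa t).det) (hs : s ∈ DD I C) : False := by
  have hne := I.one_ne
  have h16 := card_D_ge I C hy ht hal
  have hDy : ∀ x ∈ DD I C, x * I.ι j = I.ι j * x := fun x hx =>
    comm_y I C hy hx.1 (by rw [al_symm]; exact al_sc I C hx.1 hy hx.2)
  have hZ : ∀ x ∈ DD I C, (∀ y ∈ DD I C, x * y = y * x) → x * x = 1 → x = 1 ∨ x = z := by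
    intro x hx h1 h2
    rcases C.comm x hx.1 t ht with h3 | h3
    · exact mem_z_of_cen C hx.1 (cen_of I C hy ht hal h1 (hDy x hx) h3) h2
    · exfalso
      have h4 : ∀ m ∈ N0, (x * I.ι j) * m = m * (x * I.ι j) := by
        refine cen_of I C hy ht hal ?_ ?_ ?_
        · intro y hyD
          rw [mul_assoc, ← hDy y hyD, ← mul_assoc, h1 y hyD, mul_assoc]
        · rw [hDy x hx, mul_assoc, hDy x hx]
        · have h5 := noncomm I C hy ht hal
          have h6 : I.ι j * t = z * (t * I.ι j) := by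
            rw [h5, ← mul_assoc, C.z_sq, one_mul]
          have hxz := cz C hx.1
          calc x * I.ι j * t = x * (I.ι j * t) := mul_assoc _ _ _
            _ = (x * z) * (t * I.ι j) := by rw [h6]; simp only [mul_assoc]
            _ = z * (x * t) * I.ι j := by rw [hxz]; simp only [mul_assoc]
            _ = (z * z) * (t * x * I.ι j) := by rw [h3]; simp only [mul_assoc]
            _ = _ := by rw [C.z_sq, one_mul, mul_assoc]
      have hxy : x * I.ι j ∈ N0 := mul_mem hx.1 hy
      have h5 := C.cen _ hxy h4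
      have h6 : x * I.ι j ∈ DD I C := (zpowers_le.2 hs) h5
      have h7 := al_sc I C h6.1 ht h6.2
      rw [al_mul_left I C hx.1 hy ht, al_sc I C hx.1 ht hx.2, hal, one_mul] at h7
      exact hne h7.symm
  have hcc := cc_D I C h16 hZ ht s hs
  have hee := ee_D I C h16 hZ s hs
  rcases I.ee_or t with he | he
  · have h1 := tab3 I C ht hnsq he
    have h2 : I.al (I.ι j) (t * s) = -1 := by
      rw [al_mul_right I C hy ht hs.1, hal, al_symm I _ s, al_sc I C hs.1 hy hs.2, mul_one]
    have h3 := det_v I C hy ht hal hnsq (mul_mem ht hs.1) h2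
    have h4 : I.ee (t * s) = 1 := by
      rw [ee_mul I C ht hs.1, he, hee, cc_symm, hcc]; ring
    have h5 := tab3 I C (mul_mem ht hs.1) h3 h4
    have h6 : t * s * (t * s) = (t * t) * (s * s) := by
      calc t * s * (t * s) = t * (s * t) * s := by simp only [mul_assoc]
        _ = t * (t * s) * s := by rw [C.s_cen t ht]
        _ = _ := by simp only [mul_assoc]
    rw [h6, h1, C.s_sq, one_mul] at h5
    exact C.z_ne h5
  · have h1 := tab2 I C hs.1 hs.2 hee ht he hnsq hcc
    rw [C.s_sq] at h1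
    exact C.z_ne h1

include C hj hy ht hal in
theorem case_iv2 [Finite G] (hnsq : ¬ IsSquare (I.aa t).det) (hs : s ∉ DD I C) : False := by
  have hne := I.one_ne
  have h16 := card_D_ge I C hy ht hal
  have hDy : ∀ x ∈ DD I C, x * I.ι j = I.ι j * x := fun x hx =>
    comm_y I C hy hx.1 (by rw [al_symm]; exact al_sc I C hx.1 hy hx.2)
  have hal' : I.al t (I.ι j) = -1 := by rw [al_symm]; exact hal
  have hzy := I.ι_z j
  -- `s`
  have hs1 : I.al (I.ι j) s = 1 := by
    rcases I.al_or (I.ι j) s with h | h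
    · exact h
    · exfalso
      have h1 := noncomm I C hy C.sN h
      rw [← C.s_cen _ hy] at h1
      have h2 : I.ι j * s = z * (I.ι j * s) := h1.trans (by rw [C.s_cen _ hy])
      exact C.z_ne (right_eq_mul.1 h2)
  have hs2 : I.al t s = -1 := by
    rcases I.al_or t s with h | h
    · exact absurd ⟨C.sN, sc_al I C hy ht hal C.sN hs1 h⟩ hs
    · exact h
  have hx1 : s * I.ι j ∈ DD I C := by
    refine ⟨mul_mem C.sN hy, sc_al I C hy ht hal (mul_mem C.sN hy) ?_ ?_⟩
    · rw [al_mul_right I C hy C.sN hy, hs1, al_self, mul_one]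
    · rw [al_mul_right I C ht C.sN hy, hs2, hal']; ring
  have hxx : (s * I.ι j) * (s * I.ι j) = 1 := by
    calc (s * I.ι j) * (s * I.ι j) = s * (I.ι j * s) * I.ι j := by simp only [mul_assoc]
      _ = (s * s) * (I.ι j * I.ι j) := by rw [C.s_cen _ hy]; simp only [mul_assoc]
      _ = 1 := by rw [C.s_sq, four I hj, C.z_sq]
  have hvx : ∀ {v : G}, v ∈ N0 → I.al (I.ι j) v = -1 → v * (s * I.ι j) = z * ((s * I.ι j) * v) := by
    intro v hv hav
    have hsz : s * z = z * s := cz C C.sN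
    calc v * (s * I.ι j) = (v * s) * I.ι j := by rw [mul_assoc]
      _ = s * (v * I.ι j) := by rw [C.s_cen v hv, mul_assoc]
      _ = (s * z) * (I.ι j * v) := by rw [noncomm I C hy hv hav, mul_assoc]
      _ = _ := by rw [hsz]; simp only [mul_assoc]
  obtain ⟨hex, hcx⟩ := tab1 I C hx1.1 hx1.2 hxx
  have halx : ∀ m ∈ N0, I.al m (s * I.ι j) = 1 := fun m hm => by rw [al_symm]; exact al_sc I C hx1.1 hm hx1.2
  have hev : ∀ {v : G}, v ∈ N0 → I.al (I.ι j) v = -1 → I.ee v = -1 := by
    intro v hv hav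
    rcases I.ee_or v with he | he
    · exfalso
      have h1 := tab3 I C hv (det_v I C hy ht hal hnsq hv hav) he
      have h2 : I.al (I.ι j) (v * (s * I.ι j)) = -1 := by
        rw [al_mul_right I C hy hv hx1.1, hav, halx _ hy, mul_one]
      have h3 := det_v I C hy ht hal hnsq (mul_mem hv hx1.1) h2
      have h4 : I.ee (v * (s * I.ι j)) = 1 := by
        rw [ee_mul I C hv hx1.1, he, hex, cc_symm, hcx v hv]; ring
      have h5 := tab3 I C (mul_mem hv hx1.1) h3 h4
      have h6 : v * (s * I.ι j) * (v * (s * I.ι j)) = z := by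
        nth_rw 1 [hvx hv hav]
        calc z * (s * I.ι j * v) * (v * (s * I.ι j)) = z * ((s * I.ι j) * (v * v) * (s * I.ι j)) := by
              simp only [mul_assoc]
          _ = z := by rw [h1, mul_one, hxx, mul_one]
      rw [h6] at h5
      exact C.z_ne h5
    · exact he
  have het := hev ht hal
  have hey : ∀ y ∈ DD I C, I.ee y = I.cc t y := by
    intro y hyD
    have h1 : I.al (I.ι j) (t * y) = -1 := by
      rw [al_mul_right I C hy ht hyD.1, hal, al_symm I _ y, al_sc I C hyD.1 hy hyD.2, mul_one]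
    have h2 := hev (mul_mem ht hyD.1) h1
    rw [ee_mul I C ht hyD.1, het] at h2
    rcases I.ee_or y with h | h <;> rcases I.cc_or t y with h' | h' <;> rw [h, h'] at h2 ⊢ <;>
      exfalso <;> apply hne <;> linear_combination h2
  have hccD : ∀ x ∈ DD I C, ∀ y ∈ DD I C, I.cc x y = 1 := by
    intro x hx y hyD
    have h1 := hey _ (mul_mem hx hyD)
    rw [ee_mul I C hx.1 hyD.1, cc_mul_right I C ht hx.1 hyD.1, ← hey x hx, ← hey y hyD] at h1
    rcases I.cc_or x y with h | h
    · exact h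
    · exfalso
      rw [h] at h1
      rcases I.ee_or x with h3 | h3 <;> rcases I.ee_or y with h4 | h4 <;> rw [h3, h4] at h1 <;> apply hne <;>
        first | linear_combination -h1 | linear_combination h1
  have heD : ∀ x ∈ DD I C, ∀ y ∈ DD I C, I.ee (x * y) = I.ee x * I.ee y := by
    intro x hx y hyD
    rw [ee_mul I C hx.1 hyD.1, hccD x hx y hyD, mul_one]
  have hq1 : ∀ y ∈ DD I C, I.ee y = 1 → y * y = 1 := fun y hyD h =>
    tab2 I C hyD.1 hyD.2 h ht het hnsq (by rw [cc_symm, ← hey y hyD, h])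
  have hq2 : ∀ y ∈ DD I C, I.ee y = -1 → y * y = z := fun y hyD h => by
    rcases C.sq y hyD.1 with h1 | h1
    · have h2 := (tab1 I C hyD.1 hyD.2 h1).1
      rw [h] at h2
      exact absurd h2.symm hne
    · exact h1
  have hab : ∀ x ∈ DD I C, ∀ y ∈ DD I C, x * y = y * x := by
    intro x hx y hyD
    rcases C.comm x hx.1 y hyD.1 with h | h
    · exact h
    · exfalso
      have hxz := cz C hx.1
      have hyz := cz C hyD.1
      have h1 : (x * y) * (x * y) = z * ((y * y) * (x * x)) := by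
        have hsx : ∀ w : G, w ∈ N0 → (x * x) * w = w * (x * x) := by
          intro w hw
          rcases C.sq x hx.1 with h2 | h2 <;> rw [h2]
          · rw [one_mul, mul_one]
          · exact (cz C hw).symm
        calc (x * y) * (x * y) = z * (y * x) * (x * y) := by nth_rw 1 [h]
          _ = z * (y * ((x * x) * y)) := by simp only [mul_assoc]
          _ = z * (y * (y * (x * x))) := by rw [hsx y hyD.1]
          _ = _ := by simp only [mul_assoc]
      have hxy := heD x hx y hyD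
      have hmem := mul_mem hx hyD
      rcases I.ee_or x with h3 | h3 <;> rcases I.ee_or y with h4 | h4 <;> rw [h3, h4] at hxy
      · rw [hq1 x hx h3, hq1 y hyD h4, hq1 _ hmem (by rw [hxy, one_mul])] at h1
        simp at h1
        exact C.z_ne h1.symm
      · rw [hq1 x hx h3, hq2 y hyD h4, hq2 _ hmem (by rw [hxy, one_mul])] at h1
        rw [mul_one, C.z_sq] at h1
        exact C.z_ne h1
      · rw [hq2 x hx h3, hq1 y hyD h4, hq2 _ hmem (by rw [hxy, mul_one])] at h1
        rw [one_mul, C.z_sq] at h1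
        exact C.z_ne h1
      · rw [hq2 x hx h3, hq2 y hyD h4, hq1 _ hmem (by rw [hxy]; ring)] at h1
        rw [C.z_sq, mul_one] at h1
        exact C.z_ne h1.symm
  -- counting
  have hcount : ∀ y : DD I C, ∃ d : zpowers s × Fin 2, (y : G) = d.1 * (![1, (s * I.ι j)⁻¹] d.2) := by
    rintro ⟨y, hyD⟩
    have key : ∀ p ∈ DD I C, p * t = t * p → p ∈ zpowers s := fun p hp hpt =>
      C.cen p hp.1 (cen_of I C hy ht hal (fun w hw => hab p hp w hw) (hDy p hp) hpt)
    rcases C.comm y hyD.1 t ht with h | h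
    · exact ⟨(⟨y, key y hyD h⟩, 0), by simp⟩
    · refine ⟨(⟨y * (s * I.ι j), key _ (mul_mem hyD hx1) ?_⟩, 1), by simp [mul_assoc]⟩
      have h1 := hvx ht hal
      have h2 : (s * I.ι j) * t = z * (t * (s * I.ι j)) := by
        rw [h1, ← mul_assoc, C.z_sq, one_mul]
      have hyz := cz C hyD.1
      calc y * (s * I.ι j) * t = y * ((s * I.ι j) * t) := mul_assoc _ _ _
        _ = (y * z) * (t * (s * I.ι j)) := by rw [h2]; simp only [mul_assoc]
        _ = z * (y * t) * (s * I.ι j) := by rw [hyz]; simp only [mul_assoc]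
        _ = (z * z) * (t * y * (s * I.ι j)) := by rw [h]; simp only [mul_assoc]
        _ = _ := by rw [C.z_sq, one_mul, mul_assoc]
  choose f hf using hcount
  have h1 : Nat.card (DD I C) ≤ Nat.card (zpowers s × Fin 2) := Nat.card_le_card_of_injective f (by
    intro a b hab
    exact Subtype.ext (by rw [hf a, hf b, hab]))
  have h2 : Nat.card (zpowers s) ≤ 4 := by
    rw [Nat.card_zpowers]
    refine Nat.le_of_dvd (by norm_num) (orderOf_dvd_of_pow_eq_one ?_)
    rw [show (4 : ℕ) = 2 * 2 from rfl, pow_mul, pow_two s, C.s_sq, pow_two, C.z_sq]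
  rw [Nat.card_prod, Nat.card_eq_fintype_card (α := Fin 2), Fintype.card_fin] at h1
  omega

end Four

include I C in
/-- **`E₇(q)`, `z` of type `A₁D₆`: no configuration.** -/
theorem e7_false [Finite G] [Finite F] : False := by
  by_cases hall : ∀ n ∈ N0, Sc (I.aa n)
  · exact case_i I C hall
  · push Not at hall
    obtain ⟨n, hn, hs⟩ := hall
    obtain ⟨j, hj, hy, t, ht, hal⟩ := exists_j I C hn hs
    by_cases hsq : IsSquare (I.aa t).det
    · exact case_sq I C hy ht hal hsq
    · by_cases hsD : s ∈ DD I C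
      · exact case_iv1 I C hy ht hal hsq hsD
      · exact case_iv2 I C hj hy ht hal hsq hsD

end Cfsg.Agent.H627.Co3
end

-- part: H169/Co3/RowE7
section
/-!
# S1920, case B: the row `E₇(q)` (helper169)
-/

set_option autoImplicit false

universe u

namespace Cfsg.Agent.H169.Co3

open Cfsg Cfsg.Lie Cfsg.Lie.ChevalleyDatum
open Cfsg.Agent.H13.Co3 (CB)
open Cfsg.Agent.H627.Co3 (E7I)
open Cfsg.Agent.H167.Co3 (mL)
open Module Subgroup
open Cfsg.Agent.KFacts.RgdChevCoord Cfsg.Agent.OddHalf.NI.ModelChev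

/-- **the row `E₇(q)`, `q` odd**, from the interface at one involution `z₀` -/
theorem e7_odd_of {F : Type} [Field F] [Finite F] (h2F : (2 : F) ≠ 0) {z₀ : ↥(chevE7.group F)}
    (hconj : ∀ z : ↥(chevE7.group F), z * z = 1 → mL chevE7 z = 64 → ∃ g, g * z * g⁻¹ = z₀)
    (hfalse : ∀ (P N0 : Subgroup ↥(chevE7.group F)) (s : ↥(chevE7.group F))
      (ψ : ↥(normalizer (P : Set ↥(chevE7.group F))) →* Equiv.Perm (Fin 6)), CB P N0 z₀ s ψ → False)
    {G : Type*} [Group G] [Finite G]
    (e : G ≃* ↥(chevE7.group F)) {P N0 : Subgroup G} {z s : G} {ψ : ↥(normalizer (P : Set G)) →* Equiv.Perm (Fin 6)}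
    (C : CB P N0 z s ψ) : False := by
  have hm := e7_m64 h2F e.toMonoidHom e.injective C
  obtain ⟨g, hg⟩ := hconj (e z) (by rw [← map_mul, C.z_sq, map_one]) hm
  let e' : G ≃* ↥(chevE7.group F) := e.trans (MulAut.conj g)
  have C' := exists_map e' C
  have hz : e' z = z₀ := hg
  rw [hz] at C'
  exact hfalse _ _ _ _ C'

/-- **the row `E₇`** -/
theorem e7_of (z₀ : ∀ (F : Type) [Field F], ↥(chevE7.group F))
    (hconj : ∀ (F : Type) [Field F] [Finite F], (2 : F) ≠ 0 → ∀ z : ↥(chevE7.group F), z * z = 1 → mL chevE7 z = 64 →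
      ∃ g, g * z * g⁻¹ = z₀ F)
    (hfalse : ∀ (F : Type) [Field F] [Finite F], (2 : F) ≠ 0 → ∀ (P N0 : Subgroup ↥(chevE7.group F)) (s : ↥(chevE7.group F))
      (ψ : ↥(normalizer (P : Set ↥(chevE7.group F))) →* Equiv.Perm (Fin 6)), CB P N0 (z₀ F) s ψ → False) :
    Cfsg.Agent.H527.Co3.Row.{u} @Lie.IsoE7 := by
  intro G _ _ _ h P N0 z s ψ C
  obtain ⟨F, hF, hF', ⟨e⟩⟩ := h
  by_cases h2 : (2 : F) = 0
  · have hch : CharP F 2 := by
      have := CharP.charP_iff_prime_eq_zero Nat.prime_two (R := F)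
      exact this.2 (by exact_mod_cast h2)
    exact Cfsg.Agent.H738.C3.false_of_lieTwo C
      (Or.inr (Or.inr (Or.inr (Or.inr (Or.inr (Or.inr (Or.inl
        ⟨F, hF, hF', hch, Or.inr (Or.inr (Or.inr (Or.inl ⟨e⟩)))⟩)))))))
  · exact e7_odd_of h2 (hconj F h2) (hfalse F h2) e C

/-- **the row `E₇`** from the interface at `z7` -/
theorem e7_of_int (hI : ∀ (F : Type) [Field F] [Finite F], (2 : F) ≠ 0 →
      ∃ (V : Type) (_ : AddCommGroup V) (_ : Module F V) (B : LinearMap.BilinForm F V),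
        Nonempty (E7I (th Cfsg.Agent.Nodes.KindE.isType7 (Cfsg.Agent.H557.SignTorus.sg F 7 84)) F B)) :
    Cfsg.Agent.H527.Co3.Row.{u} @Lie.IsoE7 := by
  refine e7_of (fun F _ => th Cfsg.Agent.Nodes.KindE.isType7 (Cfsg.Agent.H557.SignTorus.sg F 7 84)) ?_ ?_
  · intro F _ _ h2 z hz hm
    have hfin : Fintype F := Fintype.ofFinite F
    exact Cfsg.Agent.H167.Co3.conj_z7 (by rw [← Nat.card_eq_fintype_card]; exact odd_card h2) hz hm
  · intro F _ _ h2 P N0 s ψ C
    obtain ⟨V, _, _, B, ⟨I⟩⟩ := hI F h2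
    exact Cfsg.Agent.H627.Co3.e7_false I C

end Cfsg.Agent.H169.Co3
end

private theorem dce_cf1a22cef19d : _root_.True := by
  try have : _root_.True := by simp only [_root_.Cfsg.Agent.H627.Co3.up.eq_1]
  try have : _root_.True := by simp only [_root_.Cfsg.Agent.H627.Co3.DD.congr_simp]
  try have : _root_.True := by simp only [_root_.Cfsg.Agent.H898.Co3.sg.eq_1]
  try have : _root_.True := by simp only [_root_.Cfsg.Agent.H627.Co3.lo.eq_1]
  try have : _root_.True := by simp only [_root_.Cfsg.Agent.H627.Co3.sgn.eq_1]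
  exact _root_.True.intro
end

-- part: H249/Co3/E7Int
section
set_option linter.all false
open scoped Cfsg.Agent.FastGrp

/-!
# S1920, case B, `E₇(q)`: the interface `E7I` at `z = h_β(-1)` and the row `E₇` (helper249)

* `e7int` : `E7I (zz F) F (BB F)`;
* `row_e7` : the row `E₇`.
-/

set_option autoImplicit false

namespace Cfsg.Agent.H249.Co3

open Cfsg.Lie
open Cfsg.Agent.H627.Co3 (E7I)
open Cfsg.Agent.H167.Co3 (tt1 tt2 tt3)

universe u

theorem card_odd {F : Type} [Field F] [Fintype F] (h2 : (2 : F) ≠ 0) : Odd (Fintype.card F) := by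
  obtain ⟨p, hpc⟩ := CharP.exists F
  have hpp : Fact p.Prime := ⟨CharP.char_is_prime F p⟩
  obtain ⟨n, hn, e⟩ := FiniteField.card F p
  rw [e]
  refine (hpp.out.odd_of_ne_two ?_).pow
  rintro rfl
  exact h2 (CharTwo.two_eq_zero)

/-- **the interface** -/
theorem e7int {F : Type} [Field F] [Finite F] (h2 : (2 : F) ≠ 0) : Nonempty (E7I (zz F) F (BB F)) := by
  have := Fintype.ofFinite F
  have ho : Odd (Fintype.card F) := card_odd h2
  have ho' : Odd (Nat.card F) := by rw [Nat.card_eq_fintype_card]; exact ho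
  have hZ := z7_mat (F := F) h2
  have hT := z7_mem F
  have R := rd7 h2 hZ
  have H := gn7 h2 hZ hT (gen7 ho') (fun hc ht htz => tor7 hc ht htz)
  have hex : ∀ g, g * zz F = zz F * g → ∃ a M, Rl7 (zz F) g a M := fun g hg => ex R H hg
  have hι := io_rel (F := F) h2 hZ hT
  have hz := io_neg (F := F) h2 hZ hT
  exact ⟨e7i R H (io F) hι hz (tt1 ho hZ R hex (io F) hι hz) (tt2 ho hZ R hex (io F) hι hz)
    (tt3 ho hZ R hex (io F) hι hz)⟩

/-- **the row `E₇`** -/
theorem row_e7 : Cfsg.Agent.H527.Co3.Row.{u} @Lie.IsoE7 :=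
  Cfsg.Agent.H169.Co3.e7_of_int fun F _ _ h2 => ⟨_, _, _, BB F, e7int h2⟩

end Cfsg.Agent.H249.Co3
end
end
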