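import Cfsg.Agent.H415.C3.LKitOne_mg_m3
import Cfsg.Prelude.Def_ChevE7
import Cfsg.Agent.ChevalleyStructure.RootVec
import Cfsg.Agent.H553.KKL.E7One
import Cfsg.Agent.H129.Tor
import Cfsg.Agent.H527.C3.Twist_m3
import Cfsg.Agent.H887.SiegelMethod
import Cfsg.Agent.LieClassical.OrthForms
import Cfsg.Agent.LieClassical.OrthFinite
import Cfsg.Agent.ClassicalGeometry.OmegaIndex
import Cfsg.Agent.ChevFast.E7
import Cfsg.Agent.ChevFast.Lin
import Cfsg.Agent.Nodes.KindE
import Cfsg.Agent.H557.Co3.CentE8_m3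
import Cfsg.Agent.H971.RV.Lie_m3
import Cfsg.Agent.BpExc.AsmN_m3
import Cfsg.Agent.H557.LrData
import Cfsg.Agent.Nodes.RGDFoldSL
import Cfsg.Agent.H100.C3.RowPOmega_m3
import Cfsg.Agent.Nodes.KindF
import Mathlib
import Cfsg.Agent.H603.SporElim
import Cfsg.Agent.OddHalf.Small.M24Char
import Cfsg.Agent.SevenCases.SporTh
import Cfsg.Agent.SevenCases.SporCo2
import Cfsg.Agent.SevenCases.SporJ4
import Cfsg.Agent.H895.Pron.SuzX5
import Cfsg.Agent.CpAutRuFive.Main
import Cfsg.Agent.BpSpor.CoThreeFive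
import Cfsg.Agent.CpAut.SmallP.TwoPart
import Cfsg.Agent.H559.FiSpec
import Cfsg.Agent.H841.PB.FiTwentyThreeA
import Cfsg.Agent.CTwoTab.Co1
import Cfsg.Agent.StdG24.F.CaseII_m3
import Cfsg.Agent.StdG24.Ax6
import Cfsg.Agent.H841.Phi_m3
import Cfsg.Agent.H748.SK.HNEleven
import Cfsg.Agent.CpAutHSFive.Row
import Cfsg.Agent.OddHalf.Small.Generic
import Cfsg.Agent.H282.LT.Perm
import Cfsg.Agent.FastGrp
import Cfsg.Agent.Prune
set_option linter.all false

section
prune_inst 0x7fbca9f9abb8a3ffdfff7e7fa694cdfdf9b93fffe4dff9cb7fe061ff0bdf4b0089c5f3850be010fe1e96c01410a87803fbffeeffe06bd87ffffd1ff41ffbee5fe5f63508119488340f380ff703f0778e7f3fffffffffffffffffffffffffffbeffbfffffffff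

-- part: H249/Co3/RelRD
section
prune_inst 0x110065444400000000000004a0000020200000200040000000200a00034884600080884080000000102008040034000001100000424000000e000000011801801000040080080000000000000080000000000000000000000000000000000000000000000
set_option linter.all false
open scoped Cfsg.Agent.FastGrp

-- part: H249/Co3/Tab7
section
/-!
# S1920: the subsystem `A1 D6` of `E7` (helper249, with the generator of helper736); tables checked by the kernel

`T6` : the matrices of `D6` (and 0 for `±β`), `T2` : the matrices of `A1` (and 0 for the roots of `D6`), same mask.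
-/

set_option autoImplicit false

namespace Cfsg.Agent.H249.Co3

open Cfsg.Lie Cfsg.Agent.ChevalleyStructure.XColumns Cfsg.Agent.H736.Co3

def es6 : List Sp := [[], [], [], [], [], [], [], [], [], [], [], [], [], [], [], [], [], [], [], [], [], [], [], [], [], [], [],
  [], [], [], [], [], [], [(6, 1, -1), (7, 0, 1)], [(6, 2, -1), (8, 0, 1)], [(7, 2, -1), (8, 1, 1)],
  [(6, 3, -1), (9, 0, 1)], [(7, 3, -1), (9, 1, 1)], [(8, 3, -1), (9, 2, 1)], [(6, 4, -1), (10, 0, 1)],
  [(7, 4, -1), (10, 1, 1)], [(8, 4, -1), (10, 2, 1)], [(9, 4, -1), (10, 3, 1)], [(6, 5, -1), (11, 0, 1)],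
  [(7, 5, -1), (11, 1, 1)], [(8, 5, -1), (11, 2, 1)], [(9, 5, -1), (11, 3, 1)], [(10, 5, -1), (11, 4, 1)],
  [(5, 0, 1), (6, 11, -1)], [(5, 1, 1), (7, 11, -1)], [(5, 2, 1), (8, 11, -1)], [(5, 3, 1), (9, 11, -1)],
  [(5, 4, 1), (10, 11, -1)], [(4, 0, 1), (6, 10, -1)], [(4, 1, 1), (7, 10, -1)], [(4, 2, 1), (8, 10, -1)],
  [(4, 3, 1), (9, 10, -1)], [(3, 0, 1), (6, 9, -1)], [(3, 1, 1), (7, 9, -1)], [(3, 2, 1), (8, 9, -1)],
  [(2, 0, 1), (6, 8, -1)], [(2, 1, 1), (7, 8, -1)], [(1, 0, 1), (6, 7, -1)], [(0, 1, 1), (7, 6, -1)],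
  [(1, 2, 1), (8, 7, -1)], [(0, 2, 1), (8, 6, -1)], [(2, 3, 1), (9, 8, -1)], [(1, 3, 1), (9, 7, -1)],
  [(0, 3, 1), (9, 6, -1)], [(3, 4, 1), (10, 9, -1)], [(2, 4, 1), (10, 8, -1)], [(1, 4, 1), (10, 7, -1)],
  [(0, 4, 1), (10, 6, -1)], [(4, 5, 1), (11, 10, -1)], [(3, 5, 1), (11, 9, -1)], [(2, 5, 1), (11, 8, -1)],
  [(1, 5, 1), (11, 7, -1)], [(0, 5, 1), (11, 6, -1)], [(4, 11, 1), (5, 10, -1)], [(3, 11, 1), (5, 9, -1)],
  [(2, 11, 1), (5, 8, -1)], [(1, 11, 1), (5, 7, -1)], [(0, 11, 1), (5, 6, -1)], [(3, 10, 1), (4, 9, -1)],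
  [(2, 10, 1), (4, 8, -1)], [(1, 10, 1), (4, 7, -1)], [(0, 10, 1), (4, 6, -1)], [(2, 9, 1), (3, 8, -1)],
  [(1, 9, 1), (3, 7, -1)], [(0, 9, 1), (3, 6, -1)], [(1, 8, 1), (2, 7, -1)], [(0, 8, 1), (2, 6, -1)],
  [(0, 7, 1), (1, 6, -1)], [], [], [], [], [], [], [], [], [], [], [], [], [], [], [], [], [], [], [], [], [],
  [], [], [], [], [], [], [], [], [], [], [], []]

def hs6 : List Sp := [
  [(0, 0, -1), (1, 1, -1), (2, 2, -1), (3, 3, -1), (4, 4, -1), (5, 5, 1), (6, 6, 1), (7, 7, 1), (8, 8, 1), (9, 9, 1), (10, 10, 1), (11, 11, -1)],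
  [(4, 4, 2), (5, 5, 2), (10, 10, -2), (11, 11, -2)], [(4, 4, 2), (5, 5, -2), (10, 10, -2), (11, 11, 2)],
  [(3, 3, 2), (4, 4, -2), (9, 9, -2), (10, 10, 2)], [(2, 2, 2), (3, 3, -2), (8, 8, -2), (9, 9, 2)],
  [(1, 1, 2), (2, 2, -2), (7, 7, -2), (8, 8, 2)], [(0, 0, 2), (1, 1, -2), (6, 6, -2), (7, 7, 2)]]

/-- the exponents of the characters of the torus on the natural module -/
def ex6 : List (List ℤ) := [[0, 0, 0, 0, 0, 1, 1, 1, 1, 1, 1, 0], [0, 0, 0, 0, 1, 1, 0, 0, 0, 0, -1, -1],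
  [0, 0, 0, 0, 1, -1, 0, 0, 0, 0, -1, 1], [0, 0, 0, 1, -1, 0, 0, 0, 0, -1, 1, 0],
  [0, 0, 1, -1, 0, 0, 0, 0, -1, 1, 0, 0], [0, 1, -1, 0, 0, 0, 0, -1, 1, 0, 0, 0],
  [0, -2, -1, -1, -1, -1, -2, 0, -1, -1, -1, -1]]

/-- the tables of `D6` -/
def T6 : Tb := ⟨6, 42535295875020828247204868119574085633, es6, hs6⟩

instance : NeZero T6.m := ⟨by decide⟩

def rws6 : List Tb.Rw := [⟨0, 125, 42535295855213787618638783729778032640, 0, 0, []⟩,
  ⟨33, 92, 40396394082720437212817904849798627328, 192, 3, [(6, 1, -1), (7, 0, 1)]⟩,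
  ⟨34, 91, 38973542486505611986842319452289138688, 320, 5, [(6, 2, -1), (8, 0, 1)]⟩,
  ⟨35, 90, 38262116688135199474263556018414829568, 384, 6, [(7, 2, -1), (8, 1, 1)]⟩,
  ⟨36, 89, 36141022856635400952209413833992183808, 576, 9, [(6, 3, -1), (9, 0, 1)]⟩,
  ⟨37, 88, 35433552126280790586571264534268612608, 640, 10, [(7, 3, -1), (9, 1, 1)]⟩,
  ⟨38, 87, 34020588200105470500317274906321618944, 768, 12, [(8, 3, -1), (9, 2, 1)]⟩,
  ⟨39, 86, 30605998911355551307128653521332208640, 1088, 17, [(6, 4, -1), (10, 0, 1)]⟩,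
  ⟨40, 85, 29934892005577491376658881613464338944, 1152, 18, [(7, 4, -1), (10, 1, 1)]⟩,
  ⟨41, 84, 28594629108705062198291312876144689408, 1280, 20, [(8, 4, -1), (10, 2, 1)]⟩,
  ⟨42, 83, 25924489812601909865720913722512113792, 1536, 24, [(9, 4, -1), (10, 3, 1)]⟩,
  ⟨43, 82, 19938952358154353993179289919581955072, 2112, 33, [(6, 5, -1), (11, 0, 1)]⟩,
  ⟨44, 81, 19274234411328981986405393849166942720, 2176, 34, [(7, 5, -1), (11, 1, 1)]⟩,
  ⟨45, 80, 17944832744763077101319103677978429696, 2304, 36, [(8, 5, -1), (11, 2, 1)]⟩,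
  ⟨46, 79, 15286193574887079677789887195194079360, 2560, 40, [(9, 5, -1), (11, 3, 1)]⟩,
  ⟨47, 78, 9969219475920508800639259512636704640, 3072, 48, [(10, 5, -1), (11, 4, 1)]⟩,
  ⟨48, 77, 21882935435331809339935433417537617984, 96, 2049, [(5, 0, 1), (6, 11, -1)]⟩,
  ⟨49, 76, 21834906529347999506556550663774666784, 160, 2050, [(5, 1, 1), (7, 11, -1)]⟩,
  ⟨50, 75, 21740796066908964349883413447698415632, 288, 2052, [(5, 2, 1), (8, 11, -1)]⟩,
  ⟨51, 74, 21562959857095046974458203943069417480, 544, 2056, [(5, 3, 1), (9, 11, -1)]⟩,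
  ⟨52, 73, 21308537290272010803079642635661344772, 1056, 2064, [(5, 4, 1), (10, 11, -1)]⟩,
  ⟨53, 72, 11215888882049174225815217116543033408, 80, 1025, [(4, 0, 1), (6, 10, -1)]⟩,
  ⟨54, 71, 11174248935126636049847355909513236512, 144, 1026, [(4, 1, 1), (7, 10, -1)]⟩,
  ⟨55, 70, 11090999703048417053299993897297037328, 272, 1028, [(4, 2, 1), (8, 10, -1)]⟩,
  ⟨56, 69, 10924663619488800520312062948558256136, 528, 1032, [(4, 3, 1), (9, 10, -1)]⟩,
  ⟨57, 68, 5680864936092643332769678853647991872, 72, 513, [(3, 0, 1), (6, 9, -1)]⟩,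
  ⟨58, 67, 5675588814559047101788251800653087264, 136, 514, [(3, 1, 1), (7, 9, -1)]⟩,
  ⟨59, 66, 5665040612189914767833677798476661008, 264, 516, [(3, 2, 1), (8, 9, -1)]⟩,
  ⟨60, 65, 2848345303447362948335179799661716544, 68, 257, [(2, 0, 1), (6, 8, -1)]⟩,
  ⟨61, 64, 2847024252714933564296040686448611872, 132, 258, [(2, 1, 1), (7, 8, -1)]⟩,
  ⟨62, 63, 1425493702456110897406060169676760128, 66, 129, [(1, 0, 1), (6, 7, -1)]⟩,
  ⟨63, 62, 712746851228055448703030084838380064, 129, 66, [(0, 1, 1), (7, 6, -1)]⟩,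
  ⟨64, 61, 1423512126357466771771726801762683152, 258, 132, [(1, 2, 1), (8, 7, -1)]⟩,
  ⟨65, 60, 712086325861840737083794949915429136, 257, 68, [(0, 2, 1), (8, 6, -1)]⟩,
  ⟨66, 59, 2828565235293790111402400571454140552, 516, 264, [(2, 3, 1), (9, 8, -1)]⟩,
  ⟨67, 58, 1415601311305455768701271901932759176, 514, 136, [(1, 3, 1), (9, 7, -1)]⟩,
  ⟨68, 57, 708130581610996837192432388739045512, 513, 72, [(0, 3, 1), (9, 6, -1)]⟩,
  ⟨69, 56, 5353266954646361395745751564211455748, 1032, 528, [(3, 4, 1), (10, 9, -1)]⟩,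
  ⟨70, 55, 2683127661309854306545052512307381892, 1028, 272, [(2, 4, 1), (10, 8, -1)]⟩,
  ⟨71, 54, 1342864767030608839505568742687507844, 1026, 144, [(1, 4, 1), (10, 7, -1)]⟩,
  ⟨72, 53, 671757862725096279931525096178844548, 1025, 80, [(0, 4, 1), (10, 6, -1)]⟩,
  ⟨73, 52, 10634462872094438123220348492381812738, 2064, 1056, [(4, 5, 1), (11, 10, -1)]⟩,
  ⟨74, 51, 5317488774075052879055527964315862786, 2056, 544, [(3, 5, 1), (11, 9, -1)]⟩,
  ⟨75, 50, 2658849606992883230562543913828169346, 2052, 288, [(2, 5, 1), (11, 8, -1)]⟩,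
  ⟨76, 49, 1329447943074527120294416930457038210, 2050, 160, [(1, 5, 1), (11, 7, -1)]⟩,
  ⟨77, 48, 664729997830432611474912341127093122, 2049, 96, [(0, 5, 1), (11, 6, -1)]⟩,
  ⟨78, 47, 623076217235690368832459258242007160, 48, 3072, [(4, 11, 1), (5, 10, -1)]⟩,
  ⟨79, 46, 368653651360425403879218079192842356, 40, 2560, [(3, 11, 1), (5, 9, -1)]⟩,
  ⟨80, 45, 190817444341506950375811247803990124, 36, 2304, [(2, 11, 1), (5, 8, -1)]⟩,
  ⟨81, 44, 96706984552362862295249848036360284, 34, 2176, [(1, 11, 1), (5, 7, -1)]⟩,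
  ⟨82, 43, 48678080154515114421219905643085884, 33, 2112, [(0, 11, 1), (5, 6, -1)]⟩,
  ⟨83, 42, 332875470915797909788377562921156722, 24, 1536, [(3, 10, 1), (4, 9, -1)]⟩,
  ⟨84, 41, 166539390142168252620306869303455850, 20, 1280, [(2, 10, 1), (4, 8, -1)]⟩,
  ⟨85, 40, 83290160695816232409429925559314522, 18, 1152, [(1, 10, 1), (4, 7, -1)]⟩,
  ⟨86, 39, 41650215323191957408137078426851386, 17, 1088, [(0, 10, 1), (4, 6, -1)]⟩,
  ⟨87, 38, 21101816970935633226132769223018086, 12, 768, [(2, 9, 1), (3, 8, -1)]⟩,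
  ⟨88, 37, 10553617098273904495351727095055702, 10, 640, [(1, 9, 1), (3, 7, -1)]⟩,
  ⟨89, 36, 5277496843798831849789180013986614, 9, 576, [(0, 9, 1), (3, 6, -1)]⟩,
  ⟨90, 35, 2642803913468048263405517656302798, 6, 384, [(1, 8, 1), (2, 7, -1)]⟩,
  ⟨91, 34, 1321753531705181486527413995442862, 5, 320, [(0, 8, 1), (2, 6, -1)]⟩,
  ⟨92, 33, 661228340823739797517914603653534, 3, 192, [(0, 7, 1), (1, 6, -1)]⟩, ⟨125, 0, 8589934590, 0, 0, []⟩]

theorem T6_1 : rws6.all (fun p => Tb.Rw.ok T6 chevE7 p) = true := Fk.allOk_of _ _ ChevFast.E7.cartan (by decide +kernel)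

theorem T6_2 : rws6.all (fun p => rws6.all fun q => Tb.pairOk p q) = true := Fk.allPr_of (by decide +kernel)

theorem T6_3 : Tb.okRest T6 126 rws6 = true := by decide +kernel

theorem T6_ok : T6.Ok chevE7 :=
  Tb.ok_of T6 chevE7 T6_1 T6_2 T6_3 fun r _ =>
    (Cfsg.Agent.ChevalleyStructure.RootVec.row_pairwise Cfsg.Agent.ChevalleyStructure.RootVecTab.checked_E7 r).imp ne_of_lt

def es2 : List Sp := [[(1, 0, 1)], [], [], [], [], [], [], [], [], [], [], [], [], [], [], [], [], [], [], [], [], [], [], [], [],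
  [], [], [], [], [], [], [], [], [], [], [], [], [], [], [], [], [], [], [], [], [], [], [], [], [], [], [],
  [], [], [], [], [], [], [], [], [], [], [], [], [], [], [], [], [], [], [], [], [], [], [], [], [], [], [],
  [], [], [], [], [], [], [], [], [], [], [], [], [], [], [], [], [], [], [], [], [], [], [], [], [], [], [],
  [], [], [], [], [], [], [], [], [], [], [], [], [], [], [], [], [], [], [], [(0, 1, 1)]]

def hs2 : List Sp := [[(0, 0, 1), (1, 1, -1)], [], [], [], [], [], []]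

/-- the tables of `A1` -/
def T2 : Tb := ⟨1, 42535295875020828247204868119574085633, es2, hs2⟩

instance : NeZero T2.m := ⟨by decide⟩

def rws2 : List Tb.Rw := [⟨0, 125, 42535295855213787618638783729778032640, 2, 1, [(1, 0, 1)]⟩,
  ⟨33, 92, 40396394082720437212817904849798627328, 0, 0, []⟩,
  ⟨34, 91, 38973542486505611986842319452289138688, 0, 0, []⟩,
  ⟨35, 90, 38262116688135199474263556018414829568, 0, 0, []⟩,
  ⟨36, 89, 36141022856635400952209413833992183808, 0, 0, []⟩,
  ⟨37, 88, 35433552126280790586571264534268612608, 0, 0, []⟩,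
  ⟨38, 87, 34020588200105470500317274906321618944, 0, 0, []⟩,
  ⟨39, 86, 30605998911355551307128653521332208640, 0, 0, []⟩,
  ⟨40, 85, 29934892005577491376658881613464338944, 0, 0, []⟩,
  ⟨41, 84, 28594629108705062198291312876144689408, 0, 0, []⟩,
  ⟨42, 83, 25924489812601909865720913722512113792, 0, 0, []⟩,
  ⟨43, 82, 19938952358154353993179289919581955072, 0, 0, []⟩,
  ⟨44, 81, 19274234411328981986405393849166942720, 0, 0, []⟩,
  ⟨45, 80, 17944832744763077101319103677978429696, 0, 0, []⟩,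
  ⟨46, 79, 15286193574887079677789887195194079360, 0, 0, []⟩,
  ⟨47, 78, 9969219475920508800639259512636704640, 0, 0, []⟩,
  ⟨48, 77, 21882935435331809339935433417537617984, 0, 0, []⟩,
  ⟨49, 76, 21834906529347999506556550663774666784, 0, 0, []⟩,
  ⟨50, 75, 21740796066908964349883413447698415632, 0, 0, []⟩,
  ⟨51, 74, 21562959857095046974458203943069417480, 0, 0, []⟩,
  ⟨52, 73, 21308537290272010803079642635661344772, 0, 0, []⟩,
  ⟨53, 72, 11215888882049174225815217116543033408, 0, 0, []⟩,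
  ⟨54, 71, 11174248935126636049847355909513236512, 0, 0, []⟩,
  ⟨55, 70, 11090999703048417053299993897297037328, 0, 0, []⟩,
  ⟨56, 69, 10924663619488800520312062948558256136, 0, 0, []⟩,
  ⟨57, 68, 5680864936092643332769678853647991872, 0, 0, []⟩,
  ⟨58, 67, 5675588814559047101788251800653087264, 0, 0, []⟩,
  ⟨59, 66, 5665040612189914767833677798476661008, 0, 0, []⟩,
  ⟨60, 65, 2848345303447362948335179799661716544, 0, 0, []⟩,
  ⟨61, 64, 2847024252714933564296040686448611872, 0, 0, []⟩,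
  ⟨62, 63, 1425493702456110897406060169676760128, 0, 0, []⟩,
  ⟨63, 62, 712746851228055448703030084838380064, 0, 0, []⟩,
  ⟨64, 61, 1423512126357466771771726801762683152, 0, 0, []⟩,
  ⟨65, 60, 712086325861840737083794949915429136, 0, 0, []⟩,
  ⟨66, 59, 2828565235293790111402400571454140552, 0, 0, []⟩,
  ⟨67, 58, 1415601311305455768701271901932759176, 0, 0, []⟩,
  ⟨68, 57, 708130581610996837192432388739045512, 0, 0, []⟩,
  ⟨69, 56, 5353266954646361395745751564211455748, 0, 0, []⟩,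
  ⟨70, 55, 2683127661309854306545052512307381892, 0, 0, []⟩,
  ⟨71, 54, 1342864767030608839505568742687507844, 0, 0, []⟩,
  ⟨72, 53, 671757862725096279931525096178844548, 0, 0, []⟩,
  ⟨73, 52, 10634462872094438123220348492381812738, 0, 0, []⟩,
  ⟨74, 51, 5317488774075052879055527964315862786, 0, 0, []⟩,
  ⟨75, 50, 2658849606992883230562543913828169346, 0, 0, []⟩,
  ⟨76, 49, 1329447943074527120294416930457038210, 0, 0, []⟩,
  ⟨77, 48, 664729997830432611474912341127093122, 0, 0, []⟩,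
  ⟨78, 47, 623076217235690368832459258242007160, 0, 0, []⟩,
  ⟨79, 46, 368653651360425403879218079192842356, 0, 0, []⟩,
  ⟨80, 45, 190817444341506950375811247803990124, 0, 0, []⟩,
  ⟨81, 44, 96706984552362862295249848036360284, 0, 0, []⟩,
  ⟨82, 43, 48678080154515114421219905643085884, 0, 0, []⟩,
  ⟨83, 42, 332875470915797909788377562921156722, 0, 0, []⟩,
  ⟨84, 41, 166539390142168252620306869303455850, 0, 0, []⟩,
  ⟨85, 40, 83290160695816232409429925559314522, 0, 0, []⟩,
  ⟨86, 39, 41650215323191957408137078426851386, 0, 0, []⟩,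
  ⟨87, 38, 21101816970935633226132769223018086, 0, 0, []⟩,
  ⟨88, 37, 10553617098273904495351727095055702, 0, 0, []⟩,
  ⟨89, 36, 5277496843798831849789180013986614, 0, 0, []⟩,
  ⟨90, 35, 2642803913468048263405517656302798, 0, 0, []⟩,
  ⟨91, 34, 1321753531705181486527413995442862, 0, 0, []⟩,
  ⟨92, 33, 661228340823739797517914603653534, 0, 0, []⟩, ⟨125, 0, 8589934590, 1, 2, [(0, 1, 1)]⟩]

theorem T2_1 : rws2.all (fun p => Tb.Rw.ok T2 chevE7 p) = true := Fk.allOk_of _ _ ChevFast.E7.cartan (by decide +kernel)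

theorem T2_2 : rws2.all (fun p => rws2.all fun q => Tb.pairOk p q) = true := Fk.allPr_of (by decide +kernel)

theorem T2_3 : Tb.okRest T2 126 rws2 = true := by decide +kernel

theorem T2_ok : T2.Ok chevE7 :=
  Tb.ok_of T2 chevE7 T2_1 T2_2 T2_3 fun r _ =>
    (Cfsg.Agent.ChevalleyStructure.RootVec.row_pairwise Cfsg.Agent.ChevalleyStructure.RootVecTab.checked_E7 r).imp ne_of_lt

/-! ### more facts -/

theorem c6_1 : (rws6.all fun p => p.A.all fun a => (List.range 7).all fun k =>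
    decide (exf ex6 k a.1 = chevE7.cartan k p.r + exf ex6 k a.2.1)) = true := by (rewrite [Cfsg.Agent.ChevFast.E7.cartan]; decide +kernel)

theorem c6_2 : ((List.range 7).all fun i => (T6.H i).all fun a => Nat.beq a.1 a.2.1) = true := by decide +kernel

theorem c6_3 : ((List.range 7).all fun k => (List.range 6).all fun i =>
    decide (exf ex6 k i + exf ex6 k (i + 6) = exf ex6 k 0 + exf ex6 k 6)) = true := by decide +kernel

theorem c6_4 : (rws6.all fun p => zr (skw 6 p.A)) = true := by decide +kernel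

theorem c6_5 : ((List.range 7).all fun i => zr (skw 6 (T6.H i))) = true := by decide +kernel

theorem c6_6 : ((List.range 12).all fun i => (List.range 12).all fun j => Nat.beq i j || Nat.beq i (opn 6 j) ||
    rws6.any fun p => p.rm.testBit i && (p.cm.testBit j && isA 6 p.A i j)) = true := by decide +kernel

theorem spec_rws (T : Tb) (rws : List Tb.Rw) (h1 : rws.all (fun p => Tb.Rw.ok T chevE7 p) = true)
    (h3 : Tb.okRest T 126 rws = true) (hlt : ∀ r, T.In r = true → r < 126) {r : ℕ} (hr : T.In r = true) :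
    ∃ p ∈ rws, p.r = r ∧ T.E r = p.A := by
  unfold Tb.okRest at h3
  simp only [Bool.and_eq_true, List.all_eq_true, List.mem_range, Bool.or_eq_true, Bool.not_eq_true', List.any_eq_true,
    Nat.blt_eq] at h3
  obtain ⟨⟨⟨⟨ha, hb⟩, -⟩, -⟩, -⟩ := h3
  rcases ha r (hlt r hr) with h | ⟨p, hp, h⟩
  · rw [h] at hr; exact absurd hr Bool.false_ne_true
  · have h1 := List.all_eq_true.1 h1 p hp
    unfold Tb.Rw.ok at h1
    simp only [Bool.and_eq_true, decide_eq_true_eq] at h1
    obtain ⟨⟨⟨⟨⟨⟨⟨⟨⟨⟨-, -⟩, -⟩, -⟩, q1⟩, -⟩, -⟩, -⟩, -⟩, -⟩, -⟩ := h1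
    have h2 := Nat.eq_of_beq_eq_true h
    exact ⟨p, hp, h2.symm, by rw [h2, q1]⟩

theorem spec_rws' (T : Tb) (rws : List Tb.Rw) (h1 : rws.all (fun p => Tb.Rw.ok T chevE7 p) = true) {p : Tb.Rw} (hp : p ∈ rws) :
    T.In p.r = true ∧ T.E p.r = p.A := by
  have h1 := List.all_eq_true.1 h1 p hp
  unfold Tb.Rw.ok at h1
  simp only [Bool.and_eq_true, decide_eq_true_eq] at h1
  obtain ⟨⟨⟨⟨⟨⟨⟨⟨⟨⟨q0, -⟩, -⟩, -⟩, q1⟩, -⟩, -⟩, -⟩, -⟩, -⟩, -⟩ := h1
  exact ⟨q0, q1⟩

theorem spec6 {r : ℕ} (hr : T6.In r = true) : ∃ p ∈ rws6, p.r = r ∧ T6.E r = p.A :=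
  spec_rws T6 rws6 T6_1 T6_3 (fun r h => T6_ok.lt r h) hr

theorem spec2 {r : ℕ} (hr : T2.In r = true) : ∃ p ∈ rws2, p.r = r ∧ T2.E r = p.A :=
  spec_rws T2 rws2 T2_1 T2_3 (fun r h => T2_ok.lt r h) hr

theorem T6_ok2 : T6.Ok2 chevE7 ex6 where
  dE := by
    intro r hr a ha k hk
    obtain ⟨p, hp, rfl, e⟩ := spec6 hr
    rw [e] at ha
    exact of_decide_eq_true (List.all_eq_true.1 (List.all_eq_true.1 (List.all_eq_true.1 c6_1 p hp) a ha) k (List.mem_range.2 hk))
  dH := by
    intro i hi a ha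
    exact Nat.eq_of_beq_eq_true (List.all_eq_true.1 (List.all_eq_true.1 c6_2 i (List.mem_range.2 hi)) a ha)
  mu := by
    intro k hk i hi
    exact of_decide_eq_true (List.all_eq_true.1 (List.all_eq_true.1 c6_3 k (List.mem_range.2 hk)) i (List.mem_range.2 hi))
  skE := by
    intro r hr
    obtain ⟨p, hp, rfl, e⟩ := spec6 hr
    rw [e]
    exact List.all_eq_true.1 c6_4 p hp
  skH := fun i hi => List.all_eq_true.1 c6_5 i (List.mem_range.2 hi)
  hit := by
    intro i hi j hj h1 h2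
    have h3 := List.all_eq_true.1 (List.all_eq_true.1 c6_6 i (List.mem_range.2 hi)) j (List.mem_range.2 hj)
    rw [Bool.or_eq_true, Bool.or_eq_true, List.any_eq_true] at h3
    rcases h3 with (h3 | h3) | ⟨p, hp, h3⟩
    · exact absurd (Nat.eq_of_beq_eq_true h3) h1
    · exact absurd (Nat.eq_of_beq_eq_true h3) h2
    · rw [Bool.and_eq_true, Bool.and_eq_true] at h3
      obtain ⟨h4, h5⟩ := spec_rws' T6 rws6 T6_1 hp
      exact ⟨p.r, h4, by rw [h5]; exact h3.2.2⟩

/-- the mask is the set of the roots with even first coefficient -/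
theorem In_iff6 : ((List.range 126).all fun r => decide (T6.In r = decide (Cfsg.Agent.ChevalleyStructure.Columns.cor chevE7 r 0 % 2 = 0))) = true := by
  (delta Cfsg.Agent.ChevalleyStructure.Columns.cor; rewrite [Cfsg.Agent.ChevFast.E7.coroot]; decide +kernel)

/-- joint injectivity on the root vectors -/
theorem cj_1 : (rws6.all fun p => Nat.beq p.r 125 || (Nat.beq p.r 0 || p.A.any fun a => (decide (ent p.A a.1 a.2.1 = 1) ||
    decide (ent p.A a.1 a.2.1 = -1)) && (rws6.all fun q => Nat.beq q.r p.r || decide (ent q.A a.1 a.2.1 = 0)) &&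
    (List.range 7).all fun k => decide (ent (T6.H k) a.1 a.2.1 = 0))) = true := by
  rewrite [Fk.en_fun, Fk.al_fun]; decide +kernel

theorem cj_2 : (rws2.all fun p => !(Nat.beq p.r 125 || Nat.beq p.r 0) || p.A.any fun a => (decide (ent p.A a.1 a.2.1 = 1) ||
    decide (ent p.A a.1 a.2.1 = -1)) && (rws2.all fun q => Nat.beq q.r p.r || decide (ent q.A a.1 a.2.1 = 0)) &&
    (List.range 7).all fun k => decide (ent (T2.H k) a.1 a.2.1 = 0)) = true := by
  rewrite [Fk.en_fun, Fk.al_fun]; decide +kernel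

def mm7 : List (List ℤ) := [[0, 0, 0, 0, 0, 0, 4], [1, 1, 1, 1, 1, 1, 4], [1, 1, 1, 1, 1, -1, 6], [2, 2, 2, 2, 0, 0, 8],
  [2, 2, 2, 0, 0, 0, 6], [2, 2, 0, 0, 0, 0, 4], [2, 0, 0, 0, 0, 0, 2]]

theorem cj_3 : ((List.range 7).all fun l => (List.range 7).all fun k =>
    decide (((List.range 6).map fun i => exf mm7 l i * ent (T6.H k) i i).sum + exf mm7 l 6 * ent (T2.H k) 0 0 =
      if l = k then 4 else 0)) = true := by
  decide +kernel

end Cfsg.Agent.H249.Co3
end

-- part: H249/Co3/Ker7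
section
/-!
# S1920, case B, `E₇(q)`, THETA12: the elements acting trivially on `sl₂ + so₁₂` (helper249)

* `sep` : distinct weights of the adjoint module of `E₇` differ on a simple coroot (characteristic not 2);
* `ker7` : an element of `chevE7.group F` fixing all the root vectors of `A₁D₆` is diagonal, equal to 1 on `L₊` and to a
  scalar `ε`, `ε² = 1`, on `L₋`.
-/

set_option autoImplicit false
set_option linter.unusedSectionVars false
set_option maxRecDepth 100000

namespace Cfsg.Agent.H249.Co3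

open Cfsg Cfsg.Lie Cfsg.Lie.ChevalleyDatum
open Cfsg.Agent.ChevalleyStructure Cfsg.Agent.ChevalleyStructure.Elts
open Cfsg.Agent.ChevalleyStructure.LieAbs Cfsg.Agent.ChevalleyStructure.Ring Cfsg.Agent.ChevalleyStructure.JacMain
  Cfsg.Agent.ChevalleyStructure.LieAut Cfsg.Agent.ChevalleyStructure.JacAll Cfsg.Agent.ChevalleyStructure.Columns
open Cfsg.Agent.H167.EX Cfsg.Agent.H553.KKL Cfsg.Agent.H971.RV
open Matrix

universe u

/-! ### separation of the weights -/

/-- the values of a root on the simple coroots modulo 3 -/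
def code7 (s : ℕ) : ℕ := (List.range 7).foldl (fun a j => 3 * a + ((car chevE7 j s) % 3).toNat) 0

def codes7 : List ℕ := [1458, 891, 135, 531, 501, 491, 487, 261, 312, 302, 298, 195, 212, 208, 173, 178, 165, 1545, 1562, 1558, 1604, 1609, 1596, 1973, 1978, 1992, 1953, 1703, 1708, 1722, 1764, 1647, 810, 735, 752, 748, 794, 799, 786, 1406, 1411, 1425, 1386, 569, 574, 588, 630, 270, 1136, 1141, 1155, 1197, 837, 380, 385, 399, 360, 47, 52, 39, 17, 13, 4, 8, 26, 22, 78, 68, 64, 720, 690, 680, 676, 1674, 2070, 2040, 2030, 2026, 540, 450, 420, 410, 406, 1800, 1851, 1841, 1837, 1491, 1508, 1504, 1469, 1474, 1461, 1620, 864, 1260, 1230, 1220, 1216, 990, 1041, 1031, 1027, 924, 941, 937, 902, 907, 894, 87, 104, 100, 146, 151, 138, 515, 520, 534, 495, 245, 250, 264, 306, 189, 1539, 729]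

theorem codes7_eq : (List.range 126).map code7 = codes7 := by (delta Cfsg.Agent.ChevalleyStructure.Columns.car Cfsg.Agent.H249.Co3.code7; (try set_option simprocs false in simp -zeta only [Cfsg.Agent.ChevFast.E7.cartanR]); decide +kernel)

theorem codes7_nodup : codes7.Nodup := by decide +kernel

theorem codes7_pos : ∀ c ∈ codes7, c ≠ 0 := by decide +kernel

theorem car7_le : ∀ j < 7, ∀ s < 126, -2 ≤ car chevE7 j s ∧ car chevE7 j s ≤ 2 := by (delta Cfsg.Agent.ChevalleyStructure.Columns.car; (try set_option simprocs false in simp -zeta only [Cfsg.Agent.ChevFast.E7.cartanR]); open scoped Cfsg.Agent.ChevFast.Lin in decide +kernel)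

theorem foldl_congr' (f g : ℕ → ℕ) : ∀ (l : List ℕ) (_ : ∀ j ∈ l, f j = g j) (a : ℕ),
    l.foldl (fun a j => 3 * a + f j) a = l.foldl (fun a j => 3 * a + g j) a
  | [], _, _ => rfl
  | j :: l, h, a => by
    rw [List.foldl_cons, List.foldl_cons, h j List.mem_cons_self]
    exact foldl_congr' f g l (fun i hi => h i (List.mem_cons_of_mem _ hi)) _

theorem code7_getElem {s : ℕ} (hs : s < 126) : codes7[s]? = some (code7 s) := by
  rw [← codes7_eq, List.getElem?_map, List.getElem?_range hs]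
  rfl

theorem code7_inj {s u : ℕ} (hs : s < 126) (hu : u < 126) (h : code7 s = code7 u) : s = u := by
  have h1 := code7_getElem hs
  have h2 := code7_getElem hu
  rw [← h] at h2
  have hlt : ∀ {s : ℕ}, s < 126 → s < codes7.length := by
    intro s hs
    by_contra hc
    have h3 := code7_getElem hs
    rw [List.getElem?_eq_none (not_lt.1 hc)] at h3
    simp at h3
  by_contra hne
  rcases lt_or_gt_of_ne hne with hl | hl
  · exact (List.nodup_iff_getElem?_ne_getElem?.1 codes7_nodup) s u hl (hlt hu) (by rw [h1, h2])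
  · exact (List.nodup_iff_getElem?_ne_getElem?.1 codes7_nodup) u s hl (hlt hs) (by rw [h1, h2])

variable {F : Type u} [Field F]

/-- integers of absolute value at most four not divisible by three are nonzero in odd characteristic -/
theorem cast_ne (h2 : (2 : F) ≠ 0) {d : ℤ} (h1 : -4 ≤ d) (h3 : d ≤ 4) (h : d % 3 ≠ 0) : (d : F) ≠ 0 := by
  have h4 : (4 : F) ≠ 0 := by
    have : (4 : F) = 2 * 2 := by norm_num
    rw [this]; exact mul_ne_zero h2 h2
  have h5 : d = -4 ∨ d = -2 ∨ d = -1 ∨ d = 1 ∨ d = 2 ∨ d = 4 := by omega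
  rcases h5 with rfl | rfl | rfl | rfl | rfl | rfl
  · rw [Int.cast_neg]; exact neg_ne_zero.2 (by exact_mod_cast h4)
  · rw [Int.cast_neg]; exact neg_ne_zero.2 (by exact_mod_cast h2)
  · rw [Int.cast_neg]; exact neg_ne_zero.2 (by simp)
  · simp
  · exact_mod_cast h2
  · exact_mod_cast h4

/-- **Separation**, two roots -/
theorem sep (h2 : (2 : F) ≠ 0) {s u : ℕ} (hs : s < 126) (hu : u < 126) (hsu : s ≠ u) :
    ∃ j < 7, ((car chevE7 j s : ℤ) : F) ≠ ((car chevE7 j u : ℤ) : F) := by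
  by_contra hc
  push Not at hc
  apply hsu
  refine code7_inj hs hu ?_
  unfold code7
  refine foldl_congr' _ _ _ (fun j hj => ?_) 0
  have hj := List.mem_range.1 hj
  have h1 := hc j hj
  rw [← sub_eq_zero, ← Int.cast_sub] at h1
  have h3 : (car chevE7 j s - car chevE7 j u) % 3 = 0 := by
    by_contra h
    have h4 := car7_le j hj s hs
    have h5 := car7_le j hj u hu
    exact cast_ne h2 (by omega) (by omega) h h1
  congr 1
  omega

/-- **Separation**, a root and zero -/
theorem sep0 (h2 : (2 : F) ≠ 0) {s : ℕ} (hs : s < 126) : ∃ j < 7, ((car chevE7 j s : ℤ) : F) ≠ 0 := by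
  by_contra hc
  push Not at hc
  have h0 : code7 s ≠ 0 := codes7_pos _ (List.mem_of_getElem? (code7_getElem hs))
  apply h0
  have h1 : code7 s = (List.range 7).foldl (fun a _ => 3 * a + 0) 0 := by
    unfold code7
    refine foldl_congr' _ (fun _ => 0) _ (fun j hj => ?_) 0
    have hj := List.mem_range.1 hj
    have h1 := hc j hj
    have h3 : (car chevE7 j s) % 3 = 0 := by
      by_contra h
      have h4 := car7_le j hj s hs
      exact cast_ne h2 (by omega) (by omega) h h1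
    rw [h3]; rfl
  rw [h1]; decide

/-! ### the tree of the roots of `L₋` -/

/-- `(s, a, b)` : `b = s + a`, `s` a root of `A₁D₆`, `a, b` roots of `L₋` -/
def edges7 : List (ℕ × ℕ × ℕ) := [(73, 1, 2), (74, 1, 3), (75, 1, 4), (76, 1, 5), (77, 1, 6), (83, 1, 7), (84, 1, 8), (85, 1, 9), (86, 1, 10), (87, 1, 11), (88, 1, 12), (89, 1, 13), (90, 1, 14), (91, 1, 15), (92, 1, 16), (125, 1, 93), (87, 2, 17), (88, 2, 18), (89, 2, 19), (90, 2, 20), (91, 2, 21), (92, 2, 22), (125, 2, 94), (90, 3, 23), (91, 3, 24), (92, 3, 25), (125, 3, 95), (92, 4, 26), (125, 4, 96), (125, 5, 97), (125, 6, 98), (90, 7, 27), (91, 7, 28), (92, 7, 29), (125, 7, 99), (92, 8, 30), (125, 8, 100), (125, 9, 101), (125, 10, 102), (92, 11, 31), (125, 11, 103), (125, 12, 104), (125, 13, 105), (125, 14, 106), (125, 15, 107), (125, 16, 108), (92, 17, 32), (125, 17, 109), (125, 18, 110), (125, 19, 111), (125, 20, 112), (125, 21, 113), (125, 22, 114), (125, 23, 115), (125, 24, 116), (125, 25,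 117), (125, 26, 118), (125, 27, 119), (125, 28, 120), (125, 29, 121), (125, 30, 122), (125, 31, 123), (125, 32, 124)]

/-- the structure constant `N_{s,a}` read off the table at `b` -/
def nn7 (s a b : ℕ) : ℤ := ((chevE7.chainCoeff s a b).map fun km : ℕ × ℤ => if km.1 = 1 then km.2 else 0).sum

theorem edges7_ok : ∀ e ∈ edges7, e.1 < 126 ∧ e.2.1 < 126 ∧ e.2.2 < 126 ∧ cor chevE7 e.1 0 % 2 = 0 ∧ e.2.1 ≠ e.1 ∧
    e.2.1 ≠ chevE7.neg e.1 ∧ (nn7 e.1 e.2.1 e.2.2 = 1 ∨ nn7 e.1 e.2.1 e.2.2 = -1) := by (delta Cfsg.Agent.ChevalleyStructure.Columns.cor Cfsg.Agent.H249.Co3.nn7; rewrite [Cfsg.Agent.ChevFast.E7.chainCoeff, Cfsg.Agent.ChevFast.E7.coroot, Cfsg.Agent.ChevFast.E7.neg]; decide +kernel)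

/-- everything odd is reached from the root 1 -/
def reach7 : List (ℕ × ℕ × ℕ) → List ℕ → Bool
  | [], R => (List.range 126).all fun s => decide (cor chevE7 s 0 % 2 = 0) || R.contains s
  | e :: l, R => R.contains e.2.1 && reach7 l (e.2.2 :: R)

theorem reach7_ok : reach7 edges7 [1] = true := by (delta Cfsg.Agent.ChevalleyStructure.Columns.cor Cfsg.Agent.H249.Co3.reach7 Cfsg.Agent.H249.Co3.reach7._f; rewrite [Cfsg.Agent.ChevFast.E7.coroot]; decide +kernel)

theorem reach7_spec {P : ℕ → Prop} : ∀ (l : List (ℕ × ℕ × ℕ)) (R : List ℕ), (∀ e ∈ l, P e.2.1 → P e.2.2) →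
    (∀ r ∈ R, P r) → reach7 l R = true → ∀ s < 126, cor chevE7 s 0 % 2 ≠ 0 → P s
  | [], R, _, hR, h, s, hs, hs' => by
    unfold reach7 at h
    rw [List.all_eq_true] at h
    have h1 := h s (List.mem_range.2 hs)
    rw [Bool.or_eq_true] at h1
    rcases h1 with h1 | h1
    · exact absurd (of_decide_eq_true h1) hs'
    · exact hR s (List.contains_iff_mem.1 h1)
  | e :: l, R, hl, hR, h, s, hs, hs' => by
    unfold reach7 at h
    rw [Bool.and_eq_true] at h
    refine reach7_spec l (e.2.2 :: R) (fun e' he' => hl e' (List.mem_cons_of_mem _ he')) ?_ h.2 s hs hs'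
    intro r hr
    rcases List.mem_cons.1 hr with rfl | hr
    · exact hl e List.mem_cons_self (hR _ (List.contains_iff_mem.1 h.1))
    · exact hR r hr

/-! ### the kernel -/

section Ker

variable {g : ↥(chevE7.group F)}

/-- a root vector is fixed: the matrix commutes with its adjoint matrix -/
theorem comm_adR (j : chevE7.Idx) (h : ((g : GL chevE7.Idx F) : Matrix chevE7.Idx chevE7.Idx F) *ᵥ Pi.single j 1 = Pi.single j 1) :
    ((g : GL chevE7.Idx F) : Matrix chevE7.Idx chevE7.Idx F) * adR chevE7 F j =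
      adR chevE7 F j * ((g : GL chevE7.Idx F) : Matrix chevE7.Idx chevE7.Idx F) := by
  have h1 := group_mul_adv chevE7 slacE7.inList F g.1 g.2 (Pi.single j 1)
  rwa [h, adv_single_one] at h1

theorem adR_inl7 (i : Fin chevE7.rank) :
    adR chevE7 F (Sum.inl i) = Matrix.diagonal (Sum.elim (fun _ => 0) fun s : Fin chevE7.nroots => ((car chevE7 i.val s.val : ℤ) : F)) := by
  rw [adR_def, adA_inl, adH, Matrix.diagonal_map (map_zero _)]
  congr 1
  funext j
  rcases j with j | j <;> simp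

theorem hv_neg (g : ↥(chevE7.group F)) {s : ℕ} (hs : s < 126) (h1 : rho chevE7 F g (ex chevE7 F s) = ex chevE7 F s)
    (h2 : rho chevE7 F g (ex chevE7 F (chevE7.neg s)) = ex chevE7 F (chevE7.neg s)) :
    rho chevE7 F g (hv chevE7 F s) = hv chevE7 F s := by
  rw [← br_neg slacE7 hs, rho_br slacE7.inList, h1, h2]

theorem tab7a : ∀ s < 126, cor chevE7 s 0 % 2 = 0 → chevE7.neg s < 126 ∧ cor chevE7 (chevE7.neg s) 0 % 2 = 0 := by (delta Cfsg.Agent.ChevalleyStructure.Columns.cor; rewrite [Cfsg.Agent.ChevFast.E7.coroot, Cfsg.Agent.ChevFast.E7.neg]; open scoped Cfsg.Agent.ChevFast.Lin in decide +kernel)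

theorem tab7b : ∀ i < 7, i ≠ 0 → chevE7.simple i < 126 ∧ cor chevE7 (chevE7.simple i) 0 % 2 = 0 := by (delta Cfsg.Agent.ChevalleyStructure.Columns.cor; rewrite [Cfsg.Agent.ChevFast.E7.coroot]; open scoped Cfsg.Agent.ChevFast.Lin in decide +kernel)

theorem tab7c : cor chevE7 125 0 = 2 := by decide +kernel

/-- the Cartan subalgebra is fixed -/
theorem cartan_fix (h2 : (2 : F) ≠ 0) (g : ↥(chevE7.group F))
    (hfix : ∀ s < 126, cor chevE7 s 0 % 2 = 0 → rho chevE7 F g (ex chevE7 F s) = ex chevE7 F s) (i : Fin chevE7.rank) :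
    rho chevE7 F g (Pi.single (Sum.inl i) 1) = Pi.single (Sum.inl i) 1 := by
  have hhv : ∀ s < 126, cor chevE7 s 0 % 2 = 0 → rho chevE7 F g (hv chevE7 F s) = hv chevE7 F s := fun s hs h =>
    hv_neg g hs (hfix s hs h) (hfix _ (tab7a s hs h).1 (tab7a s hs h).2)
  have h0 : ∀ i : Fin chevE7.rank, i.val ≠ 0 → rho chevE7 F g (Pi.single (Sum.inl i) 1) = Pi.single (Sum.inl i) 1 := by
    intro i hi
    rw [← hv_simple slacE7]
    exact hhv _ (tab7b i i.2 hi).1 (tab7b i i.2 hi).2
  by_cases hi : i.val = 0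
  · have hexp : hv chevE7 F 125 = ∑ j : Fin chevE7.rank, ((cor chevE7 125 j.val : ℤ) : F) • (Pi.single (Sum.inl j) 1 : chevE7.Idx → F) := by
      funext k
      rw [Finset.sum_apply]
      rcases k with k | k
      · rw [Finset.sum_eq_single k]
        · rw [Pi.smul_apply, Pi.single_eq_same, smul_eq_mul, mul_one]; rfl
        · intro j _ hj
          rw [Pi.smul_apply, Pi.single_eq_of_ne, smul_zero]
          exact fun h => hj (Sum.inl_injective h).symm
        · intro h; exact absurd (Finset.mem_univ _) h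
      · rw [Finset.sum_eq_zero]
        · rfl
        · intro j _
          rw [Pi.smul_apply, Pi.single_eq_of_ne (by simp), smul_zero]
    have h1 := hhv 125 (by norm_num) (by rw [tab7c]; rfl)
    rw [hexp, ← Finset.add_sum_erase _ _ (Finset.mem_univ i), map_add, map_sum, map_smul, hi, tab7c] at h1
    have h3 : ∑ x ∈ Finset.univ.erase i, rho chevE7 F g (((cor chevE7 125 x.val : ℤ) : F) • (Pi.single (Sum.inl x) 1 : chevE7.Idx → F)) =
        ∑ x ∈ Finset.univ.erase i, ((cor chevE7 125 x.val : ℤ) : F) • (Pi.single (Sum.inl x) 1 : chevE7.Idx → F) := by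
      refine Finset.sum_congr rfl fun x hx => ?_
      rw [map_smul, h0 x]
      intro hx0
      exact (Finset.mem_erase.1 hx).1 (Fin.ext (by rw [hx0, hi]))
    rw [h3, add_left_inj, Int.cast_ofNat] at h1
    have h4 := congrArg (fun x => (2 : F)⁻¹ • x) h1
    simp only [smul_smul, inv_mul_cancel₀ h2, one_smul] at h4
    exact h4
  · exact h0 i hi

theorem ex_eq {s : ℕ} (hs : s < 126) : ex chevE7 F s = Pi.single (Sum.inr ⟨s, hs⟩) 1 := (ev_eq (D := chevE7) hs).symm

theorem rho_eq_mulVec (g : ↥(chevE7.group F)) (v : chevE7.Idx → F) :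
    rho chevE7 F g v = ((g : GL chevE7.Idx F) : Matrix chevE7.Idx chevE7.Idx F) *ᵥ v := by
  rw [rho_eq, Matrix.toLin'_apply]

/-- **An element fixing `L₊` is `1` on `L₊` and a scalar `ε`, `ε² = 1`, on `L₋`.** -/
theorem ker7 (h2 : (2 : F) ≠ 0) (g : ↥(chevE7.group F))
    (hfix : ∀ s < 126, cor chevE7 s 0 % 2 = 0 → rho chevE7 F g (ex chevE7 F s) = ex chevE7 F s) :
    ∃ ε : F, ε * ε = 1 ∧ ((g : GL chevE7.Idx F) : Matrix chevE7.Idx chevE7.Idx F) =
      Matrix.diagonal (Sum.elim (fun _ => 1) fun s : Fin chevE7.nroots => if cor chevE7 s.val 0 % 2 = 0 then 1 else ε) := by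
  set C := ((g : GL chevE7.Idx F) : Matrix chevE7.Idx chevE7.Idx F) with hC
  have hcart := cartan_fix h2 g hfix
  -- commutation with the adjoint matrices
  have hI : ∀ i : Fin chevE7.rank, C * adR chevE7 F (Sum.inl i) = adR chevE7 F (Sum.inl i) * C := fun i =>
    comm_adR _ (by rw [← rho_eq_mulVec]; exact hcart i)
  have hE : ∀ s (hs : s < 126), cor chevE7 s 0 % 2 = 0 →
      C * adR chevE7 F (Sum.inr ⟨s, hs⟩) = adR chevE7 F (Sum.inr ⟨s, hs⟩) * C := fun s hs h =>
    comm_adR _ (by rw [← rho_eq_mulVec, ← ex_eq hs]; exact hfix s hs h)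
  -- the matrix is diagonal on the root vectors
  have hent : ∀ (j k : chevE7.Idx) (i : Fin chevE7.rank),
      (Sum.elim (fun _ => (0 : F)) (fun s : Fin chevE7.nroots => ((car chevE7 i.val s.val : ℤ) : F)) j) ≠
      (Sum.elim (fun _ => (0 : F)) (fun s : Fin chevE7.nroots => ((car chevE7 i.val s.val : ℤ) : F)) k) → C j k = 0 := by
    intro j k i hne
    have h1 := congrFun (congrFun (hI i) j) k
    rw [adR_inl7, Matrix.mul_diagonal, Matrix.diagonal_mul] at h1
    by_contra h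
    exact hne (mul_right_cancel₀ h (by rw [← h1, mul_comm]))
  have hll : ∀ (j : chevE7.Idx) (i : Fin chevE7.rank), C j (Sum.inl i) = if j = Sum.inl i then 1 else 0 := by
    intro j i
    have h1 := congrFun (hcart i) j
    rw [rho_eq_mulVec, Matrix.mulVec_single_one] at h1
    rw [← Pi.single_apply]
    exact h1
  have hrr : ∀ (j : chevE7.Idx) (s : Fin chevE7.nroots), j ≠ Sum.inr s → C j (Sum.inr s) = 0 := by
    intro j s hj
    rcases j with j | u
    · obtain ⟨i, hi, h⟩ := sep0 h2 s.2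
      exact hent _ _ ⟨i, hi⟩ (by simpa using h.symm)
    · obtain ⟨i, hi, h⟩ := sep h2 u.2 s.2 (fun h => hj (by rw [Fin.ext h]))
      exact hent _ _ ⟨i, hi⟩ (by simpa using h)
  set c : ℕ → F := fun s => if hs : s < 126 then C (Sum.inr ⟨s, hs⟩) (Sum.inr ⟨s, hs⟩) else 0 with hc
  have hdiag : C = Matrix.diagonal (Sum.elim (fun _ => 1) fun s : Fin chevE7.nroots => c s.val) := by
    ext j k
    rcases k with k | k
    · rw [hll, Matrix.diagonal_apply]
      by_cases h : j = Sum.inl k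
      · subst h; simp
      · rw [if_neg h, if_neg h]
    · by_cases h : j = Sum.inr k
      · subst h
        rw [Matrix.diagonal_apply_eq, Sum.elim_inr]
        exact (dif_pos (c := k.val < 126) (t := fun hs => C (Sum.inr ⟨k.val, hs⟩) (Sum.inr ⟨k.val, hs⟩)) (e := fun _ => 0) k.2).symm
      · rw [hrr j k h, Matrix.diagonal_apply_ne _ h]
  have hact : ∀ s < 126, rho chevE7 F g (ex chevE7 F s) = c s • ex chevE7 F s := by
    intro s hs
    rw [rho_eq_mulVec, ← hC, hdiag, ex_eq hs, Matrix.diagonal_mulVec_single, mul_one]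
    rw [← Pi.single_smul, smul_eq_mul, mul_one]; rfl
  -- constant on the odd roots
  have hstep : ∀ e ∈ edges7, c e.2.1 = c 1 → c e.2.2 = c 1 := by
    intro e he h
    obtain ⟨q1, q2, q3, q4, q5, q6, q7⟩ := edges7_ok e he
    have h1 := congrFun (congrFun (hE e.1 q1 q4) (Sum.inr ⟨e.2.2, q3⟩)) (Sum.inr ⟨e.2.1, q2⟩)
    rw [hdiag, Matrix.mul_diagonal, Matrix.diagonal_mul, Sum.elim_inr, Sum.elim_inr] at h1
    have h3 : adR chevE7 F (Sum.inr ⟨e.1, q1⟩) (Sum.inr ⟨e.2.2, q3⟩) (Sum.inr ⟨e.2.1, q2⟩) = ((nn7 e.1 e.2.1 e.2.2 : ℤ) : F) := by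
      rw [adR_def, Matrix.map_apply, adA_inr, coefE_entry chevE7 e.1 1 q1]
      simp only
      have q6' : e.2.1 ≠ chevE7.negIdx.getD e.1 0 := q6
      rw [if_neg q5, if_neg q6']
      simp [nn7]
    rw [h3] at h1
    have h4 : ((nn7 e.1 e.2.1 e.2.2 : ℤ) : F) ≠ 0 := by
      rcases q7 with h | h <;> rw [h] <;> simp
    have h5 : c e.2.2 = c e.2.1 := mul_right_cancel₀ h4 (by rw [h1, mul_comm])
    rw [h5, h]
  have hodd : ∀ s < 126, cor chevE7 s 0 % 2 ≠ 0 → c s = c 1 :=
    reach7_spec edges7 [1] hstep (by simp) reach7_ok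
  refine ⟨c 1, ?_, ?_⟩
  · have h1 : rho chevE7 F g (hv chevE7 F 1) = hv chevE7 F 1 := by
      rw [rho_eq_mulVec, ← hC, hdiag]
      funext j
      rw [Matrix.mulVec_diagonal]
      rcases j with j | j
      · rw [Sum.elim_inl, one_mul]
      · exact mul_zero _
    have h3 : rho chevE7 F g (hv chevE7 F 1) = (c 1 * c 1) • hv chevE7 F 1 := by
      have h4 : chevE7.neg 1 = 124 := by decide +kernel
      have h5 : c 124 = c 1 := hodd 124 (by norm_num) (by decide +kernel)
      rw [← br_neg slacE7 (show 1 < chevE7.nroots by decide), rho_br slacE7.inList, hact 1 (by norm_num), h4,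
        hact 124 (by norm_num), h5, br_smul_left, br_smul_right, smul_smul]
    rw [h1] at h3
    have h4 := congrFun h3 (Sum.inl ⟨0, by decide⟩)
    have h5 : cor chevE7 1 0 = -1 := by decide +kernel
    have h6 : hv chevE7 F 1 (Sum.inl ⟨0, by decide⟩) = -1 := by
      show ((cor chevE7 1 0 : ℤ) : F) = -1
      rw [h5]; simp
    rw [Pi.smul_apply, h6, smul_eq_mul] at h4
    linear_combination h4
  · rw [hdiag]
    congr 2
    funext s
    by_cases h : cor chevE7 s.val 0 % 2 = 0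
    · rw [if_pos h]
      have h1 := hact s.val s.2
      rw [hfix s.val s.2 h] at h1
      have h3 := congrFun h1 (Sum.inr s)
      simpa [ex] using h3.symm
    · rw [if_neg h]
      exact hodd s.val s.2 h

end Ker

end Cfsg.Agent.H249.Co3
end

-- part: H249/Co3/Tor7
section
/-!
# S1920, case B, `E₇(q)`, THETA12: the torus (helper249)

* `E0 F` : the subgroup of `GL` generated by the root subgroups of `A₁D₆`;
* `tor_mem` : a torus element `∏ h_i(c_i)` with `c_0` a square lies in `E0`.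
-/

set_option autoImplicit false
set_option linter.unusedSectionVars false
set_option maxRecDepth 100000

namespace Cfsg.Agent.H249.Co3

open Cfsg Cfsg.Lie Cfsg.Lie.ChevalleyDatum
open Cfsg.Agent.ChevalleyStructure Cfsg.Agent.ChevalleyStructure.Elts Cfsg.Agent.ChevalleyStructure.Columns
  Cfsg.Agent.ChevalleyStructure.StringMem Cfsg.Agent.Nodes.RGDChev
open Cfsg.Agent.H553.KKL
open Matrix

universe u

variable (F : Type u) [Field F]

theorem inE7 : InList chevE7 := slacE7.inList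

/-- the group generated by the root subgroups of `A₁D₆` -/
def E0 : Subgroup (GL chevE7.Idx F) :=
  Subgroup.closure {g | ∃ r < 126, cor chevE7 r 0 % 2 = 0 ∧ ∃ a : F, g = xG inE7 r a}

variable {F}

theorem xG_mem_E0 {r : ℕ} (hr : r < 126) (h : cor chevE7 r 0 % 2 = 0) (a : F) : xG inE7 r a ∈ E0 F :=
  Subgroup.subset_closure ⟨r, hr, h, a, rfl⟩

theorem nG_mem_E0 {r : ℕ} (hr : r < 126) (h : cor chevE7 r 0 % 2 = 0) (a : F) : nG inE7 r a ∈ E0 F := by
  rw [nG_def]
  obtain ⟨h1, h2⟩ := tab7a r hr h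
  exact mul_mem (xG_mem_E0 hr h _) (mul_mem (xG_mem_E0 h1 h2 _) (xG_mem_E0 hr h _))

theorem hG_mem_E0 {r : ℕ} (hr : r < 126) (h : cor chevE7 r 0 % 2 = 0) (a : F) : hG inE7 r a ∈ E0 F := by
  rw [hG_def]
  exact mul_mem (nG_mem_E0 hr h _) (nG_mem_E0 hr h _)

/-- products of the simple `h_i`, `1 ≤ i < n` -/
theorem exists_tail (c : ℕ → F) (hc : ∀ i < 7, c i ≠ 0) (n : ℕ) (hn : n ≤ 7) :
    ∃ t ∈ E0 F, (t : Matrix chevE7.Idx chevE7.Idx F) = Matrix.diagonal (Sum.elim (fun _ => (1 : F))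
      (fun s : Fin chevE7.nroots => ∏ i ∈ (Finset.range n).erase 0, c i ^ chevE7.cartan i s)) := by
  induction n with
  | zero =>
    refine ⟨1, one_mem _, ?_⟩
    rw [Finset.range_zero, Finset.erase_empty, Units.val_one, ← Matrix.diagonal_one]
    congr 1
    funext j
    rcases j with j | j
    · rfl
    · rw [Sum.elim_inr, Finset.prod_empty]
  | succ n ih =>
    obtain ⟨t, ht, e⟩ := ih (by omega)
    rcases Nat.eq_zero_or_pos n with rfl | hn0
    · refine ⟨t, ht, ?_⟩
      rw [e]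
      rfl
    · have h1 := tab7b n (by omega) (by omega)
      refine ⟨t * hG inE7 (chevE7.simple n) (c n), mul_mem ht (hG_mem_E0 h1.1 h1.2 _), ?_⟩
      rw [Units.val_mul, e, coe_hG, hMat_eq inE7 h1.1 (hc n (by omega)), Matrix.diagonal_mul_diagonal]
      congr 1
      funext j
      rcases j with j | j
      · simp only [_root_.Sum.elim_inl, _root_.mul_one]
      · rw [Sum.elim_inr, Sum.elim_inr, Sum.elim_inr, cartanR_simple inE7 (show n < chevE7.rank by
          have : chevE7.rank = 7 := rfl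
          omega)]
        have h2 : (Finset.range (n + 1)).erase 0 = insert n ((Finset.range n).erase 0) := by
          ext x
          simp only [Finset.mem_erase, Finset.mem_range, Finset.mem_insert]
          omega
        rw [h2, Finset.prod_insert (by simp), mul_comm]

/-- **A torus element with `c_0` a square lies in the group generated by the root subgroups of `A₁D₆`.** -/
theorem tor_mem {t : GL chevE7.Idx F} {c : ℕ → F} (hc : ∀ i < 7, c i ≠ 0)
    (ht : (t : Matrix chevE7.Idx chevE7.Idx F) = Matrix.diagonal (Sum.elim (fun _ => (1 : F))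
        (fun s : Fin chevE7.nroots => ∏ i ∈ Finset.range chevE7.rank, c i ^ chevE7.cartan i s)))
    (h0 : IsSquare (c 0)) : t ∈ E0 F := by
  obtain ⟨l, hl⟩ := h0
  have hl0 : l ≠ 0 := by
    rintro rfl
    exact hc 0 (by norm_num) (by rw [hl, mul_zero])
  obtain ⟨t', ht', e⟩ := exists_tail (fun i => c i * l ^ (-(cor chevE7 125 i))) (fun i hi => mul_ne_zero (hc i hi) (zpow_ne_zero _ hl0)) 7 le_rfl
  have hb : cor chevE7 125 0 % 2 = 0 := by rw [tab7c]; rfl
  have key : t = hG inE7 125 l * t' := by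
    apply Units.ext
    rw [Units.val_mul, e, ht, coe_hG, hMat_eq inE7 (show 125 < chevE7.nroots by decide) hl0, Matrix.diagonal_mul_diagonal]
    congr 1
    funext j
    rcases j with j | j
    · simp only [_root_.Sum.elim_inl, _root_.zpow_neg, _root_.mul_one]
    · rw [Sum.elim_inr, Sum.elim_inr, Sum.elim_inr]
      have hr : chevE7.rank = 7 := rfl
      have h1 : Cfsg.Agent.ChevalleyStructure.Strings.cartanR chevE7 125 j = ∑ i ∈ Finset.range 7, cor chevE7 125 i * chevE7.cartan i j := rfl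
      rw [hr, h1, ← Finset.mul_prod_erase (Finset.range 7) _ (Finset.mem_range.2 (by norm_num : 0 < 7)),
        ← Finset.add_sum_erase (Finset.range 7) _ (Finset.mem_range.2 (by norm_num : 0 < 7)), tab7c, zpow_add₀ hl0]
      have h2 : ∀ (S : Finset ℕ) (f : ℕ → ℤ), l ^ (∑ i ∈ S, f i) = ∏ i ∈ S, l ^ f i := by
        intro S f
        induction S using Finset.induction_on with
        | empty => simp
        | insert a S ha ih => rw [Finset.sum_insert ha, Finset.prod_insert ha, zpow_add₀ hl0, ih]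
      rw [h2, mul_assoc, ← Finset.prod_mul_distrib, hl]
      congr 1
      · rw [_root_.zpow_mul]
        congr 1
        rw [zpow_ofNat, pow_two]
      · refine Finset.prod_congr rfl fun i _ => ?_
        rw [mul_zpow, ← _root_.zpow_mul, mul_comm (c i ^ _), ← mul_assoc, ← zpow_add₀ hl0]
        have : cor chevE7 125 i * chevE7.cartan i j + -cor chevE7 125 i * chevE7.cartan i j = 0 := by ring
        rw [this, zpow_zero, one_mul]
  rw [key]
  exact mul_mem (hG_mem_E0 (by norm_num) hb _) ht'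

end Cfsg.Agent.H249.Co3
end

-- part: H249/Co3/Om
section
/-!
# S1920, case B, `E₇(q)`, THETA12: the group `Ω₁₂⁺(F)` (helper249)

`F` finite of odd characteristic, `Q = plusForm 6 F`, `B` its polar form.

* `gen_le` : a subgroup of `GL(V)` containing the root elements of the standard frame contains `E Q` (all `m ≥ 3`);
* `mem_E_iff` : `E Q` is the joint kernel of the determinant and of the spinor sign (all `m ≥ 3`);
* `signs` : the sign changes on an orthogonal basis which lie in `E Q`.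
-/

set_option autoImplicit false
set_option linter.unusedSectionVars false

open QuadraticMap Module
open Cfsg.Agent.LieClassical.OrthCore Cfsg.Agent.LieClassical.OrthTrans Cfsg.Agent.LieClassical.OrthForms
  Cfsg.Agent.ClassicalGeometry.OrthAutBasic
  Cfsg.Agent.LieClassical.OrthFinite Cfsg.Agent.H887.SiegelMethod
  Cfsg.Agent.ClassicalGeometry.OmegaIndex Cfsg.Agent.ClassicalGeometry.SpinorSign
  Cfsg.Agent.ClassicalGeometry.Reflection Cfsg.Agent.ClassicalGeometry.Universal

namespace Cfsg.Agent.H249.Co3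

section Gen

variable {m : ℕ} {F : Type*} [Field F]

/-- the basis vectors -/
def ee (F : Type*) [Field F] {m : ℕ} (a : Fin m ⊕ Fin m) : Fin m ⊕ Fin m → F := Pi.single a 1

theorem polar_ee (a : Fin m ⊕ Fin m) (v : Fin m ⊕ Fin m → F) : polar (plusForm m F) (ee F a) v = v a.swap := by
  rw [polar_plusForm]
  rcases a with a | a
  · simp only [ee, Sum.swap_inl]
    rw [Finset.sum_eq_single a]
    · simp
    · intro b _ hb
      simp [hb]
    · intro h
      exact absurd (Finset.mem_univ a) h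
  · simp only [ee, Sum.swap_inr]
    rw [Finset.sum_eq_single a]
    · simp
    · intro b _ hb
      simp [hb]
    · intro h
      exact absurd (Finset.mem_univ a) h

theorem Q_ee (a : Fin m ⊕ Fin m) : plusForm m F (ee F a) = 0 := by
  rw [coe_plusForm, quadFormPlus_apply]
  refine Finset.sum_eq_zero fun i _ => ?_
  rcases a with a | a <;> simp [ee]

theorem ee_self (a : Fin m ⊕ Fin m) : ee F a a = 1 := Pi.single_eq_same _ _

theorem ee_ne {a b : Fin m ⊕ Fin m} (h : b ≠ a) : ee F a b = 0 := Pi.single_eq_of_ne h _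

/-- a vector is the sum of its coordinates -/
theorem eq_sum_ee (v : Fin m ⊕ Fin m → F) : v = ∑ a, v a • ee F a := by
  funext i
  rw [Finset.sum_apply, Finset.sum_eq_single i]
  · rw [Pi.smul_apply, ee_self, smul_eq_mul, mul_one]
  · intro b _ hb
    rw [Pi.smul_apply, ee_ne (Ne.symm hb), smul_zero]
  · intro h
    exact absurd (Finset.mem_univ i) h

/-- the root element: `v ↦ v + t v(a*) e_b - t v(b*) e_a` -/
theorem T_root {a b : Fin m ⊕ Fin m} (h : b ≠ a.swap) (t : F) (v : Fin m ⊕ Fin m → F) :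
    T (plusForm m F) (ee F a) (t • ee F b) v = v + (t * v a.swap) • ee F b - (t * v b.swap) • ee F a := by
  have h1 : polar (plusForm m F) (ee F a) (t • ee F b) = 0 := by
    rw [polar_smul_right, polar_ee, ee_ne (Ne.symm h), smul_zero]
  rw [T_apply ((by exact Q_ee a)) h1, QuadraticMap.map_smul, Q_ee, smul_zero, zero_mul, zero_smul, sub_zero, polar_smul_left, polar_ee,
    polar_ee, smul_smul, smul_eq_mul, mul_comm (v a.swap) t]

/-- **Generation**: a group containing all the root elements of the standard frame contains `E Q`. -/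
theorem gen_le [Finite F] (hm : 3 ≤ m) (H : Subgroup ((Fin m ⊕ Fin m → F) ≃ₗ[F] (Fin m ⊕ Fin m → F)))
    (h : ∀ a b : Fin m ⊕ Fin m, b ≠ a → b ≠ a.swap → ∀ t : F, T (plusForm m F) (ee F a) (t • ee F b) ∈ H) :
    E (plusForm m F) ≤ H := by
  have hG : Good (plusForm m F) := good_of_finite (nondeg_plusForm m F) (by
    rw [Module.finrank_fintype_fun_eq_card, Fintype.card_sum, Fintype.card_fin]; omega)
  have key : ∀ a : Fin m ⊕ Fin m, ∀ x, polar (plusForm m F) (ee F a) x = 0 → x ∈ Ts (plusForm m F) H (ee F a) := by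
    intro a x hx
    rw [eq_sum_ee x]
    refine Submodule.sum_mem _ fun b _ => ?_
    by_cases h1 : b = a
    · subst h1
      exact Submodule.smul_mem _ _ (self_mem_Ts (Q_ee b))
    by_cases h2 : b = a.swap
    · subst h2
      rw [polar_ee] at hx
      rw [hx, zero_smul]
      exact Submodule.zero_mem _
    refine Submodule.smul_mem _ _ ⟨by rw [polar_ee, ee_ne (Ne.symm h2)], fun c => h a b h1 h2 c⟩
  have i0 : Fin m := ⟨0, by omega⟩
  refine E_le_of_Ts hG (Q_ee (Sum.inl i0)) (Q_ee (Sum.inr i0)) ?_ (key _) (key _)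
  rw [polar_ee, Sum.swap_inl, ee_self]
  exact one_ne_zero

/-- the coordinate root matrix: `1 + t (E_{l k} - E_{k* l*})` -/
def rt (k l : Fin m ⊕ Fin m) (t : F) : Matrix (Fin m ⊕ Fin m) (Fin m ⊕ Fin m) F :=
  1 + t • (Matrix.single l k 1 - Matrix.single k.swap l.swap 1)

theorem rt_mulVec {k l : Fin m ⊕ Fin m} (t : F) (v : Fin m ⊕ Fin m → F) :
    (rt k l t).mulVec v = v + (t * v k) • ee F l - (t * v l.swap) • ee F k.swap := by
  rw [rt, Matrix.add_mulVec, Matrix.one_mulVec, Matrix.smul_mulVec, Matrix.sub_mulVec, Matrix.single_mulVec,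
    Matrix.single_mulVec]
  funext i
  simp only [Pi.add_apply, Pi.sub_apply, Pi.smul_apply, smul_eq_mul, ee, Function.update_apply, Pi.single_apply, Pi.zero_apply]
  split_ifs <;> ring

theorem T_eq_rt {k l : Fin m ⊕ Fin m} (h : l ≠ k) (t : F) (v : Fin m ⊕ Fin m → F) :
    T (plusForm m F) (ee F k.swap) (t • ee F l) v = (rt k l t).mulVec v := by
  rw [T_root (by rwa [Sum.swap_swap]), rt_mulVec, Sum.swap_swap]

end Gen


section Sp

variable {ι : Type} [Fintype ι] [DecidableEq ι] {F : Type*} [Field F] [Finite F] {Q : QuadraticForm F (ι → F)}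

/-- **Membership in `E Q`.** -/
theorem mem_E_iff (h2 : (2 : F) ≠ 0) (hG : Good Q) (hQ : (polarBilin Q).Nondegenerate) (hn : 2 ≤ Fintype.card ι)
    (g : Cfsg.isometryGroup F ⇑Q) :
    isometryHom Q g ∈ E Q ↔
      ((g : Matrix.GeneralLinearGroup ι F) : Matrix ι ι F).det = 1 ∧ spinorSign (⇑Q) 1 g = 1 := by
  rw [← mem_Omega_iff h2 Q hQ hn one_ne_zero, ← hG.commutator_eq_E, ← map_Omega]
  constructor
  · rintro ⟨x, hx, e⟩
    rwa [← isometryHom_injective Q e]
  · intro h
    exact ⟨g, h, rfl⟩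

/-- a product of nonzero elements of a finite field is a square iff the number of nonsquares is even -/
theorem isSquare_prod_iff (h2 : (2 : F) ≠ 0) {κ : Type*} (a : κ → F) (ha : ∀ j, a j ≠ 0) (J : Finset κ)
    [DecidablePred fun j => ¬ IsSquare (a j)] :
    IsSquare (∏ j ∈ J, a j) ↔ Even (J.filter fun j => ¬ IsSquare (a j)).card := by
  classical
  induction J using Finset.induction_on with
  | empty => simp only [_root_.Finset.prod_empty, _root_.IsSquare.one, _root_.Finset.filter_empty, _root_.Finset.card_empty, _root_.Even.zero]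
  | insert b J hb ih =>
    rw [Finset.prod_insert hb, isSquare_mul_iff h2 (ha b) (Finset.prod_ne_zero_iff.2 fun j _ => ha j), ih,
      Finset.filter_insert]
    by_cases h : IsSquare (a b)
    · rw [if_neg (not_not.2 h)]
      itauto
    · rw [if_pos h, Finset.card_insert_of_notMem (fun h' => hb (Finset.mem_of_mem_filter b h')), Nat.even_add_one]
      itauto

open Classical in
/-- the sign changes on an orthogonal basis -/
theorem exists_sgn (h2 : (2 : F) ≠ 0) {κ : Type*} (v : κ → ι → F)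
    (hv : ∀ i j, i ≠ j → polar Q (v i) (v j) = 0) (hv0 : ∀ j, Q (v j) ≠ 0) (J : Finset κ) :
    ∃ g : Cfsg.isometryGroup F ⇑Q,
      (∀ i, ((g : Matrix.GeneralLinearGroup ι F) : Matrix ι ι F).mulVec (v i) = if i ∈ J then - v i else v i) ∧
      ((g : Matrix.GeneralLinearGroup ι F) : Matrix ι ι F).det = (-1) ^ J.card ∧
      spinorSign (⇑Q) 1 g = (-1) ^ (J.filter fun j => IsSquare (Q (v j))).card := by
  induction J using Finset.induction_on with
  | empty =>
    refine ⟨1, fun i => ?_, ?_, ?_⟩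
    · simp only [_root_.OneMemClass.coe_one, _root_.Units.val_one, _root_.Matrix.one_mulVec, _root_.Finset.notMem_empty, ↓ _root_.reduceIte]
    · simp only [_root_.OneMemClass.coe_one, _root_.Units.val_one, _root_.Matrix.det_one, _root_.Finset.card_empty, _root_.pow_zero]
    · simp only [_root_.map_one, _root_.Finset.filter_empty, _root_.Finset.card_empty, _root_.pow_zero]
  | insert b J hb ih =>
    obtain ⟨g, h1, h3, h4⟩ := ih
    refine ⟨reflIso Q (v b) (hv0 b) * g, fun i => ?_, ?_, ?_⟩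
    · rw [coe_mul_mulVec, coe_reflIso, h1]
      by_cases hib : i = b
      · subst hib
        rw [if_neg hb, if_pos (Finset.mem_insert_self _ _), reflectionMatrix_mulVec_self Q _ (hv0 i)]
      · have e : (Cfsg.reflectionMatrix (⇑Q) (v b)).mulVec (v i) = v i :=
          reflectionMatrix_mulVec_of_polar_eq_zero Q _ _ (hv b i (Ne.symm hib))
        by_cases hiJ : i ∈ J
        · rw [if_pos hiJ, if_pos (Finset.mem_insert_of_mem hiJ), Matrix.mulVec_neg, e]
        · rw [if_neg hiJ, if_neg (by rw [Finset.mem_insert]; (clear * - κ b J i hib hiJ; tauto)), e]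
    · rw [Subgroup.coe_mul, Units.val_mul, Matrix.det_mul, h3, coe_reflIso, det_reflectionMatrix Q _ (hv0 b),
        Finset.card_insert_of_notMem hb, pow_succ']
    · rw [map_mul, h4, spinorSign_reflIso h2 Q one_ne_zero (v b) (hv0 b), one_mul, Finset.filter_insert]
      by_cases h : IsSquare (Q (v b))
      · rw [if_pos h, if_pos h, Finset.card_insert_of_notMem (fun h' => hb (Finset.mem_of_mem_filter b h')), pow_succ']
      · rw [if_neg h, if_neg h, one_mul]

/-- **Sign changes in `Ω`.** -/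
theorem sgn_mem_iff (h2 : (2 : F) ≠ 0) (hG : Good Q) (hQ : (polarBilin Q).Nondegenerate) (hn : 2 ≤ Fintype.card ι)
    {κ : Type*} [Fintype κ] (v : Basis κ F (ι → F)) (hv : ∀ i j, i ≠ j → polar Q (v i) (v j) = 0) (hv0 : ∀ j, Q (v j) ≠ 0)
    (J : Finset κ) {g : (ι → F) ≃ₗ[F] (ι → F)} (hg : ∀ i, (i ∈ J → g (v i) = - v i) ∧ (i ∉ J → g (v i) = v i)) :
    g ∈ E Q ↔ Even J.card ∧ IsSquare (∏ j ∈ J, polar Q (v j) (v j)) := by
  classical
  obtain ⟨g', h1, h3, h4⟩ := exists_sgn h2 v hv hv0 J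
  have e : g = isometryHom Q g' := by
    apply LinearEquiv.toLinearMap_injective
    refine v.ext fun i => ?_
    rw [LinearEquiv.coe_coe, LinearEquiv.coe_coe, isometryHom_apply, h1]
    by_cases h : i ∈ J
    · rw [if_pos h, (hg i).1 h]
    · rw [if_neg h, (hg i).2 h]
  rw [e, mem_E_iff h2 hG hQ hn, h3, h4]
  have hne : (-1 : F) ≠ 1 := fun h => h2 (by linear_combination -h)
  have e1 : ((-1 : F) ^ J.card = 1) ↔ Even J.card := by
    rcases Nat.even_or_odd J.card with h | h
    · rw [h.neg_one_pow]; (clear * - h; tauto)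
    · rw [h.neg_one_pow]
      have := Nat.not_even_iff_odd.2 h
      (clear * - hne this; tauto)
  have e2 : ∀ n : ℕ, ((-1 : ℤˣ) ^ n = 1) ↔ Even n := by
    intro n
    rcases Nat.even_or_odd n with h | h
    · rw [h.neg_one_pow]; (clear * - h; tauto)
    · rw [h.neg_one_pow]
      have := Nat.not_even_iff_odd.2 h
      have h5 : (-1 : ℤˣ) ≠ 1 := by decide
      itauto
  rw [e1, e2]
  refine and_congr_right fun hJ => ?_
  have h0 : ∀ j, polar Q (v j) (v j) ≠ 0 := fun j => by
    rw [Cfsg.Agent.LieClassical.OrthCore.polar_self']; exact mul_ne_zero h2 (hv0 j)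
  have e3 : (∏ j ∈ J, polar Q (v j) (v j)) = 2 ^ J.card * ∏ j ∈ J, Q (v j) := by
    rw [← Finset.prod_const, ← Finset.prod_mul_distrib]
    exact Finset.prod_congr rfl fun j _ => Cfsg.Agent.LieClassical.OrthCore.polar_self' _
  have e4 : IsSquare ((2 : F) ^ J.card) := by
    obtain ⟨k, hk⟩ := hJ
    exact ⟨2 ^ k, by rw [hk, pow_add]⟩
  rw [e3, isSquare_mul_iff h2 (pow_ne_zero _ h2) (Finset.prod_ne_zero_iff.2 fun j _ => hv0 j),
    isSquare_prod_iff h2 _ hv0]
  have e5 : (J.filter fun j => IsSquare (Q (v j))).card + (J.filter fun j => ¬ IsSquare (Q (v j))).card = J.card :=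
    Finset.card_filter_add_card_filter_not _
  rw [← e5, Nat.even_add] at hJ
  itauto

end Sp

section Twelve

variable (F : Type*) [Field F]

/-- the natural module of `Ω₁₂⁺(F)` -/
abbrev VV : Type _ := Fin 6 ⊕ Fin 6 → F

/-- the bilinear form on the natural module -/
def BB : LinearMap.BilinForm F (VV F) := polarBilin (plusForm 6 F)

/-- `Ω₁₂⁺(F)` as a set of endomorphisms -/
def Om : Set (Module.End F (VV F)) := {M | ∃ g ∈ E (plusForm 6 F), ((g : VV F ≃ₗ[F] VV F) : VV F →ₗ[F] VV F) = M}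

variable {F}

theorem BB_apply (u v : VV F) : BB F u v = polar (plusForm 6 F) u v := rfl

theorem BB_symm (u v : VV F) : BB F u v = BB F v u := polar_comm _ _ _

theorem BB_nd (u : VV F) (h : ∀ v, BB F u v = 0) : u = 0 := nondeg_plusForm 6 F u h

theorem nondegenerate (m : ℕ) : (polarBilin (plusForm m F)).Nondegenerate :=
  ⟨fun u h => nondeg_plusForm m F u h, fun u h => nondeg_plusForm m F u fun v => by rw [polar_comm]; exact h v⟩

theorem finrank_VV : finrank F (VV F) = 12 := by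
  rw [Module.finrank_fintype_fun_eq_card, Fintype.card_sum, Fintype.card_fin]

theorem good [Finite F] : Good (plusForm 6 F) := good_of_finite (nondeg_plusForm 6 F) (by rw [finrank_VV]; omega)

theorem om_iso {M : Module.End F (VV F)} (hM : M ∈ Om F) (u v : VV F) : BB F (M u) (M v) = BB F u v := by
  obtain ⟨g, hg, rfl⟩ := hM
  exact polar_map (E_le_O hg) u v

open Cfsg.Agent.H627.Co3 in
theorem signs [Finite F] (h2 : (2 : F) ≠ 0) (v : Basis (Fin 12) F (VV F)) (hv : ∀ i j, i ≠ j → BB F (v i) (v j) = 0)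
    (J : Finset (Fin 12)) : sgn v J ∈ Om F ↔ Even J.card ∧ IsSquare (∏ j ∈ J, BB F (v j) (v j)) := by
  classical
  have hv0 : ∀ j, plusForm 6 F (v j) ≠ 0 := by
    intro j h0
    refine v.ne_zero j (BB_nd _ fun w => ?_)
    have key : (BB F (v j)) = 0 := by
      refine v.ext fun i => ?_
      rw [LinearMap.zero_apply]
      by_cases h : j = i
      · subst h
        rw [BB_apply, Cfsg.Agent.LieClassical.OrthCore.polar_self', h0, mul_zero]
      · exact hv j i h
    rw [key, LinearMap.zero_apply]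
  -- the sign change as an automorphism
  have hsq : ∀ x, sgn v J (sgn v J x) = x := by
    intro x
    have e : (sgn v J) ∘ₗ (sgn v J) = LinearMap.id := by
      refine v.ext fun i => ?_
      rw [LinearMap.comp_apply, LinearMap.id_apply, sgn, Basis.constr_basis]
      split_ifs with h
      · rw [map_neg, Basis.constr_basis, if_pos h, neg_neg]
      · rw [Basis.constr_basis, if_neg h]
    exact LinearMap.congr_fun e x
  let g : VV F ≃ₗ[F] VV F := LinearEquiv.ofInvolutive (sgn v J) hsq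
  have hg : ∀ x, g x = sgn v J x := fun _ => rfl
  have h1 : sgn v J ∈ Om F ↔ g ∈ E (plusForm 6 F) := by
    constructor
    · rintro ⟨g', hg', e⟩
      have : g = g' := LinearEquiv.toLinearMap_injective (by rw [e]; exact LinearMap.ext hg)
      rw [this]; exact hg'
    · intro h
      exact ⟨g, h, LinearMap.ext hg⟩
  rw [h1]
  refine sgn_mem_iff h2 good (nondegenerate 6) (by rw [Fintype.card_sum, Fintype.card_fin]; omega) v hv hv0 J fun i => ⟨fun h => ?_, fun h => ?_⟩
  · rw [hg, sgn, Basis.constr_basis, if_pos h]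
  · rw [hg, sgn, Basis.constr_basis, if_neg h]

end Twelve

end Cfsg.Agent.H249.Co3
end

-- part: H249/Co3/Uniq
section
/-!
# S1920, case B, `E₇(q)`, THETA12: commutants and similitudes (helper249)

* `scalar_of_comm` : a matrix commuting with all `E_{l k} - E_{k* l*}` is scalar;
* `scalar_of_comm2` : the same for `2 × 2`;
* `E_conj_sim` : similitudes normalise `E Q`.
-/

set_option autoImplicit false
set_option linter.unusedSectionVars false

open QuadraticMap Module
open Cfsg.Agent.LieClassical.OrthCore Cfsg.Agent.LieClassical.OrthTrans Cfsg.Agent.LieClassical.OrthForms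
  Cfsg.Agent.ClassicalGeometry.OrthAutBasic
  Cfsg.Agent.LieClassical.OrthFinite Cfsg.Agent.H887.SiegelMethod

namespace Cfsg.Agent.H249.Co3

section Comm

variable {m : ℕ} {F : Type*} [Field F]

/-- the root vector of the orthogonal Lie algebra -/
def EE (F : Type*) [Field F] {m : ℕ} (k l : Fin m ⊕ Fin m) : Matrix (Fin m ⊕ Fin m) (Fin m ⊕ Fin m) F :=
  Matrix.single l k 1 - Matrix.single k.swap l.swap 1

/-- the basic relation -/
theorem comm_EE {X : Matrix (Fin m ⊕ Fin m) (Fin m ⊕ Fin m) F} {k l : Fin m ⊕ Fin m} (hlk : l ≠ k) (hlk' : l ≠ k.swap)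
    (h : X * EE F k l = EE F k l * X) (i : Fin m ⊕ Fin m) (hi : i ≠ k.swap) : X i l = if i = l then X k k else 0 := by
  have hkl' : k ≠ l.swap := by
    intro h'
    apply hlk'
    rw [h', Sum.swap_swap]
  have h1 := congrFun (congrFun h i) k
  rw [EE, mul_sub, sub_mul, Matrix.sub_apply, Matrix.sub_apply, Matrix.mul_single_apply_same, mul_one,
    Matrix.mul_single_apply_of_ne (hbj := hkl'), sub_zero] at h1
  rw [h1]
  have h2 : (Matrix.single k.swap l.swap (1 : F) * X) i k = 0 := Matrix.single_mul_apply_of_ne (h := hi) ..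
  rw [h2, sub_zero]
  by_cases hil : i = l
  · subst hil
    rw [if_pos rfl, Matrix.single_mul_apply_same, one_mul]
  · rw [if_neg hil]
    exact Matrix.single_mul_apply_of_ne (h := hil) ..

/-- **The commutant of the orthogonal Lie algebra.** -/
theorem scalar_of_comm (hm : 2 ≤ m) {X : Matrix (Fin m ⊕ Fin m) (Fin m ⊕ Fin m) F}
    (h : ∀ k l : Fin m ⊕ Fin m, l ≠ k → l ≠ k.swap → X * EE F k l = EE F k l * X) : ∃ c : F, X = c • 1 := by
  classical
  have hcard : 4 ≤ Fintype.card (Fin m ⊕ Fin m) := by rw [Fintype.card_sum, Fintype.card_fin]; omega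
  have hex : ∀ a b c : Fin m ⊕ Fin m, ∃ k, k ≠ a ∧ k ≠ b ∧ k ≠ c := by
    intro a b c
    by_contra hc
    push Not at hc
    have h1 : (Finset.univ : Finset (Fin m ⊕ Fin m)) ⊆ {a, b, c} := by
      intro k _
      simp only [Finset.mem_insert, Finset.mem_singleton]
      by_contra h'
      push Not at h'
      exact h'.2.2 (hc k h'.1 h'.2.1)
    have h2 := (Finset.card_le_card h1).trans (Finset.card_le_three)
    rw [Finset.card_univ] at h2
    omega
  have hoff : ∀ i l, i ≠ l → X i l = 0 := by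
    intro i l hil
    obtain ⟨k, h1, h2, h3⟩ := hex l l.swap i.swap
    have h4 := comm_EE (Ne.symm h1) (fun h' => h2 (by rw [h', Sum.swap_swap])) (h k l (Ne.symm h1)
      (fun h' => h2 (by rw [h', Sum.swap_swap]))) i (fun h' => h3 (by rw [h', Sum.swap_swap]))
    rw [h4, if_neg hil]
  have hdg : ∀ k l, l ≠ k → l ≠ k.swap → X l l = X k k := by
    intro k l h1 h2
    have h4 := comm_EE h1 h2 (h k l h1 h2) l h2
    rw [h4, if_pos rfl]
  have hdg' : ∀ k l, X l l = X k k := by
    intro k l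
    by_cases h1 : l = k
    · rw [h1]
    by_cases h2 : l = k.swap
    · obtain ⟨j, h3, h4, -⟩ := hex k k.swap k
      rw [← hdg k j h3 h4]
      refine hdg j l (fun h' => h4 (h'.symm.trans h2)) (fun h' => ?_)
      apply h3
      rw [← Sum.swap_swap j, ← h', h2, Sum.swap_swap]
    · exact hdg k l h1 h2
  have i0 : Fin m ⊕ Fin m := Sum.inl ⟨0, by omega⟩
  refine ⟨X i0 i0, ?_⟩
  ext i j
  rw [Matrix.smul_apply, Matrix.one_apply]
  by_cases hij : i = j
  · subst hij
    rw [if_pos rfl, smul_eq_mul, mul_one]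
    exact hdg' i0 i
  · rw [if_neg hij, smul_zero]
    exact hoff i j hij

/-- the commutant of `sl₂` -/
theorem scalar_of_comm2 {X : Matrix (Fin 2) (Fin 2) F} (h1 : X * Matrix.single 0 1 1 = Matrix.single 0 1 1 * X)
    (h2 : X * Matrix.single 1 0 1 = Matrix.single 1 0 1 * X) : ∃ c : F, X = c • 1 := by
  refine ⟨X 0 0, ?_⟩
  have a1 : X 1 0 = 0 := by
    have := congrFun (congrFun h1 0) 0
    simpa only [Matrix.mul_apply, Matrix.single_apply, _root_.Fin.isValue, _root_.true_and, _root_.ite_mul, _root_.one_mul, _root_.MulZeroClass.zero_mul, _root_.Finset.sum_ite_eq, _root_.Finset.mem_univ, ↓ _root_.reduceIte, _root_.one_ne_zero, _root_.and_false, _root_.not_false_eq_true, _root_.Matrix.single_apply_of_ne, _root_.MulZeroClass.mul_zero, _root_.Finset.sum_const_zero] using this.symm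
  have a2 : X 0 0 = X 1 1 := by
    have := congrFun (congrFun h1 0) 1
    simpa only [Matrix.mul_apply, Matrix.single_apply, _root_.Fin.isValue, _root_.and_true, _root_.mul_ite, _root_.mul_one, _root_.MulZeroClass.mul_zero, _root_.Finset.sum_ite_eq, _root_.Finset.mem_univ, ↓ _root_.reduceIte, _root_.true_and, _root_.ite_mul, _root_.one_mul, _root_.MulZeroClass.zero_mul] using this
  have a3 : X 0 1 = 0 := by
    have := congrFun (congrFun h2 0) 0
    simpa only [Matrix.mul_apply, Matrix.single_apply, _root_.Fin.isValue, _root_.and_true, _root_.mul_ite, _root_.mul_one, _root_.MulZeroClass.mul_zero, _root_.Finset.sum_ite_eq, _root_.Finset.mem_univ, ↓ _root_.reduceIte, _root_.one_ne_zero, _root_.false_and, _root_.not_false_eq_true, _root_.Matrix.single_apply_of_ne, _root_.MulZeroClass.zero_mul, _root_.Finset.sum_const_zero] using this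
  ext i j
  rw [Matrix.smul_apply, smul_eq_mul]
  fin_cases i <;> fin_cases j
  · show X 0 0 = X 0 0 * (1 : Matrix (Fin 2) (Fin 2) F) 0 0
    rw [Matrix.one_apply_eq, mul_one]
  · show X 0 1 = X 0 0 * (1 : Matrix (Fin 2) (Fin 2) F) 0 1
    rw [Matrix.one_apply_ne (by decide), mul_zero, a3]
  · show X 1 0 = X 0 0 * (1 : Matrix (Fin 2) (Fin 2) F) 1 0
    rw [Matrix.one_apply_ne (by decide), mul_zero, a1]
  · show X 1 1 = X 0 0 * (1 : Matrix (Fin 2) (Fin 2) F) 1 1
    rw [Matrix.one_apply_eq, mul_one, a2]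

end Comm

section Sim

variable {F V : Type*} [Field F] [AddCommGroup V] [Module F V] {Q : QuadraticForm F V}

theorem polar_sim {S : V ≃ₗ[F] V} {μ : F} (hS : ∀ v, Q (S v) = μ * Q v) (u v : V) : polar Q (S u) (S v) = μ * polar Q u v := by
  unfold QuadraticMap.polar
  rw [← map_add, hS, hS, hS]; ring

theorem T_conj_sim {S : V ≃ₗ[F] V} {μ : F} (hμ : μ ≠ 0) (hS : ∀ v, Q (S v) = μ * Q v) {u w : V} (hu : Q u = 0)
    (hw : polar Q u w = 0) : S * T Q u w * S⁻¹ = T Q (S u) (μ⁻¹ • S w) := by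
  have h1 : Q (S u) = 0 := by rw [hS, hu, mul_zero]
  have h2 : polar Q (S u) (μ⁻¹ • S w) = 0 := by rw [polar_smul_right, polar_sim hS, hw, mul_zero, smul_zero]
  ext v
  obtain ⟨x, rfl⟩ := S.surjective v
  have e1 : (S * T Q u w * S⁻¹) (S x) = S (T Q u w x) := by
    show S (T Q u w (S.symm (S x))) = _
    rw [LinearEquiv.symm_apply_apply]
  rw [e1, T_apply hu hw, T_apply h1 h2, map_sub, map_sub, map_add, map_smul, map_smul, map_smul, polar_sim hS,
    polar_smul_left, polar_sim hS, QuadraticMap.map_smul, hS, smul_smul, smul_eq_mul, smul_eq_mul]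
  congr 1
  · congr 1
    · congr 2
      field_simp
    · congr 1
      field_simp
  · congr 1
    field_simp

/-- **Similitudes normalise `E Q`.** -/
theorem E_conj_sim {S : V ≃ₗ[F] V} {μ : F} (hμ : μ ≠ 0) (hS : ∀ v, Q (S v) = μ * Q v) {g : V ≃ₗ[F] V} (hg : g ∈ E Q) :
    S * g * S⁻¹ ∈ E Q := by
  unfold E at hg
  induction hg using Subgroup.closure_induction with
  | mem x hx =>
    obtain ⟨u, w, hu, hw, rfl⟩ := hx
    rw [← T_eq hu hw, T_conj_sim hμ hS hu hw]
    exact T_mem_E _ _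
  | one => rw [mul_one, mul_inv_cancel]; exact (E Q).one_mem
  | mul x y _ _ hx hy =>
    have : S * (x * y) * S⁻¹ = (S * x * S⁻¹) * (S * y * S⁻¹) := by group
    rw [this]
    exact (E Q).mul_mem hx hy
  | inv x _ hx =>
    have : S * x⁻¹ * S⁻¹ = (S * x * S⁻¹)⁻¹ := by group
    rw [this]
    exact (E Q).inv_mem hx

end Sim

end Cfsg.Agent.H249.Co3
end

-- part: H249/Co3/Asm
section
/-!
# S1920, case B, `E₇(q)`, THETA12: abstract assembly (helper249)

`RD z Rel` : the relation `Rel g a M` (matrices), `Gn Rel T X` : generation of the centraliser of `z`.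
`omT`, `omS`, `ex` : the fields of `E7I`.
-/

set_option autoImplicit false
set_option linter.unusedSectionVars false

open QuadraticMap Module
open Cfsg.Agent.LieClassical.OrthCore Cfsg.Agent.LieClassical.OrthTrans Cfsg.Agent.LieClassical.OrthForms
  Cfsg.Agent.ClassicalGeometry.OrthAutBasic
  Cfsg.Agent.LieClassical.OrthFinite Cfsg.Agent.H887.SiegelMethod

namespace Cfsg.Agent.H249.Co3

/-- 12 × 12 matrices -/
abbrev M12 (F : Type*) : Type _ := Matrix (Fin 6 ⊕ Fin 6) (Fin 6 ⊕ Fin 6) F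

/-- `Ω₁₂⁺(F)` as matrices -/
def OmM (F : Type*) [Field F] : Set (M12 F) := {M | ∃ g ∈ E (plusForm 6 F), ∀ v, M.mulVec v = g v}

section OmM

variable {F : Type*} [Field F]

theorem omM_one : (1 : M12 F) ∈ OmM F := ⟨1, (E _).one_mem, fun v => by rw [Matrix.one_mulVec]; rfl⟩

theorem omM_mul {M N : M12 F} (hM : M ∈ OmM F) (hN : N ∈ OmM F) : M * N ∈ OmM F := by
  obtain ⟨g, hg, h1⟩ := hM
  obtain ⟨h, hh, h2⟩ := hN
  exact ⟨g * h, (E _).mul_mem hg hh, fun v => by rw [← Matrix.mulVec_mulVec, h2, h1]; rfl⟩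

theorem omM_inv {M : M12 F} (hM : M ∈ OmM F) : ∃ N ∈ OmM F, M * N = 1 ∧ N * M = 1 := by
  obtain ⟨g, hg, h1⟩ := hM
  refine ⟨LinearMap.toMatrix' (g⁻¹ : (Fin 6 ⊕ Fin 6 → F) ≃ₗ[F] (Fin 6 ⊕ Fin 6 → F)).toLinearMap, ⟨g⁻¹, (E _).inv_mem hg, fun v => ?_⟩, ?_, ?_⟩
  · rw [← Matrix.toLin'_apply, Matrix.toLin'_toMatrix']; rfl
  · apply Matrix.mulVec_injective
    funext v
    show (M * _).mulVec v = (1 : M12 F).mulVec v
    rw [← Matrix.mulVec_mulVec, ← Matrix.toLin'_apply (LinearMap.toMatrix' _), Matrix.toLin'_toMatrix', h1, Matrix.one_mulVec]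
    exact g.apply_symm_apply v
  · apply Matrix.mulVec_injective
    funext v
    show (_ * M).mulVec v = (1 : M12 F).mulVec v
    rw [← Matrix.mulVec_mulVec, ← Matrix.toLin'_apply (LinearMap.toMatrix' _), Matrix.toLin'_toMatrix', h1, Matrix.one_mulVec]
    exact g.symm_apply_apply v

theorem mem_OmM_iff {M : Module.End F (VV F)} : LinearMap.toMatrix' M ∈ OmM F ↔ M ∈ Om F := by
  constructor
  · rintro ⟨g, hg, h⟩
    refine ⟨g, hg, LinearMap.ext fun v => ?_⟩
    rw [LinearEquiv.coe_coe, ← h v, ← Matrix.toLin'_apply, Matrix.toLin'_toMatrix']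
  · rintro ⟨g, hg, rfl⟩
    exact ⟨g, hg, fun v => by rw [← Matrix.toLin'_apply, Matrix.toLin'_toMatrix']; rfl⟩

/-- the root matrices are in `Ω` -/
theorem rt_mem_OmM {k l : Fin 6 ⊕ Fin 6} (h1 : l ≠ k) (h2 : l ≠ k.swap) (t : F) : rt k l t ∈ OmM F :=
  ⟨_, T_mem_E _ _, fun v => (T_eq_rt h1 t v).symm⟩

/-- `Ω` is normalised by the similitudes -/
theorem omM_conj {M N S S' : M12 F} {μ : F} (hμ : μ ≠ 0) (hS : ∀ v, plusForm 6 F (S.mulVec v) = μ * plusForm 6 F v)
    (h1 : S * S' = 1) (h2 : S' * S = 1) (hN : N ∈ OmM F) (hM : M = S * N * S') : M ∈ OmM F := by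
  obtain ⟨g, hg, h⟩ := hN
  let s : VV F ≃ₗ[F] VV F := LinearEquiv.ofLinearMap (Matrix.mulVecLin S) (Matrix.mulVecLin S')
    (by rw [← Matrix.mulVecLin_mul, h1, Matrix.mulVecLin_one]) (by rw [← Matrix.mulVecLin_mul, h2, Matrix.mulVecLin_one])
  have hs : ∀ v, s v = S.mulVec v := fun _ => rfl
  have hs' : ∀ v, s⁻¹ v = S'.mulVec v := fun _ => rfl
  refine ⟨s * g * s⁻¹, E_conj_sim hμ (fun v => by rw [hs]; exact hS v) hg, fun v => ?_⟩
  rw [hM, ← Matrix.mulVec_mulVec, ← Matrix.mulVec_mulVec, h, ← hs', ← hs]; rfl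

end OmM

/-- **the relation** -/
structure RD {G : Type*} [Group G] (z : G) {F : Type*} [Field F] (Rel : G → Matrix (Fin 2) (Fin 2) F → M12 F → Prop) : Prop where
  two : (2 : F) ≠ 0
  cz : ∀ {g a M}, Rel g a M → g * z = z * g
  det : ∀ {g a M}, Rel g a M → a.det ≠ 0
  sim : ∀ {g a M}, Rel g a M → ∃ μ : F, μ ≠ 0 ∧ (∀ v, plusForm 6 F (M.mulVec v) = μ * plusForm 6 F v) ∧
    (IsSquare μ ↔ IsSquare a.det)
  one : Rel 1 1 1
  mul : ∀ {g a M g' a' M'}, Rel g a M → Rel g' a' M' → Rel (g * g') (a * a') (M * M')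
  inv : ∀ {g a M}, Rel g a M → ∃ a' M', Rel g⁻¹ a' M' ∧ a * a' = 1 ∧ M * M' = 1
  scal : ∀ {g a M} {c d : F}, Rel g a M → c ≠ 0 → d ≠ 0 → Rel g (c • a) (d • M)
  uniq1 : ∀ {a M}, Rel 1 a M → (∃ c : F, a = c • 1) ∧ ∃ c : F, M = c • 1
  ker : ∀ {g}, Rel g 1 1 → g = 1 ∨ g = z

/-- **generation** -/
structure Gn {G : Type*} [Group G] (z : G) {F : Type*} [Field F] (Rel : G → Matrix (Fin 2) (Fin 2) F → M12 F → Prop)
    (TT XX : Set G) : Prop where
  gen : ∀ g, g * z = z * g → g ∈ Subgroup.closure (TT ∪ XX)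
  hX : ∀ g ∈ XX, ∃ x : Matrix.SpecialLinearGroup (Fin 2) F, ∃ N ∈ OmM F, Rel g x N
  hT : ∀ g ∈ TT, ∃ a M, Rel g a M
  Tone : (1 : G) ∈ TT
  Tmul : ∀ g ∈ TT, ∀ h ∈ TT, g * h ∈ TT
  Tinv : ∀ g ∈ TT, g⁻¹ ∈ TT
  hsq : ∀ g ∈ TT, ∀ a M, Rel g a M → IsSquare a.det → ∃ c : F, c ≠ 0 ∧ c • M ∈ OmM F
  hom : ∀ k l : Fin 6 ⊕ Fin 6, l ≠ k → l ≠ k.swap → ∀ t : F, ∃ g, Rel g 1 (rt k l t)

section

variable {G : Type*} [Group G] {z : G} {F : Type*} [Field F] {Rel : G → Matrix (Fin 2) (Fin 2) F → M12 F → Prop}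
  {TT XX : Set G}

theorem RD.M_ne (R : RD z Rel) {g : G} {a M} (h : Rel g a M) : M ≠ 0 := by
  rintro rfl
  obtain ⟨a', M', -, -, h1⟩ := R.inv h
  rw [zero_mul] at h1
  have h2 := congrFun (congrFun h1 (Sum.inl 0)) (Sum.inl 0)
  rw [Matrix.one_apply_eq] at h2
  exact zero_ne_one h2

theorem RD.a_ne (R : RD z Rel) {g : G} {a M} (h : Rel g a M) : a ≠ 0 := by
  rintro rfl
  apply R.det h
  rw [Matrix.det_fin_two]; simp

/-- uniqueness up to scalars -/
theorem RD.uniq (R : RD z Rel) {g : G} {a M a' M'} (h : Rel g a M) (h' : Rel g a' M') :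
    (∃ c : F, c ≠ 0 ∧ a' = c • a) ∧ ∃ c : F, c ≠ 0 ∧ M' = c • M := by
  obtain ⟨b, N, h1, h2, h3⟩ := R.inv h
  have h4 := R.mul h1 h'
  rw [inv_mul_cancel] at h4
  obtain ⟨⟨c, hc⟩, d, hd⟩ := R.uniq1 h4
  have e1 : a' = c • a := by
    have : a * (b * a') = a * (c • 1) := by rw [hc]
    rwa [← mul_assoc, h2, one_mul, mul_smul_comm, mul_one] at this
  have e2 : M' = d • M := by
    have : M * (N * M') = M * (d • 1) := by rw [hd]
    rwa [← mul_assoc, h3, one_mul, mul_smul_comm, mul_one] at this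
  refine ⟨⟨c, ?_, e1⟩, d, ?_, e2⟩
  · rintro rfl
    exact R.a_ne h' (by rw [e1, zero_smul])
  · rintro rfl
    exact R.M_ne h' (by rw [e2, zero_smul])

theorem mul_inv_of {n : Type*} [Fintype n] [DecidableEq n] {A B : Matrix n n F} (h : A * B = 1) : B * A = 1 :=
  mul_eq_one_comm.1 h

/-- **the form of the elements of the centraliser** -/
theorem form (R : RD z Rel) (H : Gn z Rel TT XX) {g : G} (hg : g * z = z * g) :
    ∃ t ∈ TT, ∃ a M, Rel t a M ∧ ∃ x : Matrix.SpecialLinearGroup (Fin 2) F, ∃ N ∈ OmM F, Rel g ((x : Matrix _ _ F) * a) (N * M) := by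
  have key := H.gen g hg
  clear hg
  induction key using Subgroup.closure_induction with
  | mem g hg =>
    rcases hg with hg | hg
    · obtain ⟨a, M, h⟩ := H.hT g hg
      exact ⟨g, hg, a, M, h, 1, 1, omM_one, by rwa [Matrix.SpecialLinearGroup.coe_one, one_mul, one_mul]⟩
    · obtain ⟨x, N, hN, h⟩ := H.hX g hg
      exact ⟨1, H.Tone, 1, 1, R.one, x, N, hN, by rwa [mul_one, mul_one]⟩
  | one => exact ⟨1, H.Tone, 1, 1, R.one, 1, 1, omM_one, by
      rw [Matrix.SpecialLinearGroup.coe_one, one_mul, one_mul]; exact R.one⟩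
  | mul g g' _ _ ih ih' =>
    obtain ⟨t, ht, a, M, h1, x, N, hN, h2⟩ := ih
    obtain ⟨t', ht', a', M', h1', x', N', hN', h2'⟩ := ih'
    obtain ⟨b, L, h3, h4, h5⟩ := R.inv h1
    obtain ⟨μ, hμ, hs, -⟩ := R.sim h1
    have e1 : (a * (x' : Matrix (Fin 2) (Fin 2) F) * b).det = 1 := by
      rw [Matrix.det_mul, Matrix.det_mul, mul_comm a.det, mul_assoc, ← Matrix.det_mul, h4, Matrix.det_one, mul_one]
      exact x'.2
    refine ⟨t * t', H.Tmul t ht t' ht', a * a', M * M', R.mul h1 h1', x * ⟨a * x' * b, e1⟩, N * (M * N' * L),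
      omM_mul hN (omM_conj hμ hs h5 (mul_inv_of h5) hN' rfl), ?_⟩
    have e2 : ((x * ⟨a * x' * b, e1⟩ : Matrix.SpecialLinearGroup (Fin 2) F) : Matrix (Fin 2) (Fin 2) F) * (a * a') =
        ((x : Matrix (Fin 2) (Fin 2) F) * a) * ((x' : Matrix (Fin 2) (Fin 2) F) * a') := by
      show (x : Matrix (Fin 2) (Fin 2) F) * (a * x' * b) * (a * a') = _
      calc (x : Matrix (Fin 2) (Fin 2) F) * (a * x' * b) * (a * a') = (x : Matrix (Fin 2) (Fin 2) F) * a * x' * (b * a) * a' := by
            noncomm_ring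
        _ = _ := by rw [mul_inv_of h4, mul_one]; noncomm_ring
    have e3 : N * (M * N' * L) * (M * M') = N * M * (N' * M') := by
      calc N * (M * N' * L) * (M * M') = N * M * N' * (L * M) * M' := by noncomm_ring
        _ = _ := by rw [mul_inv_of h5, mul_one]; noncomm_ring
    rw [e2, e3]
    exact R.mul h2 h2'
  | inv g _ ih =>
    obtain ⟨t, ht, a, M, h1, x, N, hN, h2⟩ := ih
    obtain ⟨b, L, h3, h4, h5⟩ := R.inv h1
    obtain ⟨μ, hμ, hs, -⟩ := R.sim h3
    obtain ⟨b', L', h6, h7, h8⟩ := R.inv h2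
    obtain ⟨N', hN', h9, h10⟩ := omM_inv hN
    have e1 : (b * ((x⁻¹ : Matrix.SpecialLinearGroup (Fin 2) F) : Matrix (Fin 2) (Fin 2) F) * a).det = 1 := by
      rw [Matrix.det_mul, Matrix.det_mul, mul_right_comm, ← Matrix.det_mul, mul_inv_of h4, Matrix.det_one, one_mul]
      exact (x⁻¹).2
    refine ⟨t⁻¹, H.Tinv t ht, b, L, h3, ⟨b * ((x⁻¹ : Matrix.SpecialLinearGroup (Fin 2) F) : Matrix (Fin 2) (Fin 2) F) * a, e1⟩, L * N' * M,
      omM_conj hμ hs (mul_inv_of h5) h5 hN' rfl, ?_⟩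
    have e2 : (b * ((x⁻¹ : Matrix.SpecialLinearGroup (Fin 2) F) : Matrix (Fin 2) (Fin 2) F) * a) * b = b' := by
      have h11 : b * ((x⁻¹ : Matrix.SpecialLinearGroup (Fin 2) F) : Matrix (Fin 2) (Fin 2) F) * a * b =
          b * ((x⁻¹ : Matrix.SpecialLinearGroup (Fin 2) F) : Matrix (Fin 2) (Fin 2) F) := by
        rw [mul_assoc, h4, mul_one]
      rw [h11]
      refine left_inv_eq_right_inv (a := (x : Matrix (Fin 2) (Fin 2) F) * a) ?_ h7
      calc b * ((x⁻¹ : Matrix.SpecialLinearGroup (Fin 2) F) : Matrix (Fin 2) (Fin 2) F) * ((x : Matrix (Fin 2) (Fin 2) F) * a)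
          = b * (((x⁻¹ : Matrix.SpecialLinearGroup (Fin 2) F) : Matrix (Fin 2) (Fin 2) F) * (x : Matrix (Fin 2) (Fin 2) F)) * a := by
            noncomm_ring
        _ = 1 := by
            rw [← Matrix.SpecialLinearGroup.coe_mul, inv_mul_cancel, Matrix.SpecialLinearGroup.coe_one, mul_one,
              mul_inv_of h4]
    have e3 : L * N' * M * L = L' := by
      rw [mul_assoc, h5, mul_one]
      refine left_inv_eq_right_inv (a := N * M) ?_ h8
      calc L * N' * (N * M) = L * (N' * N) * M := by noncomm_ring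
        _ = 1 := by rw [h10, mul_one, mul_inv_of h5]
    show Rel g⁻¹ ((b * ((x⁻¹ : Matrix.SpecialLinearGroup (Fin 2) F) : Matrix (Fin 2) (Fin 2) F) * a) * b) (L * N' * M * L)
    rw [e2, e3]
    exact h6

/-- **`ex`** -/
theorem ex (R : RD z Rel) (H : Gn z Rel TT XX) {g : G} (hg : g * z = z * g) : ∃ a M, Rel g a M := by
  obtain ⟨_, _, _, _, _, _, _, _, h⟩ := form R H hg
  exact ⟨_, _, h⟩

/-- **`omT`** -/
theorem omT (R : RD z Rel) (H : Gn z Rel TT XX) {g : G} {M : M12 F} (hg : Rel g 1 M) : ∃ c : F, c ≠ 0 ∧ c • M ∈ OmM F := by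
  obtain ⟨t, ht, a, L, h1, x, N, hN, h2⟩ := form R H (R.cz hg)
  obtain ⟨⟨c, hc, e1⟩, d, hd, e2⟩ := R.uniq hg h2
  have h3 : a.det = c * c := by
    have h4 := congrArg Matrix.det e1
    rw [Matrix.det_mul, Matrix.det_smul, Matrix.det_one, mul_one, Fintype.card_fin] at h4
    have h5 : ((x : Matrix (Fin 2) (Fin 2) F)).det = 1 := x.2
    rw [h5, one_mul] at h4
    rw [h4]; ring
  obtain ⟨e, he, h4⟩ := H.hsq t ht a L h1 ⟨c, h3⟩
  refine ⟨e * d, mul_ne_zero he hd, ?_⟩
  rw [mul_smul, ← e2, ← mul_smul_comm]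
  exact omM_mul hN h4

/-- **`omS`** -/
theorem omS [Finite F] (R : RD z Rel) (H : Gn z Rel TT XX) {M : M12 F} (hM : M ∈ OmM F) : ∃ g, Rel g 1 M := by
  obtain ⟨w, hw, h⟩ := hM
  -- the subgroup of the represented isometries
  let K : Subgroup (VV F ≃ₗ[F] VV F) :=
    { carrier := {w | ∃ g, Rel g 1 (LinearMap.toMatrix' w.toLinearMap)}
      one_mem' := ⟨1, by
        have : LinearMap.toMatrix' (1 : VV F ≃ₗ[F] VV F).toLinearMap = (1 : M12 F) := LinearMap.toMatrix'_id
        rw [this]; exact R.one⟩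
      mul_mem' := by
        rintro v w ⟨g, h1⟩ ⟨g', h2⟩
        refine ⟨g * g', ?_⟩
        have : LinearMap.toMatrix' (v * w : VV F ≃ₗ[F] VV F).toLinearMap =
            LinearMap.toMatrix' v.toLinearMap * LinearMap.toMatrix' w.toLinearMap := LinearMap.toMatrix'_comp _ _
        rw [this]
        have h3 := R.mul h1 h2
        rwa [one_mul] at h3
      inv_mem' := by
        rintro v ⟨g, h1⟩
        obtain ⟨a', M', h2, h3, h4⟩ := R.inv h1
        refine ⟨g⁻¹, ?_⟩
        rw [one_mul] at h3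
        subst h3
        have h5 : LinearMap.toMatrix' v.toLinearMap * LinearMap.toMatrix' (v⁻¹ : VV F ≃ₗ[F] VV F).toLinearMap = 1 := by
          rw [← LinearMap.toMatrix'_comp, ← LinearMap.toMatrix'_id]
          congr 1
          exact LinearMap.ext fun y => v.apply_symm_apply y
        have h6 : M' = LinearMap.toMatrix' (v⁻¹ : VV F ≃ₗ[F] VV F).toLinearMap :=
          left_inv_eq_right_inv (mul_inv_of h4) h5
        rw [← h6]; exact h2 }
  have hK : E (plusForm 6 F) ≤ K := by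
    refine gen_le (by norm_num) K fun a b h1 h2 t => ?_
    obtain ⟨g, hg⟩ := H.hom a.swap b h2 (by rwa [Sum.swap_swap]) t
    refine ⟨g, ?_⟩
    have : LinearMap.toMatrix' (T (plusForm 6 F) (ee F a) (t • ee F b)).toLinearMap = rt a.swap b t := by
      apply Matrix.mulVec_injective
      funext v
      show (LinearMap.toMatrix' (T (plusForm 6 F) (ee F a) (t • ee F b)).toLinearMap).mulVec v = (rt a.swap b t).mulVec v
      rw [← Matrix.toLin'_apply, Matrix.toLin'_toMatrix', ← T_eq_rt h2, Sum.swap_swap]; rfl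
    rw [this]; exact hg
  obtain ⟨g, hg⟩ := hK hw
  refine ⟨g, ?_⟩
  have : LinearMap.toMatrix' w.toLinearMap = M := by
    apply Matrix.mulVec_injective
    funext v
    show (LinearMap.toMatrix' w.toLinearMap).mulVec v = M.mulVec v
    rw [← Matrix.toLin'_apply, Matrix.toLin'_toMatrix', h]; rfl
  rwa [← this]

open Cfsg.Agent.H627.Co3 in
/-- the relation in terms of endomorphisms -/
def RE (Rel : G → Matrix (Fin 2) (Fin 2) F → M12 F → Prop) (g : G) (a : Matrix (Fin 2) (Fin 2) F)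
    (M : Module.End F (VV F)) : Prop := Rel g a (LinearMap.toMatrix' M)

theorem RE_one {Rel : G → Matrix (Fin 2) (Fin 2) F → M12 F → Prop} {g : G} {a : Matrix (Fin 2) (Fin 2) F} :
    RE Rel g a 1 ↔ Rel g a 1 := by
  have : LinearMap.toMatrix' (1 : Module.End F (VV F)) = (1 : M12 F) := LinearMap.toMatrix'_id
  unfold RE
  rw [this]

theorem exists_end (M : M12 F) : ∃ N : Module.End F (VV F), LinearMap.toMatrix' N = M :=
  ⟨Matrix.toLin' M, LinearMap.toMatrix'_toLin' M⟩

/-- **the interface** `E7I`, from the relation, the generation, the subgroup `SL₂(F)` and the tables -/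
def e7i [Finite F] (R : RD z Rel) (H : Gn z Rel TT XX) (ι : Matrix.SpecialLinearGroup (Fin 2) F →* G)
    (hι : ∀ x, Rel (ι x) x 1) (hz : ι (-1) = z)
    (t1 : ∀ {n M}, RE Rel n 1 M → n * n = 1 → (∃ k, k * n * k⁻¹ = n * z) → ∃ ν : F, ν ≠ 0 ∧ M * M = ν ^ 2 • 1 ∧
      Cfsg.Agent.H627.Co3.Sym (BB F) M ∧
      (finrank F (LinearMap.ker (M + ν • 1)) = 4 ∨ finrank F (LinearMap.ker (M + ν • 1)) = 8))
    (t2 : ∀ {n M} {ν : F}, RE Rel n 1 M → n * n = z → M * M = ν ^ 2 • 1 → Cfsg.Agent.H627.Co3.Sym (BB F) M →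
      finrank F (LinearMap.ker (M + ν • 1)) ≠ 4 ∧ finrank F (LinearMap.ker (M + ν • 1)) ≠ 8)
    (t3 : ∀ {n a M} {l : F}, RE Rel n a M → n * n = z → (¬ ∃ c : F, a = c • 1) → M * M = l • 1 →
      Cfsg.Agent.H627.Co3.Sym (BB F) M → IsSquare l) :
    Cfsg.Agent.H627.Co3.E7I z F (BB F) where
  R := RE Rel
  ι := ι
  Om := Om F
  two := R.two
  dim := finrank_VV
  symm := BB_symm
  nd := BB_nd
  ex g hg := by
    obtain ⟨a, M, h⟩ := ex R H hg
    obtain ⟨N, rfl⟩ := exists_end M
    exact ⟨a, N, h⟩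
  cz := R.cz
  det := R.det
  sim := by
    intro g a M h
    obtain ⟨μ, h1, h3, h4⟩ := R.sim h
    refine ⟨μ, h1, fun u v => ?_, h4⟩
    have h5 : ∀ v, plusForm 6 F (M v) = μ * plusForm 6 F v := fun v => by
      rw [← h3, ← Matrix.toLin'_apply, Matrix.toLin'_toMatrix']
    rw [BB_apply, BB_apply]
    unfold QuadraticMap.polar
    rw [← map_add, h5, h5, h5]; ring
  mul := by
    intro g a M g' a' M' h h'
    have h1 := R.mul h h'
    have : LinearMap.toMatrix' (M * M') = LinearMap.toMatrix' M * LinearMap.toMatrix' M' := LinearMap.toMatrix'_comp _ _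
    unfold RE
    rw [this]; exact h1
  uniq := by
    intro g a M a' M' h h'
    obtain ⟨⟨c, -, h1⟩, d, -, h3⟩ := R.uniq h h'
    refine ⟨⟨c, h1⟩, d, ?_⟩
    apply (LinearMap.toMatrix' (R := F) (m := Fin 6 ⊕ Fin 6) (n := Fin 6 ⊕ Fin 6)).injective
    rw [map_smul]; exact h3
  scal := by
    intro g a M c d h hc hd
    unfold RE
    rw [map_smul]
    exact R.scal h hc hd
  ker := by
    intro g h
    exact R.ker (RE_one.1 h)
  Rι x := RE_one.2 (hι x)
  ι_neg := hz
  omT := by
    intro g M h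
    obtain ⟨c, hc, h1⟩ := omT R H h
    refine ⟨c, hc, mem_OmM_iff.1 ?_⟩
    rw [map_smul]; exact h1
  omS := by
    intro M hM
    obtain ⟨g, hg⟩ := omS R H (mem_OmM_iff.2 hM)
    exact ⟨g, hg⟩
  om_iso := fun hM => om_iso hM
  signs v hv J := signs R.two v hv J
  t1 := t1
  t2 := t2
  t3 := t3

end

end Cfsg.Agent.H249.Co3
end

-- part: H249/Co3/Rel7
section
/-!
# S1920, case B, `E₇(q)`, THETA12: the relation (helper249)

`L₊` = `LP F` : the Lie algebra of `A₁D₆`; `th2`, `th6` : (twice) its representations of degrees 2 and 12;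
`Rl7 z g a M` : `g` commutes with `z`, `th2 (g v) a = a th2 v`, `th6 (g v) M = M th6 v` on `L₊`, `M` a similitude.

* `inj7` : `th2`, `th6` are jointly injective on `L₊`;
* `rd7` : `RD z (Rl7 z)`.
-/

set_option autoImplicit false
set_option linter.unusedSectionVars false
set_option maxRecDepth 100000

open QuadraticMap Module
open Cfsg.Agent.LieClassical.OrthCore Cfsg.Agent.LieClassical.OrthTrans Cfsg.Agent.LieClassical.OrthForms
  Cfsg.Agent.ClassicalGeometry.OrthAutBasic
  Cfsg.Agent.LieClassical.OrthFinite Cfsg.Agent.H887.SiegelMethod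

namespace Cfsg.Agent.H249.Co3

open Cfsg Cfsg.Lie Cfsg.Lie.ChevalleyDatum
open Cfsg.Agent.ChevalleyStructure Cfsg.Agent.ChevalleyStructure.Elts Cfsg.Agent.ChevalleyStructure.XColumns
open Cfsg.Agent.ChevalleyStructure.Columns (cor)
open Cfsg.Agent.H167.EX (rho)
open Cfsg.Agent.H736.Co3
open Matrix

universe u

/-! ### tables -/

def ex2 : List (List ℤ) := [[1, 0], [0, 0], [0, 0], [0, 0], [0, 0], [0, 0], [0, 0]]

theorem c2_1 : (rws2.all fun p => p.A.all fun a => (List.range 7).all fun k =>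
    decide (exf ex2 k a.1 = chevE7.cartan k p.r + exf ex2 k a.2.1)) = true := by (rewrite [Cfsg.Agent.ChevFast.E7.cartan]; decide +kernel)

theorem c2_2 : ((List.range 7).all fun i => (T2.H i).all fun a => Nat.beq a.1 a.2.1) = true := by decide +kernel

theorem c2_3 : (rws2.all fun p => Nat.beq p.r 125 || (Nat.beq p.r 0 || p.A.isEmpty)) = true := by decide +kernel

theorem c6_7 : (rws6.all fun p => bif Nat.beq p.r 125 || Nat.beq p.r 0 then p.A.isEmpty else
    (match p.A with
      | [a, b] => Nat.beq b.1 (opn 6 a.2.1) && Nat.beq b.2.1 (opn 6 a.1) && decide (b.2.2 = -a.2.2) &&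
        decide (a.2.2 * a.2.2 = 1) && Nat.blt a.1 12 && Nat.blt a.2.1 12 && !(Nat.beq a.1 a.2.1) &&
        !(Nat.beq a.1 (opn 6 a.2.1))
      | _ => false)) = true := by decide +kernel

theorem c6_8 : ((List.range 7).all fun k => decide (exf ex6 k 0 + exf ex6 k 6 = if k = 0 then 1 else if k = 6 then -2 else 0)) = true := by
  decide +kernel

theorem c7_1 : T2.In 125 = true ∧ T2.In 0 = true := by decide +kernel

/-- the mask -/
theorem In_iff {r : ℕ} (hr : r < 126) : T6.In r = true ↔ cor chevE7 r 0 % 2 = 0 := by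
  have h := of_decide_eq_true (List.all_eq_true.1 In_iff6 r (List.mem_range.2 hr))
  rw [h, decide_eq_true_eq]

/-! ### the representations -/

section

variable (F : Type u) [Field F]

/-- `L₊` -/
abbrev LP : Submodule F (chevE7.Idx → F) := Lp T6 chevE7 F

/-- twice the representation of degree 12 -/
noncomputable def th6 : (chevE7.Idx → F) →ₗ[F] M12 F := Th T6 chevE7 F

/-- the `2 × 2` matrices -/
noncomputable def rx : Matrix (Fin 1 ⊕ Fin 1) (Fin 1 ⊕ Fin 1) F ≃ₐ[F] Matrix (Fin 2) (Fin 2) F :=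
  Matrix.reindexAlgEquiv F F finSumFinEquiv

/-- twice the representation of degree 2 -/
noncomputable def th2 : (chevE7.Idx → F) →ₗ[F] Matrix (Fin 2) (Fin 2) F :=
  (rx F).toLinearMap ∘ₗ (Th T2 chevE7 F : (chevE7.Idx → F) →ₗ[F] Matrix (Fin 1 ⊕ Fin 1) (Fin 1 ⊕ Fin 1) F)

/-- the root matrices of `D₆` -/
noncomputable def E6 (r : ℕ) : M12 F := sm T6.m F (T6.E r)

/-- the root matrices of `A₁` -/
noncomputable def E2 (r : ℕ) : Matrix (Fin 2) (Fin 2) F :=
  rx F (sm T2.m F (T2.E r) : Matrix (Fin 1 ⊕ Fin 1) (Fin 1 ⊕ Fin 1) F)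

theorem th2_apply (v : chevE7.Idx → F) : th2 F v = rx F (Th T2 chevE7 F v : Matrix (Fin 1 ⊕ Fin 1) (Fin 1 ⊕ Fin 1) F) := rfl

variable {F}

/-- **the relation** -/
structure Rl7 (z g : ↥(chevE7.group F)) (a : Matrix (Fin 2) (Fin 2) F) (M : M12 F) : Prop where
  cz : g * z = z * g
  det : a.det ≠ 0
  sim : ∃ μ : F, μ ≠ 0 ∧ (∀ v, plusForm 6 F (M.mulVec v) = μ * plusForm 6 F v) ∧ IsSquare (μ * a.det)
  d2 : ∀ v ∈ LP F, th2 F (((g : GL chevE7.Idx F) : Matrix chevE7.Idx chevE7.Idx F) *ᵥ v) * a = a * th2 F v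
  d6 : ∀ v ∈ LP F, th6 F (((g : GL chevE7.Idx F) : Matrix chevE7.Idx chevE7.Idx F) *ᵥ v) * M = M * th6 F v

end

/-! ### joint injectivity -/

section

variable {F : Type u} [Field F]

theorem Th_ent {T : Tb} [NeZero T.m] (O : T.Ok chevE7) {v : chevE7.Idx → F} {i j : ℕ} (hi : i < T.m + T.m) (hj : j < T.m + T.m) :
    Th T chevE7 F v (ix T.m i) (ix T.m j) = (∑ k : Fin chevE7.rank, v (Sum.inl k) * (ent (T.H k) i j : F)) +
      ∑ s : Fin chevE7.nroots, v (Sum.inr s) * (2 * (ent (T.E s) i j : F)) := by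
  rw [Th_apply, Fintype.sum_sum_type, Matrix.add_apply, Matrix.sum_apply, Matrix.sum_apply]
  congr 1
  · refine Finset.sum_congr rfl fun k _ => ?_
    rw [Matrix.smul_apply, smul_eq_mul]
    show _ * sm T.m F (T.H k) _ _ = _
    rw [sm_apply_ix F (O.wfH k) hi hj]
  · refine Finset.sum_congr rfl fun s _ => ?_
    rw [Matrix.smul_apply, smul_eq_mul]
    show _ * ((2 : F) • sm T.m F (T.E s)) _ _ = _
    rw [Matrix.smul_apply, smul_eq_mul, sm_apply_ix F (O.wfE s) hi hj]

theorem iso_zero {T : Tb} [NeZero T.m] (O : T.Ok chevE7) (h2 : (2 : F) ≠ 0) {v : chevE7.Idx → F} (hv : v ∈ Lp T chevE7 F)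
    (h : Th T chevE7 F v = 0) {rws : List Tb.Rw} (hsp : ∀ r, T.In r = true → ∃ p ∈ rws, p.r = r ∧ T.E r = p.A)
    {r : Fin chevE7.nroots} {p : Tb.Rw} (_hp : p ∈ rws) (hpr : p.r = r) (hpE : T.E r = p.A)
    (hc : (p.A.any fun a => (decide (ent p.A a.1 a.2.1 = 1) ||
      decide (ent p.A a.1 a.2.1 = -1)) && (rws.all fun q => Nat.beq q.r p.r || decide (ent q.A a.1 a.2.1 = 0)) &&
      (List.range 7).all fun k => decide (ent (T.H k) a.1 a.2.1 = 0)) = true) : v (Sum.inr r) = 0 := by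
  obtain ⟨a, ha, hc⟩ := List.any_eq_true.1 hc
  rw [Bool.and_eq_true, Bool.and_eq_true, Bool.or_eq_true, decide_eq_true_eq, decide_eq_true_eq] at hc
  obtain ⟨⟨h1, h3⟩, h4⟩ := hc
  have hw := wf_iff.1 (O.wfE r) a (by rw [hpE]; exact ha)
  have h5 := Th_ent (F := F) (v := v) O hw.1 hw.2
  rw [h, Matrix.zero_apply, Finset.sum_eq_zero, zero_add, Finset.sum_eq_single r] at h5
  · rcases h1 with h1 | h1
    · rw [hpE, h1, Int.cast_one, mul_one] at h5
      exact (mul_eq_zero.1 h5.symm).resolve_right h2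
    · rw [hpE, h1, Int.cast_neg, Int.cast_one, mul_neg_one, mul_neg, zero_eq_neg] at h5
      exact (mul_eq_zero.1 h5).resolve_right h2
  · intro s _ hs
    cases hins : T.In s
    · rw [hv s hins, zero_mul]
    · obtain ⟨q, hq, hqr, hqE⟩ := hsp s hins
      have h6 := List.all_eq_true.1 h3 q hq
      rw [Bool.or_eq_true, decide_eq_true_eq] at h6
      have h7 : ent q.A a.1 a.2.1 = 0 := h6.resolve_left fun h8 => hs (Fin.ext (by
        rw [← hqr, ← hpr]; exact Nat.eq_of_beq_eq_true h8))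
      rw [hqE, h7, Int.cast_zero, mul_zero, mul_zero]
  · intro h; exact absurd (Finset.mem_univ _) h
  · intro k _
    have h6 := of_decide_eq_true (List.all_eq_true.1 h4 k (List.mem_range.2 k.2))
    rw [h6, Int.cast_zero, mul_zero]

/-- **joint injectivity** -/
theorem inj7 (h2 : (2 : F) ≠ 0) {v : chevE7.Idx → F} (hv : v ∈ LP F) (hA : th2 F v = 0) (hD : th6 F v = 0) : v = 0 := by
  have hA' : Th T2 chevE7 F v = 0 := (rx F).injective (by rw [← th2_apply, hA]; exact (map_zero (rx F)).symm)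
  have hD' : Th T6 chevE7 F v = 0 := hD
  have hr : ∀ r : Fin chevE7.nroots, v (Sum.inr r) = 0 := by
    intro r
    cases hin : T6.In r
    · exact hv r hin
    · by_cases h0 : Nat.beq r 125 || Nat.beq r 0
      · obtain ⟨p, hp, hpr, hpE⟩ := spec2 (r := r) hin
        have h3 := List.all_eq_true.1 cj_2 p hp
        rw [hpr, h0, Bool.not_true, Bool.false_or, ← hpr] at h3
        exact iso_zero T2_ok h2 (show v ∈ Lp T2 chevE7 F from hv) hA' (fun r hr => spec2 hr) hp hpr hpE h3
      · obtain ⟨p, hp, hpr, hpE⟩ := spec6 hin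
        have h3 := List.all_eq_true.1 cj_1 p hp
        rw [hpr] at h3
        rw [Bool.or_eq_true, not_or] at h0
        rw [Bool.or_eq_true, Bool.or_eq_true] at h3
        have h4 := (h3.resolve_left h0.1).resolve_left h0.2
        rw [← hpr] at h4
        exact iso_zero T6_ok h2 hv hD' (fun r hr => spec6 hr) hp hpr hpE h4
  have h4 : (4 : F) ≠ 0 := by
    rw [show (4 : F) = 2 * 2 by norm_num]
    exact mul_ne_zero h2 h2
  have h5 : ∀ i < 6, ∑ k : Fin 7, v (Sum.inl k) * (ent (T6.H k) i i : F) = 0 := by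
    intro i hi
    have hi' : i < T6.m + T6.m := by
      show i < 6 + 6
      omega
    have h6 := Th_ent (F := F) (v := v) T6_ok hi' hi'
    rw [hD', Matrix.zero_apply, add_comm, Finset.sum_eq_zero, zero_add] at h6
    · exact h6.symm
    · intro s _
      rw [hr, zero_mul]
  have h7 : ∑ k : Fin 7, v (Sum.inl k) * (ent (T2.H k) 0 0 : F) = 0 := by
    have hi' : 0 < T2.m + T2.m := by
      show 0 < 1 + 1
      omega
    have h6 := Th_ent (F := F) (v := v) T2_ok hi' hi'
    rw [hA', Matrix.zero_apply, add_comm, Finset.sum_eq_zero, zero_add] at h6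
    · exact h6.symm
    · intro s _
      rw [hr, zero_mul]
  have hl : ∀ l : Fin 7, v (Sum.inl l) = 0 := by
    intro l
    have e : ∑ k : Fin 7, v (Sum.inl k) * ((((List.range 6).map fun i => exf mm7 l i * ent (T6.H k) i i).sum +
        exf mm7 l 6 * ent (T2.H k) 0 0 : ℤ) : F) = 0 := by
      have e1 : ∀ k : Fin 7, v (Sum.inl k) * ((((List.range 6).map fun i => exf mm7 l i * ent (T6.H k) i i).sum +
          exf mm7 l 6 * ent (T2.H k) 0 0 : ℤ) : F) =
          (∑ i : Fin 6, ((exf mm7 l i : ℤ) : F) * (v (Sum.inl k) * ((ent (T6.H k) i i : ℤ) : F))) +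
            ((exf mm7 l 6 : ℤ) : F) * (v (Sum.inl k) * ((ent (T2.H k) 0 0 : ℤ) : F)) := by
        intro k
        rw [sum_list_range]
        push_cast
        rw [mul_add, Finset.mul_sum]
        congr 1
        · exact Finset.sum_congr rfl fun i _ => by ring
        · ring
      rw [Finset.sum_congr rfl fun k _ => e1 k, Finset.sum_add_distrib, Finset.sum_comm, ← Finset.mul_sum, h7, mul_zero,
        add_zero]
      refine Finset.sum_eq_zero fun i _ => ?_
      rw [← Finset.mul_sum, h5 i i.2, mul_zero]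
    have e2 : ∀ k : Fin 7, ((List.range 6).map fun i => exf mm7 l i * ent (T6.H k) i i).sum +
        exf mm7 l 6 * ent (T2.H k) 0 0 = if (l : ℕ) = k then 4 else 0 := fun k =>
      of_decide_eq_true (List.all_eq_true.1 (List.all_eq_true.1 cj_3 l (List.mem_range.2 l.2)) k (List.mem_range.2 k.2))
    rw [Finset.sum_congr rfl fun k _ => by rw [e2 k], Finset.sum_eq_single l] at e
    · rw [if_pos rfl] at e
      refine (mul_eq_zero.1 e).resolve_right ?_
      push_cast
      exact h4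
    · intro k _ hk
      rw [if_neg (fun h => hk (Fin.ext h.symm)), Int.cast_zero, mul_zero]
    · intro h6
      exact absurd (Finset.mem_univ _) h6
  funext j
  rcases j with j | j
  · exact hl j
  · exact hr j

end

end Cfsg.Agent.H249.Co3
end

-- part: H249/Co3/RelRD
section
/-!
# S1920, case B, `E₇(q)`, THETA12: `RD z (Rl7 z)` (helper249)

* `Z7 z` : the matrix of `z`; `z_fix` : `z v = v ↔ v ∈ L₊`;
* `rd7` : `RD z (Rl7 z)`.
-/

set_option autoImplicit false
set_option linter.unusedSectionVars false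
set_option maxRecDepth 100000

open QuadraticMap Module
open Cfsg.Agent.LieClassical.OrthCore Cfsg.Agent.LieClassical.OrthTrans Cfsg.Agent.LieClassical.OrthForms
  Cfsg.Agent.ClassicalGeometry.OrthAutBasic
  Cfsg.Agent.LieClassical.OrthFinite Cfsg.Agent.H887.SiegelMethod

namespace Cfsg.Agent.H249.Co3

open Cfsg Cfsg.Lie Cfsg.Lie.ChevalleyDatum
open Cfsg.Agent.ChevalleyStructure Cfsg.Agent.ChevalleyStructure.Elts Cfsg.Agent.ChevalleyStructure.XColumns
open Cfsg.Agent.ChevalleyStructure.Columns (cor)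
open Cfsg.Agent.H167.EX (rho)
open Cfsg.Agent.H736.Co3
open Matrix

universe u

section

variable {F : Type u} [Field F]

/-- the matrix of `z` -/
def Z7 (z : ↥(chevE7.group F)) : Prop :=
  ((z : GL chevE7.Idx F) : Matrix chevE7.Idx chevE7.Idx F) =
    Matrix.diagonal (Sum.elim (fun _ => 1) fun s : Fin chevE7.nroots => if cor chevE7 s.val 0 % 2 = 0 then 1 else -1)

variable {z : ↥(chevE7.group F)}

theorem z_fix (h2 : (2 : F) ≠ 0) (hz : Z7 z) (v : chevE7.Idx → F) :
    ((z : GL chevE7.Idx F) : Matrix chevE7.Idx chevE7.Idx F) *ᵥ v = v ↔ v ∈ LP F := by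
  have hIn : ∀ r : Fin chevE7.nroots, T6.In r = true ↔ cor chevE7 r.val 0 % 2 = 0 := fun r => In_iff r.2
  rw [show ((z : GL chevE7.Idx F) : Matrix chevE7.Idx chevE7.Idx F) = _ from hz]
  constructor
  · intro h r hr
    have h1 := congrFun h (Sum.inr r)
    rw [Matrix.mulVec_diagonal, Sum.elim_inr, if_neg (fun h3 => by rw [(hIn r).2 h3] at hr; exact Bool.noConfusion hr)] at h1
    have h3 : (2 : F) * v (Sum.inr r) = 0 := by linear_combination -h1
    exact (mul_eq_zero.1 h3).resolve_left h2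
  · intro h
    funext j
    rw [Matrix.mulVec_diagonal]
    rcases j with j | r
    · rw [Sum.elim_inl, one_mul]
    · rw [Sum.elim_inr]
      by_cases hr : cor chevE7 r.val 0 % 2 = 0
      · rw [if_pos hr, one_mul]
      · rw [h r (by rw [← Bool.not_eq_true]; exact fun h3 => hr ((hIn r).1 h3)), mul_zero]

theorem LP_stable (h2 : (2 : F) ≠ 0) (hz : Z7 z) {g : ↥(chevE7.group F)} (hg : g * z = z * g) {v : chevE7.Idx → F} (hv : v ∈ LP F) :
    ((g : GL chevE7.Idx F) : Matrix chevE7.Idx chevE7.Idx F) *ᵥ v ∈ LP F := by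
  have hg' : (g : GL chevE7.Idx F) * (z : GL chevE7.Idx F) = (z : GL chevE7.Idx F) * (g : GL chevE7.Idx F) :=
    congrArg Subtype.val hg
  rw [← z_fix h2 hz, Matrix.mulVec_mulVec, ← Units.val_mul, ← hg', Units.val_mul, ← Matrix.mulVec_mulVec, (z_fix h2 hz v).2 hv]

/-! ### operations -/

/-- the condition on the squares -/
theorem iff_of_isSquare_mul {x y : F} (hx : x ≠ 0) (hy : y ≠ 0) (h : IsSquare (x * y)) : IsSquare x ↔ IsSquare y := by
  obtain ⟨a, ha⟩ := h
  have ha0 : a ≠ 0 := by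
    rintro rfl
    rw [mul_zero] at ha
    exact mul_ne_zero hx hy ha
  constructor
  · rintro ⟨b, rfl⟩
    have hb : b ≠ 0 := left_ne_zero_of_mul hx
    exact ⟨a / b, by field_simp; linear_combination ha⟩
  · rintro ⟨b, rfl⟩
    have hb : b ≠ 0 := left_ne_zero_of_mul hy
    exact ⟨a / b, by field_simp; linear_combination ha⟩

theorem Rl7.one (z : ↥(chevE7.group F)) : Rl7 z 1 1 1 where
  cz := by rw [one_mul, mul_one]
  det := by rw [Matrix.det_one]; exact one_ne_zero
  sim := ⟨1, one_ne_zero, fun v => by rw [Matrix.one_mulVec, one_mul], by rw [Matrix.det_one]; exact ⟨1, rfl⟩⟩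
  d2 v _ := by
    rw [mul_one, one_mul, Subgroup.coe_one, Units.val_one, Matrix.one_mulVec]
  d6 v _ := by
    rw [mul_one, one_mul, Subgroup.coe_one, Units.val_one, Matrix.one_mulVec]

theorem Rl7.mul (h2 : (2 : F) ≠ 0) (hz : Z7 z) {g g' : ↥(chevE7.group F)} {a a' : Matrix (Fin 2) (Fin 2) F} {M M' : M12 F}
    (h : Rl7 z g a M) (h' : Rl7 z g' a' M') : Rl7 z (g * g') (a * a') (M * M') where
  cz := by rw [mul_assoc, h'.cz, ← mul_assoc, h.cz, mul_assoc]
  det := by rw [Matrix.det_mul]; exact mul_ne_zero h.det h'.det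
  sim := by
    obtain ⟨μ, h1, h3, h4⟩ := h.sim
    obtain ⟨ν, h5, h6, h7⟩ := h'.sim
    refine ⟨μ * ν, mul_ne_zero h1 h5, fun v => ?_, ?_⟩
    · rw [← Matrix.mulVec_mulVec, h3, h6]; ring
    · rw [Matrix.det_mul]
      have := h4.mul h7
      rwa [mul_mul_mul_comm] at this
  d2 v hv := by
    rw [Subgroup.coe_mul, Units.val_mul, ← Matrix.mulVec_mulVec, ← mul_assoc, h.d2 _ (LP_stable h2 hz h'.cz hv), mul_assoc,
      h'.d2 v hv, mul_assoc]
  d6 v hv := by
    rw [Subgroup.coe_mul, Units.val_mul, ← Matrix.mulVec_mulVec, ← mul_assoc, h.d6 _ (LP_stable h2 hz h'.cz hv), mul_assoc,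
      h'.d6 v hv, mul_assoc]

/-- the inverse of a similitude -/
theorem sim_inv {M : M12 F} {μ : F} (hμ : μ ≠ 0) (h : ∀ v, plusForm 6 F (M.mulVec v) = μ * plusForm 6 F v) :
    (μ⁻¹ • st M) * M = 1 := by
  have h1 : ∀ x y, polar (plusForm 6 F) (M *ᵥ x) (M *ᵥ y) = μ * polar (plusForm 6 F) x y := by
    intro x y
    unfold QuadraticMap.polar
    rw [← Matrix.mulVec_add, h, h, h]; ring
  have h3 : st M * M = μ • 1 := by
    apply Matrix.mulVec_injective
    funext y
    show (st M * M) *ᵥ y = (μ • (1 : M12 F)) *ᵥ y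
    have h4 : ∀ x, polar (plusForm 6 F) x ((st M * M) *ᵥ y) = polar (plusForm 6 F) x ((μ • (1 : M12 F)) *ᵥ y) := by
      intro x
      rw [← Matrix.mulVec_mulVec, ← polar_mulVec, h1, Matrix.smul_mulVec, Matrix.one_mulVec, polar_smul_right, smul_eq_mul]
    rw [← sub_eq_zero]
    refine nondeg_plusForm 6 F _ fun x => ?_
    rw [polar_comm, sub_eq_add_neg, polar_add_right, polar_neg_right, h4, add_neg_cancel]
  rw [smul_mul_assoc, h3, smul_smul, inv_mul_cancel₀ hμ, one_smul]

theorem Rl7.inv (h2 : (2 : F) ≠ 0) (hz : Z7 z) {g : ↥(chevE7.group F)} {a : Matrix (Fin 2) (Fin 2) F} {M : M12 F}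
    (h : Rl7 z g a M) : ∃ a' M', Rl7 z g⁻¹ a' M' ∧ a * a' = 1 ∧ M * M' = 1 := by
  obtain ⟨μ, h1, h3, h4⟩ := h.sim
  have e1 := sim_inv h1 h3
  have e2 : M * (μ⁻¹ • st M) = 1 := mul_eq_one_comm.1 e1
  have ha : a * a⁻¹ = 1 := Matrix.mul_nonsing_inv a (isUnit_iff_ne_zero.2 h.det)
  have ha' : a⁻¹ * a = 1 := mul_eq_one_comm.1 ha
  have hcz : g⁻¹ * z = z * g⁻¹ := by
    rw [inv_mul_eq_iff_eq_mul, ← mul_assoc, h.cz, mul_assoc, mul_inv_cancel, mul_one]
  have hgg : ∀ v, ((g : GL chevE7.Idx F) : Matrix chevE7.Idx chevE7.Idx F) *ᵥ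
      (((g⁻¹ : ↥(chevE7.group F)) : GL chevE7.Idx F) : Matrix chevE7.Idx chevE7.Idx F) *ᵥ v = v := by
    intro v
    rw [Matrix.mulVec_mulVec, ← Units.val_mul, ← Subgroup.coe_mul, mul_inv_cancel, Subgroup.coe_one, Units.val_one,
      Matrix.one_mulVec]
  refine ⟨a⁻¹, μ⁻¹ • st M, ⟨hcz, ?_, ?_, ?_, ?_⟩, ha, e2⟩
  · intro h5
    have h6 := congrArg Matrix.det ha
    rw [Matrix.det_mul, h5, mul_zero, Matrix.det_one] at h6
    exact zero_ne_one h6
  · refine ⟨μ⁻¹, inv_ne_zero h1, fun v => ?_, ?_⟩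
    · have h5 := h3 ((μ⁻¹ • st M) *ᵥ v)
      rw [Matrix.mulVec_mulVec, e2, Matrix.one_mulVec] at h5
      rw [h5, inv_mul_cancel_left₀ h1]
    · have h6 := congrArg Matrix.det ha
      rw [Matrix.det_mul, Matrix.det_one] at h6
      have h7 : (a⁻¹).det = (a.det)⁻¹ := eq_inv_of_mul_eq_one_right h6
      rw [h7, ← mul_inv]
      exact h4.inv
  · intro v hv
    have h5 := h.d2 _ (LP_stable h2 hz hcz hv)
    rw [hgg] at h5
    have h6 := congrArg (fun X => a⁻¹ * X * a⁻¹) h5
    rw [mul_assoc a⁻¹ _ a⁻¹, mul_assoc _ a a⁻¹, ha, mul_one, ← mul_assoc a⁻¹ a, ha', one_mul] at h6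
    exact h6.symm
  · intro v hv
    have h5 := h.d6 _ (LP_stable h2 hz hcz hv)
    rw [hgg] at h5
    have h6 := congrArg (fun X => (μ⁻¹ • st M) * X * (μ⁻¹ • st M)) h5
    rw [mul_assoc (μ⁻¹ • st M) _ (μ⁻¹ • st M), mul_assoc _ M (μ⁻¹ • st M), e2, mul_one, ← mul_assoc (μ⁻¹ • st M) M, e1,
      one_mul] at h6
    exact h6.symm

theorem Rl7.scal {g : ↥(chevE7.group F)} {a : Matrix (Fin 2) (Fin 2) F} {M : M12 F} {c d : F}
    (h : Rl7 z g a M) (hc : c ≠ 0) (hd : d ≠ 0) : Rl7 z g (c • a) (d • M) where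
  cz := h.cz
  det := by
    rw [Matrix.det_smul]
    exact mul_ne_zero (pow_ne_zero _ hc) h.det
  sim := by
    obtain ⟨μ, h1, h3, h4⟩ := h.sim
    refine ⟨d * d * μ, mul_ne_zero (mul_ne_zero hd hd) h1, fun v => ?_, ?_⟩
    · rw [Matrix.smul_mulVec, QuadraticMap.map_smul, h3, smul_eq_mul]; ring
    · rw [Matrix.det_smul, Fintype.card_fin]
      obtain ⟨y, hy⟩ := h4
      exact ⟨d * c * y, by linear_combination (d * d * c * c) * hy⟩
  d2 v hv := by rw [mul_smul_comm, smul_mul_assoc, h.d2 v hv]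
  d6 v hv := by rw [mul_smul_comm, smul_mul_assoc, h.d6 v hv]

/-! ### the scalars -/

theorem th2_ev {s : ℕ} (hs : s < 126) : th2 F (ev chevE7 F s) = (2 : F) • E2 F s := by
  exact (congrArg (rx F) (Th_ev T2 chevE7 F hs)).trans (map_smul (rx F) (2 : F) _)

theorem th6_ev {s : ℕ} (hs : s < 126) : th6 F (ev chevE7 F s) = (2 : F) • E6 F s := Th_ev T6 chevE7 F hs

theorem sm_one {i j : ℕ} : sm 1 F [(i, j, 1)] = Matrix.single (ix 1 i) (ix 1 j) 1 := by
  rw [sm_cons, sm_nil, add_zero, Int.cast_one]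

theorem rx_single (i j : Fin 1 ⊕ Fin 1) (c : F) : rx F (Matrix.single i j c) =
    Matrix.single (finSumFinEquiv i) (finSumFinEquiv j) c := by
  ext k l
  show Matrix.single i j c (finSumFinEquiv.symm k) (finSumFinEquiv.symm l) = _
  rw [Matrix.single_apply, Matrix.single_apply]
  congr 1
  rw [eq_iff_iff, Equiv.eq_symm_apply, Equiv.eq_symm_apply]

theorem E2_125 : E2 F 125 = Matrix.single 0 1 1 := by
  have h : E2 F 125 = rx F (sm 1 F [(0, 1, 1)]) := rfl
  rw [h, sm_one, rx_single]; rfl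

theorem E2_0 : E2 F 0 = Matrix.single 1 0 1 := by
  have h : E2 F 0 = rx F (sm 1 F [(1, 0, 1)]) := rfl
  rw [h, sm_one, rx_single]; rfl

theorem E2_else {r : ℕ} (h1 : r ≠ 125) (h0 : r ≠ 0) : E2 F r = 0 := by
  have h : T2.E r = [] := by
    cases hin : T2.In r
    · exact T2_ok.out r hin
    · obtain ⟨p, hp, hpr, hpE⟩ := spec2 hin
      have h3 := List.all_eq_true.1 c2_3 p hp
      rw [Bool.or_eq_true, Bool.or_eq_true] at h3
      rcases h3 with h3 | h3 | h3
      · exact absurd (by rw [← hpr]; exact Nat.eq_of_beq_eq_true h3) h1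
      · exact absurd (by rw [← hpr]; exact Nat.eq_of_beq_eq_true h3) h0
      · rw [hpE, List.isEmpty_iff.1 h3]
  unfold E2
  rw [h, sm_nil]
  exact map_zero (rx F)

/-- the root matrices of `D₆` -/
theorem E6_cases {r : ℕ} (hr : T6.In r = true) : ((r = 125 ∨ r = 0) ∧ E6 F r = 0) ∨ (r ≠ 125 ∧ r ≠ 0 ∧
    ∃ k l : Fin 6 ⊕ Fin 6, l ≠ k ∧ l ≠ k.swap ∧ ∃ c : F, c * c = 1 ∧ E6 F r = c • EE F k l) := by
  obtain ⟨p, hp, hpr, hpE⟩ := spec6 hr
  have h3 := List.all_eq_true.1 c6_7 p hp
  cases h : (Nat.beq p.r 125 || Nat.beq p.r 0)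
  · right
    rw [h, cond_false] at h3
    have hr1 : r ≠ 125 ∧ r ≠ 0 := by
      rw [← hpr]
      rw [Bool.or_eq_false_iff] at h
      refine ⟨fun h4 => ?_, fun h4 => ?_⟩
      · rw [h4] at h; exact absurd h.1 (by decide)
      · rw [h4] at h; exact absurd h.2 (by decide)
    refine ⟨hr1.1, hr1.2, ?_⟩
    split at h3
    · rename_i a b hA
      simp only [Bool.and_eq_true, decide_eq_true_eq, Bool.not_eq_true'] at h3
      obtain ⟨⟨⟨⟨⟨⟨⟨q1, q2⟩, q3⟩, q4⟩, q5⟩, q6⟩, q7⟩, q8⟩ := h3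
      have q1 := Nat.eq_of_beq_eq_true q1
      have q2 := Nat.eq_of_beq_eq_true q2
      have q5' : a.1 < 6 + 6 := Eq.mp Nat.blt_eq q5
      have q6' : a.2.1 < 6 + 6 := Eq.mp Nat.blt_eq q6
      have q7' : a.1 ≠ a.2.1 := fun h4 => by rw [h4, Nat.beq_refl] at q7; exact Bool.noConfusion q7
      have q8' : a.1 ≠ opn 6 a.2.1 := fun h4 => by rw [← h4, Nat.beq_refl] at q8; exact Bool.noConfusion q8
      refine ⟨ix 6 a.2.1, ix 6 a.1, fun h4 => q7' (ix_inj q5' q6' h4), fun h4 => ?_, (a.2.2 : F), ?_, ?_⟩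
      · rw [← ix_opn q6'] at h4
        exact q8' (ix_inj q5' (opn_lt q6') h4)
      · rw [← Int.cast_mul, q4, Int.cast_one]
      · show sm T6.m F (T6.E r) = _
        rw [hpE, hA]
        show sm 6 F [a, b] = _
        rw [sm_cons, sm_cons, sm_nil, add_zero, q1, q2, q3, ix_opn q6', ix_opn q5', EE, smul_sub, Matrix.smul_single,
          Matrix.smul_single, smul_eq_mul, mul_one, Int.cast_neg, sub_eq_add_neg, ← Matrix.single_neg]
    · exact absurd h3 Bool.false_ne_true
  · left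
    rw [h, cond_true] at h3
    refine ⟨?_, ?_⟩
    · rw [Bool.or_eq_true] at h
      rw [← hpr]
      exact h.imp Nat.eq_of_beq_eq_true Nat.eq_of_beq_eq_true
    · show sm T6.m F (T6.E r) = 0
      rw [hpE, List.isEmpty_iff.1 h3, sm_nil]

theorem EE_ne {k l : Fin 6 ⊕ Fin 6} (h3 : l ≠ k.swap) : EE F k l ≠ 0 := by
  intro h
  have h4 := congrFun (congrFun h l) k
  rw [EE, Matrix.sub_apply, Matrix.single_apply_same, Matrix.single_apply_of_ne, sub_zero, Matrix.zero_apply] at h4
  · exact one_ne_zero h4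
  · rintro ⟨h5, h6⟩
    exact h3 h5.symm

/-- **the root vectors occur** -/
theorem hit7 (k l : Fin 6 ⊕ Fin 6) (h1 : l ≠ k) (h3 : l ≠ k.swap) : ∃ r < 126, T6.In r = true ∧ r ≠ 125 ∧ r ≠ 0 ∧
    ∃ c : F, c * c = 1 ∧ E6 F r = c • EE F k l := by
  obtain ⟨r, hr, c, hc, e⟩ := T6_ok2.hitA (F := F) T6_ok (i := l) (j := k) h1 h3
  refine ⟨r, T6_ok.lt r hr, hr, ?_⟩
  have e' : E6 F r = c • EE F k l := e
  rcases E6_cases (F := F) hr with ⟨-, h4⟩ | ⟨h4, h5, -⟩
  · exfalso
    rw [h4] at e'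
    have hc0 : c ≠ 0 := by
      rintro rfl
      rw [mul_zero] at hc
      exact zero_ne_one hc
    exact (smul_ne_zero hc0 (EE_ne h3)) e'.symm
  · exact ⟨h4, h5, c, hc, e'⟩

theorem In_125 : T6.In 125 = true := c7_1.1

theorem In_0 : T6.In 0 = true := c7_1.2

/-- **uniqueness** -/
theorem Rl7.uniq1 (h2 : (2 : F) ≠ 0) {a : Matrix (Fin 2) (Fin 2) F} {M : M12 F} (h : Rl7 z 1 a M) :
    (∃ c : F, a = c • 1) ∧ ∃ c : F, M = c • 1 := by
  have k2 : ∀ v ∈ LP F, th2 F v * a = a * th2 F v := by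
    intro v hv
    have h1 := h.d2 v hv
    rwa [Subgroup.coe_one, Units.val_one, Matrix.one_mulVec] at h1
  have k6 : ∀ v ∈ LP F, th6 F v * M = M * th6 F v := by
    intro v hv
    have h1 := h.d6 v hv
    rwa [Subgroup.coe_one, Units.val_one, Matrix.one_mulVec] at h1
  constructor
  · refine scalar_of_comm2 ?_ ?_
    · have h1 := k2 _ (ev_mem (T := T6) (F := F) (D := chevE7) In_125)
      rw [th2_ev (by norm_num), E2_125, smul_mul_assoc, mul_smul_comm] at h1
      exact (smul_right_injective _ h2 h1).symm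
    · have h1 := k2 _ (ev_mem (T := T6) (F := F) (D := chevE7) In_0)
      rw [th2_ev (by norm_num), E2_0, smul_mul_assoc, mul_smul_comm] at h1
      exact (smul_right_injective _ h2 h1).symm
  · refine scalar_of_comm (by norm_num) fun k l h1 h3 => ?_
    obtain ⟨r, hr, hin, -, -, c, hc, e⟩ := hit7 (F := F) k l h1 h3
    have h4 := k6 _ (ev_mem (T := T6) (F := F) (D := chevE7) hin)
    rw [th6_ev hr, e, smul_smul, smul_mul_assoc, mul_smul_comm] at h4
    have hc0 : c ≠ 0 := by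
      rintro rfl
      rw [mul_zero] at hc
      exact zero_ne_one hc
    exact (smul_right_injective _ (mul_ne_zero h2 hc0) h4).symm

/-- **the kernel** -/
theorem Rl7.ker (h2 : (2 : F) ≠ 0) (hz : Z7 z) {g : ↥(chevE7.group F)} (h : Rl7 z g 1 1) : g = 1 ∨ g = z := by
  have hfix : ∀ v ∈ LP F, ((g : GL chevE7.Idx F) : Matrix chevE7.Idx chevE7.Idx F) *ᵥ v = v := by
    intro v hv
    rw [← sub_eq_zero]
    refine inj7 h2 (Submodule.sub_mem _ (LP_stable h2 hz h.cz hv) hv) ?_ ?_
    · have h1 := h.d2 v hv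
      rw [mul_one, one_mul] at h1
      rw [map_sub, h1, sub_self]
    · have h1 := h.d6 v hv
      rw [mul_one, one_mul] at h1
      rw [map_sub, h1, sub_self]
  obtain ⟨ε, hε, hm⟩ := ker7 h2 g fun s hs hse => by
    rw [rho_eq_mulVec]
    have h3 : Cfsg.Agent.H553.KKL.ex chevE7 F s = ev chevE7 F s := by
      rw [ex_eq hs, ev_eq_single (D := chevE7) hs]
    rw [h3]
    exact hfix _ (ev_mem ((In_iff hs).2 hse))
  rcases mul_self_eq_one_iff.1 hε with h3 | h3
  · left
    apply Subtype.ext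
    apply Units.ext
    rw [hm, h3, Subgroup.coe_one, Units.val_one, ← Matrix.diagonal_one]
    congr 1
    funext j
    rcases j with j | j
    · rfl
    · rw [Sum.elim_inr, ite_self]
  · right
    apply Subtype.ext
    apply Units.ext
    rw [hm, h3]
    exact hz.symm

/-- **the relation** -/
theorem rd7 (h2 : (2 : F) ≠ 0) (hz : Z7 z) : RD z (Rl7 z) where
  two := h2
  cz h := h.cz
  det h := h.det
  sim h := by
    obtain ⟨μ, h1, h3, h4⟩ := h.sim
    exact ⟨μ, h1, h3, iff_of_isSquare_mul h1 h.det h4⟩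
  one := Rl7.one z
  mul h h' := h.mul h2 hz h'
  inv h := h.inv h2 hz
  scal h hc hd := h.scal hc hd
  uniq1 h := h.uniq1 h2
  ker h := h.ker h2 hz

end

end Cfsg.Agent.H249.Co3
end

private theorem dce_6337b8c7b31c : _root_.True := by
  try have : _root_.True := by simp only [_root_.Cfsg.Agent.ClassicalGeometry.SpinorSign.spinorSign.congr_simp]
  try have : _root_.True := by simp only [_root_.Cfsg.Agent.H249.Co3.rt.eq_1]
  try have : _root_.True := by simp only [_root_.Cfsg.Agent.H249.Co3.c6_7._sparseCasesOn_1.else_eq]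
  try have : _root_.True := by simp only [_root_.Cfsg.Agent.H249.Co3.c6_7._sparseCasesOn_2.else_eq]
  try have : _root_.True := by simp only [_root_.Cfsg.Agent.H249.Co3.EE.eq_1]
  try have : _root_.True := by simp only [_root_.Cfsg.Agent.H249.Co3.ee.eq_1]
  try have : _root_.True := by simp only [_root_.Cfsg.Agent.H249.Co3.nn7.eq_1]
  try have : _root_.True := by simp only [_root_.Cfsg.Agent.H627.Co3.sgn.eq_1]
  try have : _root_.True := by simp only [_root_.Cfsg.Agent.H249.Co3.reach7.eq_def]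
  try have : _root_.True := by simp only [_root_.Cfsg.Agent.ChevalleyStructure.JacMain.adH.eq_1]
  exact _root_.True.intro
end

-- part: H249/Co3/Tr7
section
set_option linter.all false
open scoped Cfsg.Agent.FastGrp

/-!
# S1920, case B, `E₇(q)`, THETA12: the torus elements are represented (helper249)
-/

set_option autoImplicit false
set_option linter.unusedSectionVars false
set_option maxRecDepth 100000

open QuadraticMap Module
open Cfsg.Agent.LieClassical Cfsg.Agent.LieClassical.OrthCore Cfsg.Agent.LieClassical.OrthForms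

namespace Cfsg.Agent.H249.Co3

open Cfsg Cfsg.Lie Cfsg.Lie.ChevalleyDatum
open Cfsg.Agent.ChevalleyStructure Cfsg.Agent.ChevalleyStructure.Elts Cfsg.Agent.ChevalleyStructure.XColumns
open Cfsg.Agent.ChevalleyStructure.Columns (cor)
open Cfsg.Agent.H736.Co3
open Matrix

universe u

section

variable {m : ℕ} [NeZero m] {F : Type u} [Field F]

theorem sm_dg {L : Sp} {d : Fin m ⊕ Fin m → F} {χ : F} (h : ∀ a ∈ L, χ * d (ix m a.2.1) = d (ix m a.1)) :
    χ • (sm m F L * Matrix.diagonal d) = Matrix.diagonal d * sm m F L := by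
  induction L with
  | nil => rw [sm_nil, zero_mul, mul_zero, smul_zero]
  | cons a L ih =>
    rw [sm_cons, add_mul, mul_add, smul_add, ih fun b hb => h b (List.mem_cons_of_mem _ hb)]
    congr 1
    ext i j
    rw [Matrix.smul_apply, Matrix.mul_diagonal, Matrix.diagonal_mul, Matrix.single_apply, smul_eq_mul]
    split_ifs with h1
    · rw [← h1.1, ← h1.2, ← h a List.mem_cons_self]; ring
    · rw [zero_mul, mul_zero, mul_zero]

end

section

variable {F : Type u} [Field F]

/-- intertwining for the elements of the torus -/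
theorem tor_th {T : Tb} [NeZero T.m] (O : T.Ok chevE7) {ex : List (List ℤ)}
    (dE : ∀ r, T.In r = true → ∀ a ∈ T.E r, ∀ k < chevE7.rank, exf ex k a.1 = chevE7.cartan k r + exf ex k a.2.1)
    (dH : ∀ i < chevE7.rank, ∀ a ∈ T.H i, a.1 = a.2.1) {t : Matrix chevE7.Idx chevE7.Idx F} {c : ℕ → F}
    (hc : ∀ i < chevE7.rank, c i ≠ 0)
    (ht : t = Matrix.diagonal (Sum.elim (fun _ => (1 : F))
      (fun s : Fin chevE7.nroots => ∏ i ∈ Finset.range chevE7.rank, c i ^ chevE7.cartan i s)))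
    {v : chevE7.Idx → F} (hv : v ∈ Lp T chevE7 F) :
    Th T chevE7 F (t *ᵥ v) * Matrix.diagonal (fun i => ∏ k ∈ Finset.range chevE7.rank, c k ^ exf ex k (nx T.m i)) =
      Matrix.diagonal (fun i => ∏ k ∈ Finset.range chevE7.rank, c k ^ exf ex k (nx T.m i)) * Th T chevE7 F v := by
  set d : Fin T.m ⊕ Fin T.m → F := fun i => ∏ k ∈ Finset.range chevE7.rank, c k ^ exf ex k (nx T.m i) with hd
  set χ : ℕ → F := fun s => ∏ i ∈ Finset.range chevE7.rank, c i ^ chevE7.cartan i s with hχ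
  refine Lp_ind (P := fun v => Th T chevE7 F (t *ᵥ v) * Matrix.diagonal d = Matrix.diagonal d * Th T chevE7 F v)
    ?_ ?_ ?_ ?_ ?_ hv
  · rw [Matrix.mulVec_zero, map_zero, zero_mul, mul_zero]
  · intro v w h1 h3
    rw [Matrix.mulVec_add, map_add, map_add, add_mul, mul_add, h1, h3]
  · intro b v h1
    rw [Matrix.mulVec_smul, map_smul, map_smul, smul_mul_assoc, mul_smul_comm, h1]
  · intro i hi
    rw [diag_hv (χ := fun s => χ s) ht, Th_hv T chevE7 F hi]
    have h1 := sm_dg (m := T.m) (F := F) (L := T.H i) (d := d) (χ := 1) (fun a ha => by rw [one_mul, dH i hi a ha])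
    rwa [one_smul] at h1
  · intro s hs hsi
    have h1 := sm_dg (m := T.m) (F := F) (L := T.E s) (d := d) (χ := χ s) (fun a ha => by
      have hw := wf_iff.1 (O.wfE s) a ha
      simp only [hd, hχ]
      rw [nx_ix hw.1, nx_ix hw.2, ← Finset.prod_mul_distrib]
      refine Finset.prod_congr rfl fun k hk => ?_
      rw [dE s hsi a ha k (Finset.mem_range.1 hk), zpow_add₀ (hc k (Finset.mem_range.1 hk))])
    rw [diag_ev (χ := χ) ht, map_smul, Th_ev T chevE7 F hs, mul_smul_comm, ← h1, smul_mul_assoc, smul_mul_assoc, smul_comm]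

theorem rx_diagonal (d : Fin 1 ⊕ Fin 1 → F) : rx F (Matrix.diagonal d) = Matrix.diagonal (d ∘ finSumFinEquiv.symm) := by
  ext i j
  show Matrix.diagonal d (finSumFinEquiv.symm i) (finSumFinEquiv.symm j) = _
  rw [Matrix.diagonal_apply, Matrix.diagonal_apply]
  by_cases h : i = j
  · rw [if_pos h, if_pos (by rw [h])]; rfl
  · rw [if_neg h, if_neg fun h1 => h (finSumFinEquiv.symm.injective h1)]

/-- **the elements of the torus** -/
theorem tor7 {z t : ↥(chevE7.group F)} {c : ℕ → F} (hc : ∀ i < 7, c i ≠ 0)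
    (ht : ((t : GL chevE7.Idx F) : Matrix chevE7.Idx chevE7.Idx F) = Matrix.diagonal (Sum.elim (fun _ => (1 : F))
      (fun s : Fin chevE7.nroots => ∏ i ∈ Finset.range chevE7.rank, c i ^ chevE7.cartan i s))) (htz : t * z = z * t) :
    ∃ a M, Rl7 z t a M ∧ a.det = c 0 := by
  have hc' : ∀ i < chevE7.rank, c i ≠ 0 := hc
  let d2 : Fin 1 ⊕ Fin 1 → F := fun i => ∏ k ∈ Finset.range 7, c k ^ exf ex2 k (nx 1 i)
  let d6 : Fin 6 ⊕ Fin 6 → F := fun i => ∏ k ∈ Finset.range 7, c k ^ exf ex6 k (nx 6 i)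
  have e0 : d2 (Sum.inl 0) = c 0 := by
    show ∏ k ∈ Finset.range 7, c k ^ exf ex2 k 0 = c 0
    rw [Finset.prod_eq_single 0]
    · exact zpow_one _
    · intro k hk hk0
      have h1 : exf ex2 k 0 = 0 := by
        have hk := Finset.mem_range.1 hk
        interval_cases k <;> first | exact absurd rfl hk0 | rfl
      rw [h1, zpow_zero]
    · intro h
      exact absurd (Finset.mem_range.2 (by norm_num)) h
  have e1 : d2 (Sum.inr 0) = 1 := by
    show ∏ k ∈ Finset.range 7, c k ^ exf ex2 k 1 = 1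
    refine Finset.prod_eq_one fun k hk => ?_
    have h1 : exf ex2 k 1 = 0 := by
      have hk := Finset.mem_range.1 hk
      interval_cases k <;> rfl
    rw [h1, zpow_zero]
  have hdet : (rx F (Matrix.diagonal d2)).det = c 0 := by
    rw [rx_diagonal, Matrix.det_diagonal, Fin.prod_univ_two]
    have h0 : (finSumFinEquiv.symm (0 : Fin 2) : Fin 1 ⊕ Fin 1) = Sum.inl 0 := by decide
    have h1 : (finSumFinEquiv.symm (1 : Fin 2) : Fin 1 ⊕ Fin 1) = Sum.inr 0 := by decide
    rw [Function.comp_apply, Function.comp_apply, h0, h1, e0, e1, mul_one]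
  have hmu : ∏ k ∈ Finset.range 7, c k ^ (exf ex6 k 0 + exf ex6 k 6) = c 0 * c 6 ^ (-2 : ℤ) := by
    have h1 : ∀ k ∈ Finset.range 7, c k ^ (exf ex6 k 0 + exf ex6 k 6) =
        (if k = 0 then c 0 else 1) * (if k = 6 then c 6 ^ (-2 : ℤ) else 1) := by
      intro k hk
      have h3 := of_decide_eq_true (List.all_eq_true.1 c6_8 k (List.mem_range.2 (Finset.mem_range.1 hk)))
      rw [h3]
      by_cases h0 : k = 0
      · subst h0
        rw [if_pos rfl, if_pos rfl, if_neg (by norm_num), zpow_one, mul_one]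
      · rw [if_neg h0, if_neg h0, one_mul]
        by_cases h6 : k = 6
        · subst h6
          rw [if_pos rfl, if_pos rfl]
        · rw [if_neg h6, if_neg h6, zpow_zero]
    rw [Finset.prod_congr rfl h1, Finset.prod_mul_distrib, Finset.prod_ite_eq', Finset.prod_ite_eq',
      if_pos (Finset.mem_range.2 (by norm_num)), if_pos (Finset.mem_range.2 (by norm_num))]
  have hc0 := hc 0 (by norm_num)
  have hc6 := hc 6 (by norm_num)
  refine ⟨rx F (Matrix.diagonal d2), Matrix.diagonal d6, ⟨htz, ?_, ?_, ?_, ?_⟩, hdet⟩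
  · rw [hdet]; exact hc0
  · refine ⟨c 0 * c 6 ^ (-2 : ℤ), mul_ne_zero hc0 (zpow_ne_zero _ hc6), fun v => ?_, ?_⟩
    · rw [coe_plusForm, quadFormPlus_apply, quadFormPlus_apply, Finset.mul_sum]
      refine Finset.sum_congr rfl fun i _ => ?_
      rw [Matrix.mulVec_diagonal, Matrix.mulVec_diagonal]
      have h1 : d6 (Sum.inl i) * d6 (Sum.inr i) = c 0 * c 6 ^ (-2 : ℤ) := by
        rw [← hmu]
        show (∏ k ∈ Finset.range 7, c k ^ exf ex6 k (nx 6 (Sum.inl i))) *
          (∏ k ∈ Finset.range 7, c k ^ exf ex6 k (nx 6 (Sum.inr i))) = _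
        rw [← Finset.prod_mul_distrib]
        refine Finset.prod_congr rfl fun k hk => ?_
        have h3 := T6_ok2.mu k (Finset.mem_range.1 hk) i i.2
        rw [← zpow_add₀ (hc k (Finset.mem_range.1 hk))]
        congr 1
      linear_combination (v (Sum.inl i) * v (Sum.inr i)) * h1
    · rw [hdet]
      refine ⟨c 0 / c 6, ?_⟩
      have h3 : c 6 ^ (-2 : ℤ) = ((c 6) ^ 2)⁻¹ := by
        rw [_root_.zpow_neg, zpow_ofNat]
      rw [h3]
      field_simp
  · intro v hv
    have h1 := tor_th T2_ok (ex := ex2) (c := c)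
      (fun r hr a ha k hk => by
        obtain ⟨p, hp, rfl, e⟩ := spec2 hr
        rw [e] at ha
        exact of_decide_eq_true (List.all_eq_true.1 (List.all_eq_true.1 (List.all_eq_true.1 c2_1 p hp) a ha) k
          (List.mem_range.2 hk)))
      (fun i hi a ha => Nat.eq_of_beq_eq_true (List.all_eq_true.1 (List.all_eq_true.1 c2_2 i (List.mem_range.2 hi)) a ha))
      hc' ht (v := v) hv
    have h3 := congrArg (rx F) h1
    exact (map_mul (rx F) _ _).symm.trans (h3.trans (map_mul (rx F) _ _))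
  · intro v hv
    exact tor_th T6_ok (ex := ex6) (c := c) T6_ok2.dE T6_ok2.dH hc' ht (v := v) hv

end

end Cfsg.Agent.H249.Co3
end

-- part: H249/Co3/Gn7
section
set_option linter.all false
open scoped Cfsg.Agent.FastGrp

/-!
# S1920, case B, `E₇(q)`, THETA12: root elements, generation (helper249)

* `rl_root` : the root elements of `A₁D₆`; `hX7` : they are in `SL₂ × Ω₁₂`; `hom7` : `Ω₁₂` is reached;
* `gn7` : `Gn z (Rl7 z) TT XX` (the torus elements `tor`, the generation of the centraliser `gen` as hypotheses).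
-/

set_option autoImplicit false
set_option linter.unusedSectionVars false
set_option maxRecDepth 100000

open QuadraticMap Module
open Cfsg.Agent.LieClassical.OrthCore Cfsg.Agent.LieClassical.OrthTrans Cfsg.Agent.LieClassical.OrthForms
  Cfsg.Agent.ClassicalGeometry.OrthAutBasic
  Cfsg.Agent.LieClassical.OrthFinite Cfsg.Agent.H887.SiegelMethod

namespace Cfsg.Agent.H249.Co3

open Cfsg Cfsg.Lie Cfsg.Lie.ChevalleyDatum
open Cfsg.Agent.ChevalleyStructure Cfsg.Agent.ChevalleyStructure.Elts Cfsg.Agent.ChevalleyStructure.XColumns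
open Cfsg.Agent.ChevalleyStructure.Columns (cor)
open Cfsg.Agent.H736.Co3
open Matrix

universe u

section

variable {F : Type u} [Field F]

theorem E6_sq {r : ℕ} (hr : T6.In r = true) : E6 F r * E6 F r = 0 := T6_ok.EE hr

theorem E2_sq {r : ℕ} (hr : T6.In r = true) : E2 F r * E2 F r = 0 := by
  have h : sm T2.m F (T2.E r) * sm T2.m F (T2.E r) = 0 := T2_ok.EE (r := r) hr
  have h1 := congrArg (rx F) h
  exact (map_mul (rx F) _ _).symm.trans (h1.trans (map_zero (rx F)))

theorem det_one_E2 {r : ℕ} (a : F) : (1 + a • E2 F r).det = 1 := by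
  by_cases h1 : r = 125
  · subst h1
    rw [E2_125, Matrix.det_fin_two]
    simp
  · by_cases h0 : r = 0
    · subst h0
      rw [E2_0, Matrix.det_fin_two]
      simp
    · rw [E2_else h1 h0, smul_zero, add_zero, Matrix.det_one]

theorem cancel {n : Type*} [Fintype n] [DecidableEq n] {E : Matrix n n F} (hE : E * E = 0) (a : F) (X : Matrix n n F) :
    (1 + a • E) * X * (1 - a • E) * (1 + a • E) = (1 + a • E) * X := by
  have h1 : (1 - a • E) * (1 + a • E) = 1 := by
    rw [sub_mul, mul_add, mul_add, one_mul, mul_one, one_mul, smul_mul_smul_comm, hE, smul_zero]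
    abel
  rw [mul_assoc _ (1 - a • E), h1, mul_one]

/-- **the root elements** -/
theorem rl_root (h2 : (2 : F) ≠ 0) {z g : ↥(chevE7.group F)} {r : ℕ} {a : F} (hr : r < 126) (he : cor chevE7 r 0 % 2 = 0)
    (hg : (g : GL chevE7.Idx F) = xG inE7 r a) (hgz : g * z = z * g) : Rl7 z g (1 + a • E2 F r) (1 + a • E6 F r) where
  cz := hgz
  det := by rw [det_one_E2]; exact one_ne_zero
  sim := ⟨1, one_ne_zero, fun v => by
    rw [one_mul]
    exact tv_iso h2 (E6_sq ((In_iff hr).2 he)) (T6_ok2.stE T6_ok ((In_iff hr).2 he)) a v, by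
    rw [det_one_E2]
    exact ⟨1, rfl⟩⟩
  d2 v hv := by
    rw [hg, coe_xG]
    have h1 := (T2_ok.root (r := r) ((In_iff hr).2 he) a (v := v) hv).2
    have h3 : th2 F (chevE7.x F r a *ᵥ v) = (1 + a • E2 F r) * th2 F v * (1 - a • E2 F r) := by
      have h4 := congrArg (rx F) h1
      refine (show th2 F (chevE7.x F r a *ᵥ v) = _ from h4).trans ?_
      refine (map_mul (rx F) _ _).trans ?_
      congr 1
      · refine (map_mul (rx F) _ _).trans ?_
        congr 1
        refine (map_add (rx F) _ _).trans ?_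
        exact congrArg₂ (fun x y => x + y) (map_one (rx F)) (map_smul (rx F) a _)
      · refine (map_sub (rx F) _ _).trans ?_
        exact congrArg₂ (fun x y => x - y) (map_one (rx F)) (map_smul (rx F) a _)
    rw [h3]
    exact cancel (E2_sq ((In_iff hr).2 he)) a _
  d6 v hv := by
    rw [hg, coe_xG]
    have h1 := (T6_ok.root (r := r) ((In_iff hr).2 he) a (v := v) hv).2
    have h3 : th6 F (chevE7.x F r a *ᵥ v) = (1 + a • E6 F r) * th6 F v * (1 - a • E6 F r) := h1
    rw [h3]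
    exact cancel (E6_sq ((In_iff hr).2 he)) a _

theorem E6_mem {r : ℕ} (hr : T6.In r = true) (a : F) : 1 + a • E6 F r ∈ OmM F := by
  rcases E6_cases (F := F) hr with ⟨-, h⟩ | ⟨-, -, k, l, h1, h3, c, -, h⟩
  · rw [h, smul_zero, add_zero]
    exact omM_one
  · have e : 1 + a • E6 F r = rt k l (a * c) := by
      rw [h, smul_smul]; rfl
    rw [e]
    exact rt_mem_OmM h1 h3 _

theorem hX7 (h2 : (2 : F) ≠ 0) {z g : ↥(chevE7.group F)} {r : ℕ} {a : F} (hr : r < 126) (he : cor chevE7 r 0 % 2 = 0)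
    (hg : (g : GL chevE7.Idx F) = xG inE7 r a) (hgz : g * z = z * g) :
    ∃ x : Matrix.SpecialLinearGroup (Fin 2) F, ∃ N ∈ OmM F, Rl7 z g x N :=
  ⟨⟨1 + a • E2 F r, det_one_E2 a⟩, _, E6_mem ((In_iff hr).2 he) a, rl_root h2 hr he hg hgz⟩

/-- the torus elements -/
def T7s (F : Type u) [Field F] : Set ↥(chevE7.group F) := {g | (g : GL chevE7.Idx F) ∈ chevE7.diagonalSubgroup F}

/-- the root elements -/
def X7s (F : Type u) [Field F] : Set ↥(chevE7.group F) :=
  {g | ∃ r a, r < 126 ∧ cor chevE7 r 0 % 2 = 0 ∧ (g : GL chevE7.Idx F) = xG inE7 r a}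

/-- the root elements of `A₁D₆` commute with `z` -/
theorem cz_root {z g : ↥(chevE7.group F)} (hz : Z7 z) (hzT : z ∈ T7s F) {r : ℕ} {a : F} (hr : r < 126)
    (he : cor chevE7 r 0 % 2 = 0) (hg : (g : GL chevE7.Idx F) = xG inE7 r a) : g * z = z * g := by
  obtain ⟨c, hc, hm, hx⟩ := Cfsg.Agent.H129.Tor.exists_c Cfsg.Agent.Nodes.KindE.isType7 hzT
  have h1 := hx r hr a
  have h3 : ∏ i ∈ Finset.range chevE7.rank, c i ^ chevE7.cartan i r = 1 := by
    have h4 := congrFun (congrFun (hm.symm.trans hz) (Sum.inr ⟨r, hr⟩)) (Sum.inr ⟨r, hr⟩)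
    rw [Matrix.diagonal_apply_eq, Matrix.diagonal_apply_eq, Sum.elim_inr, Sum.elim_inr, if_pos he] at h4
    exact h4
  rw [h3, one_mul, mul_inv_eq_iff_eq_mul] at h1
  apply Subtype.ext
  rw [Subgroup.coe_mul, Subgroup.coe_mul, hg]
  exact h1.symm

/-- the torus elements commute with `z` -/
theorem cz_tor {z g : ↥(chevE7.group F)} (hz : Z7 z) (hg : g ∈ T7s F) : g * z = z * g := by
  obtain ⟨c, hc, hm, -⟩ := Cfsg.Agent.H129.Tor.exists_c Cfsg.Agent.Nodes.KindE.isType7 hg
  apply Subtype.ext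
  apply Units.ext
  rw [Subgroup.coe_mul, Subgroup.coe_mul, Units.val_mul, Units.val_mul, hm,
    show ((z : GL chevE7.Idx F) : Matrix chevE7.Idx chevE7.Idx F) = _ from hz, Matrix.diagonal_mul_diagonal,
    Matrix.diagonal_mul_diagonal]
  congr 1
  funext j
  exact mul_comm _ _

/-- `Ω₁₂` is reached -/
theorem hom7 (h2 : (2 : F) ≠ 0) {z : ↥(chevE7.group F)} (hz : Z7 z) (hzT : z ∈ T7s F) (k l : Fin 6 ⊕ Fin 6) (h1 : l ≠ k)
    (h3 : l ≠ k.swap) (t : F) : ∃ g, Rl7 z g 1 (rt k l t) := by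
  obtain ⟨r, hr, hin, h4, h5, c, hc, e⟩ := hit7 (F := F) k l h1 h3
  have he := (In_iff hr).1 hin
  let g : ↥(chevE7.group F) := ⟨xG inE7 r (t * c), xG_mem_group inE7 r _⟩
  have h6 := rl_root h2 (z := z) (g := g) hr he rfl (cz_root hz hzT hr he rfl)
  refine ⟨g, ?_⟩
  rw [E2_else h4 h5, smul_zero, add_zero, e, smul_smul, mul_assoc, hc, mul_one] at h6
  exact h6

/-- the elements of `E0` -/
theorem mem_E0 (h2 : (2 : F) ≠ 0) {z : ↥(chevE7.group F)} (hz : Z7 z) (hzT : z ∈ T7s F) {g : GL chevE7.Idx F} (hg : g ∈ E0 F) :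
    ∃ h : g ∈ chevE7.group F, ∃ x : Matrix.SpecialLinearGroup (Fin 2) F, ∃ N ∈ OmM F, Rl7 z ⟨g, h⟩ x N := by
  have R := rd7 h2 hz
  induction hg using Subgroup.closure_induction with
  | mem g hg =>
    obtain ⟨r, hr, he, a, rfl⟩ := hg
    exact ⟨xG_mem_group inE7 r a, hX7 h2 hr he rfl (cz_root hz hzT hr he rfl)⟩
  | one => exact ⟨one_mem _, 1, 1, omM_one, R.one⟩
  | mul g g' _ _ ih ih' =>
    obtain ⟨h, x, N, hN, h1⟩ := ih
    obtain ⟨h', x', N', hN', h1'⟩ := ih'
    exact ⟨mul_mem h h', x * x', N * N', omM_mul hN hN', by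
      rw [Matrix.SpecialLinearGroup.coe_mul]
      exact R.mul h1 h1'⟩
  | inv g _ ih =>
    obtain ⟨h, x, N, hN, h1⟩ := ih
    obtain ⟨a', M', h3, h4, h5⟩ := R.inv h1
    obtain ⟨N', hN', h6, h7⟩ := omM_inv hN
    have e1 : a' = ((x⁻¹ : Matrix.SpecialLinearGroup (Fin 2) F) : Matrix (Fin 2) (Fin 2) F) := by
      refine (left_inv_eq_right_inv (a := (x : Matrix (Fin 2) (Fin 2) F)) ?_ h4).symm
      rw [← Matrix.SpecialLinearGroup.coe_mul, inv_mul_cancel, Matrix.SpecialLinearGroup.coe_one]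
    have e2 : M' = N' := (left_inv_eq_right_inv h7 h5).symm
    subst e2
    rw [e1] at h3
    exact ⟨inv_mem h, x⁻¹, M', hN', h3⟩

/-- **the generation** -/
theorem gn7 (h2 : (2 : F) ≠ 0) {z : ↥(chevE7.group F)} (hz : Z7 z) (hzT : z ∈ T7s F)
    (gen : ∀ g, g * z = z * g → g ∈ Subgroup.closure (T7s F ∪ X7s F))
    (tor : ∀ {t : ↥(chevE7.group F)} {c : ℕ → F}, (∀ i < 7, c i ≠ 0) →
      ((t : GL chevE7.Idx F) : Matrix chevE7.Idx chevE7.Idx F) = Matrix.diagonal (Sum.elim (fun _ => (1 : F))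
        (fun s : Fin chevE7.nroots => ∏ i ∈ Finset.range chevE7.rank, c i ^ chevE7.cartan i s)) → t * z = z * t →
      ∃ a M, Rl7 z t a M ∧ a.det = c 0) : Gn z (Rl7 z) (T7s F) (X7s F) where
  gen := gen
  hX := by
    rintro g ⟨r, a, hr, he, hg⟩
    exact hX7 h2 hr he hg (cz_root hz hzT hr he hg)
  hT := by
    intro g hg
    obtain ⟨c, hc, hm, -⟩ := Cfsg.Agent.H129.Tor.exists_c Cfsg.Agent.Nodes.KindE.isType7 hg
    obtain ⟨a, M, h, -⟩ := tor hc hm (cz_tor hz hg)
    exact ⟨a, M, h⟩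
  Tone := one_mem (chevE7.diagonalSubgroup F)
  Tmul g hg h hh := (chevE7.diagonalSubgroup F).mul_mem hg hh
  Tinv g hg := (chevE7.diagonalSubgroup F).inv_mem hg
  hsq := by
    intro g hg a M h hsq
    have R := rd7 h2 hz
    obtain ⟨c, hc, hm, -⟩ := Cfsg.Agent.H129.Tor.exists_c Cfsg.Agent.Nodes.KindE.isType7 hg
    obtain ⟨a', M', h', hd⟩ := tor hc hm (cz_tor hz hg)
    obtain ⟨⟨e, he, h3⟩, -⟩ := R.uniq h' h
    have h4 : IsSquare (c 0) := by
      obtain ⟨y, hy⟩ := hsq
      rw [h3, Matrix.det_smul, Fintype.card_fin, hd] at hy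
      exact ⟨y / e, by field_simp; linear_combination hy⟩
    obtain ⟨h5, x, N, hN, h6⟩ := mem_E0 h2 hz hzT (tor_mem hc hm h4)
    obtain ⟨-, d, hd0, h7⟩ := R.uniq h h6
    exact ⟨d, hd0, by rw [← h7]; exact hN⟩
  hom := hom7 h2 hz hzT

end

end Cfsg.Agent.H249.Co3
end

-- part: H167/Co3/X0E7
section
set_option linter.all false
open scoped Cfsg.Agent.FastGrp

/-!
# S1920, X0 for `E₇(q)`, `q` odd

* `inv_dim` : the involutions of `E₇(q)` have `(-1)`-eigenspaces of dimension `54`, `64`, `70` on the Lie algebra;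
* `four_dim` : `g * g = z`, `m(z) = 64`: `m(g) ∈ {2, 20, 30, 32, 34, 36}`;
* `conj_of_64` : an involution `z` with `m(z) = 64` is classical.
-/

set_option autoImplicit false
set_option linter.unusedSectionVars false

namespace Cfsg.Agent.H167.Co3

open CoxeterSystem Cfsg Cfsg.Lie Cfsg.Lie.ChevalleyDatum
open Cfsg.Agent.ChevalleyStructure Cfsg.Agent.ChevalleyStructure.Elts Cfsg.Agent.ChevalleyStructure.CoxeterGeom
  Cfsg.Agent.ChevalleyStructure.CoxeterGeomTypes Cfsg.Agent.ChevalleyStructure.NPerm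
open Cfsg.Agent.Tits.Roots Cfsg.Agent.Nodes Cfsg.Agent.Nodes.Reps Cfsg.Agent.Nodes.BNOf
  Cfsg.Agent.Nodes.RGDChev Cfsg.Agent.Nodes.Bruhat
open Module

/-- the coefficients of the positive roots -/
def A7 : List (List ℕ) := [[2, 2, 3, 4, 3, 2, 1],
  [1, 2, 3, 4, 3, 2, 1],
  [1, 2, 2, 4, 3, 2, 1],
  [1, 2, 2, 3, 3, 2, 1],
  [1, 2, 2, 3, 2, 2, 1],
  [1, 2, 2, 3, 2, 1, 1],
  [1, 2, 2, 3, 2, 1, 0],
  [1, 1, 2, 3, 3, 2, 1],
  [1, 1, 2, 3, 2, 2, 1],
  [1, 1, 2, 3, 2, 1, 1],
  [1, 1, 2, 3, 2, 1, 0],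
  [1, 1, 2, 2, 2, 2, 1],
  [1, 1, 2, 2, 2, 1, 1],
  [1, 1, 2, 2, 2, 1, 0],
  [1, 1, 2, 2, 1, 1, 1],
  [1, 1, 2, 2, 1, 1, 0],
  [1, 1, 2, 2, 1, 0, 0],
  [1, 1, 1, 2, 2, 2, 1],
  [1, 1, 1, 2, 2, 1, 1],
  [1, 1, 1, 2, 2, 1, 0],
  [1, 1, 1, 2, 1, 1, 1],
  [1, 1, 1, 2, 1, 1, 0],
  [1, 1, 1, 2, 1, 0, 0],
  [1, 1, 1, 1, 1, 1, 1],
  [1, 1, 1, 1, 1, 1, 0],
  [1, 1, 1, 1, 1, 0, 0],
  [1, 1, 1, 1, 0, 0, 0],
  [1, 0, 1, 1, 1, 1, 1],
  [1, 0, 1, 1, 1, 1, 0],
  [1, 0, 1, 1, 1, 0, 0],
  [1, 0, 1, 1, 0, 0, 0],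
  [1, 0, 1, 0, 0, 0, 0],
  [1, 0, 0, 0, 0, 0, 0],
  [0, 1, 1, 2, 2, 2, 1],
  [0, 1, 1, 2, 2, 1, 1],
  [0, 1, 1, 2, 2, 1, 0],
  [0, 1, 1, 2, 1, 1, 1],
  [0, 1, 1, 2, 1, 1, 0],
  [0, 1, 1, 2, 1, 0, 0],
  [0, 1, 1, 1, 1, 1, 1],
  [0, 1, 1, 1, 1, 1, 0],
  [0, 1, 1, 1, 1, 0, 0],
  [0, 1, 1, 1, 0, 0, 0],
  [0, 1, 0, 1, 1, 1, 1],
  [0, 1, 0, 1, 1, 1, 0],
  [0, 1, 0, 1, 1, 0, 0],
  [0, 1, 0, 1, 0, 0, 0],
  [0, 1, 0, 0, 0, 0, 0],
  [0, 0, 1, 1, 1, 1, 1],
  [0, 0, 1, 1, 1, 1, 0],
  [0, 0, 1, 1, 1, 0, 0],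
  [0, 0, 1, 1, 0, 0, 0],
  [0, 0, 1, 0, 0, 0, 0],
  [0, 0, 0, 1, 1, 1, 1],
  [0, 0, 0, 1, 1, 1, 0],
  [0, 0, 0, 1, 1, 0, 0],
  [0, 0, 0, 1, 0, 0, 0],
  [0, 0, 0, 0, 1, 1, 1],
  [0, 0, 0, 0, 1, 1, 0],
  [0, 0, 0, 0, 1, 0, 0],
  [0, 0, 0, 0, 0, 1, 1],
  [0, 0, 0, 0, 0, 1, 0],
  [0, 0, 0, 0, 0, 0, 1]]

/-- the shifts -/
def sh7 : List ℕ := [0, 6, 12, 18, 24, 30, 36, 42, 48, 54, 60, 66, 72, 78, 84, 90, 96, 102, 108, 114, 120, 126, 132, 138, 144, 150, 156, 162, 168, 174, 180, 186, 192, 198, 204, 210, 216, 222, 228, 234, 240, 246, 252, 258, 264, 270, 276, 282, 288, 294, 300, 306, 312, 318, 324, 330, 336, 342, 348, 354, 360, 366, 372]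

def P0 : ℕ := 6376738270869009029928421001353819851278583308661876330562
def P1 : ℕ := 7894019625552168923101305519763275064151660134304457238539493104658315565870745133186
def P2 : ℕ := 8476139023538163248446621291051913679407647955461869602870442690803822680893579383009719099587
def P3 : ℕ := 142206007032669154468503852253812791192132573417249602240470538588350460712662296519933774493750411524
def P4 : ℕ := 37278313710767889466606771157568382555473949811285022006064155930134344045292044330260065178572029164269763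
def P5 : ℕ := 152655850213966835831277024525535515754393195482808562440052102521128747370928146388202687130554851550588051586
def P6 : ℕ := 9621978970583374237371178324826440395142401769489752557674206114497743067381342074260344076983860509530856362049

/-- number of fields `≡ 2 (mod 4)` -/
noncomputable def cq (X : ℕ) : ℕ :=
  List.rec 0 (fun c _ ih => Nat.add ih (Nat.land (Nat.shiftRight 4 (Nat.land (Nat.shiftRight X c) 3)) 1)) sh7

/-- number of odd fields -/
noncomputable def co (X : ℕ) : ℕ :=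
  List.rec 0 (fun c _ ih => Nat.add ih (Nat.land (Nat.shiftRight X c) 1)) sh7

/-- the packed values -/
def X7 (a b c d e f g : ℕ) : ℕ := a * P0 + b * P1 + c * P2 + d * P3 + e * P4 + f * P5 + g * P6

/-- the test -/
noncomputable def ok7 (X : ℕ) : Bool :=
  (!(Nat.beq (co X) 32)) || Nat.beq (Nat.land (Nat.shiftRight 492546 (cq X)) 1) 1

/-! ### packed numbers -/

/-- packing -/
def pk (f : ℕ → ℕ) (n : ℕ) : ℕ := ∑ i ∈ Finset.range n, f i * 64 ^ i

theorem pk_get (f : ℕ → ℕ) (hf : ∀ i, f i < 64) : ∀ (s n : ℕ), s < n → pk f n / 64 ^ s % 64 = f s := by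
  have hsucc : ∀ (f : ℕ → ℕ) (n : ℕ), pk f (n + 1) = f 0 + 64 * pk (fun i => f (i + 1)) n := by
    intro f n
    unfold pk
    rw [Finset.sum_range_succ', pow_zero, mul_one, add_comm, Finset.mul_sum]
    congr 1
    exact Finset.sum_congr rfl fun i _ => by rw [pow_succ]; ring
  intro s
  induction s generalizing f with
  | zero =>
    intro n hn
    obtain ⟨m, rfl⟩ : ∃ m, n = m + 1 := ⟨n - 1, by omega⟩
    rw [hsucc, pow_zero, Nat.div_one, Nat.add_mul_mod_self_left, Nat.mod_eq_of_lt (hf 0)]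
  | succ s ih =>
    intro n hn
    obtain ⟨m, rfl⟩ : ∃ m, n = m + 1 := ⟨n - 1, by omega⟩
    rw [hsucc, pow_succ', ← Nat.div_div_eq_div_mul, Nat.add_mul_div_left _ _ (by norm_num), Nat.div_eq_of_lt (hf 0),
      zero_add]
    exact ih (fun i => f (i + 1)) (fun i => hf _) m (by omega)

/-- the coefficients -/
def c7 (s j : ℕ) : ℕ := (A7.getD s []).getD j 0

theorem sh7_eq : sh7 = (List.range 63).map fun s => 6 * s := by decide +kernel

theorem P_spec : P0 = pk (fun s => c7 s 0) 63 ∧ P1 = pk (fun s => c7 s 1) 63 ∧ P2 = pk (fun s => c7 s 2) 63 ∧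
    P3 = pk (fun s => c7 s 3) 63 ∧ P4 = pk (fun s => c7 s 4) 63 ∧ P5 = pk (fun s => c7 s 5) 63 ∧
    P6 = pk (fun s => c7 s 6) 63 := by decide +kernel

/-- the values -/
def va (a b c d e f g s : ℕ) : ℕ :=
  a * c7 s 0 + b * c7 s 1 + c * c7 s 2 + d * c7 s 3 + e * c7 s 4 + f * c7 s 5 + g * c7 s 6

theorem X7_eq (a b c d e f g : ℕ) : X7 a b c d e f g = pk (va a b c d e f g) 63 := by
  unfold X7
  obtain ⟨h0, h1, h2, h3, h4, h5, h6⟩ := P_spec
  rw [h0, h1, h2, h3, h4, h5, h6]
  unfold pk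
  simp only [Finset.mul_sum, ← Finset.sum_add_distrib]
  refine Finset.sum_congr rfl fun s _ => ?_
  unfold va
  ring

theorem c7_le : ∀ s, c7 s 0 + c7 s 1 + c7 s 2 + c7 s 3 + c7 s 4 + c7 s 5 + c7 s 6 ≤ 17 := by
  intro s
  by_cases hs : s < 63
  · revert s
    decide +kernel
  · have h : A7.getD s [] = [] := List.getD_eq_default _ _ (by
      have : A7.length = 63 := by decide +kernel
      omega)
    unfold c7
    rw [h]
    simp

theorem va_lt {a b c d e f g : ℕ} (ha : a < 4) (hb : b < 4) (hc : c < 4) (hd : d < 4) (he : e < 4) (hf : f < 4)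
    (hg : g < 4) (s : ℕ) : va a b c d e f g s < 64 := by
  have h := c7_le s
  unfold va
  have h0 : a * c7 s 0 ≤ 3 * c7 s 0 := Nat.mul_le_mul_right _ (by omega)
  have h1 : b * c7 s 1 ≤ 3 * c7 s 1 := Nat.mul_le_mul_right _ (by omega)
  have h2 : c * c7 s 2 ≤ 3 * c7 s 2 := Nat.mul_le_mul_right _ (by omega)
  have h3 : d * c7 s 3 ≤ 3 * c7 s 3 := Nat.mul_le_mul_right _ (by omega)
  have h4 : e * c7 s 4 ≤ 3 * c7 s 4 := Nat.mul_le_mul_right _ (by omega)
  have h5 : f * c7 s 5 ≤ 3 * c7 s 5 := Nat.mul_le_mul_right _ (by omega)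
  have h6 : g * c7 s 6 ≤ 3 * c7 s 6 := Nat.mul_le_mul_right _ (by omega)
  omega

theorem fold_eq (t : ℕ → ℕ) (l : List ℕ) :
    (List.rec 0 (fun c _ ih => Nat.add ih (t c)) l : ℕ) = (l.map t).sum := by
  induction l with
  | nil => rfl
  | cons c l ih =>
    rw [List.map_cons, List.sum_cons, ← ih, add_comm]
    rfl

theorem sum_range_list (t : ℕ → ℕ) (n : ℕ) : ((List.range n).map t).sum = ∑ s ∈ Finset.range n, t s := by
  induction n with
  | zero => rfl
  | succ n ih => rw [List.range_succ, List.map_append, List.sum_append, ih, Finset.sum_range_succ]; simp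

theorem cq_sum (X : ℕ) : cq X = (sh7.map fun c => (4 >>> ((X >>> c) &&& 3)) &&& 1).sum :=
  fold_eq (fun c => (4 >>> ((X >>> c) &&& 3)) &&& 1) sh7

theorem co_sum (X : ℕ) : co X = (sh7.map fun c => (X >>> c) &&& 1).sum :=
  fold_eq (fun c => (X >>> c) &&& 1) sh7

theorem t_four : ∀ x < 4, (4 >>> x) &&& 1 = if x = 2 then 1 else 0 := by decide

theorem cq_of {X : ℕ} {f : ℕ → ℕ} (h : ∀ s < 63, X / 64 ^ s % 64 = f s) :
    cq X = ∑ s ∈ Finset.range 63, if f s % 4 = 2 then 1 else 0 := by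
  rw [cq_sum, sh7_eq, List.map_map, sum_range_list]
  refine Finset.sum_congr rfl fun s hs => ?_
  rw [Finset.mem_range] at hs
  have h2 := h s hs
  have h3 : (X >>> (6 * s)) &&& 3 = f s % 4 := by
    rw [Nat.shiftRight_eq_div_pow, pow_mul, show (2 : ℕ) ^ 6 = 64 by norm_num,
      show (3 : ℕ) = 2 ^ 2 - 1 by norm_num, Nat.and_two_pow_sub_one_eq_mod, show (2 : ℕ) ^ 2 = 4 by norm_num, ← h2]
    omega
  have h4 := t_four (f s % 4) (Nat.mod_lt _ (by norm_num))
  rw [Function.comp_apply, h3, h4]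

theorem co_of {X : ℕ} {f : ℕ → ℕ} (h : ∀ s < 63, X / 64 ^ s % 64 = f s) :
    co X = ∑ s ∈ Finset.range 63, if f s % 2 = 1 then 1 else 0 := by
  rw [co_sum, sh7_eq, List.map_map, sum_range_list]
  refine Finset.sum_congr rfl fun s hs => ?_
  rw [Finset.mem_range] at hs
  have h2 := h s hs
  have h3 : (X >>> (6 * s)) &&& 1 = f s % 2 := by
    rw [Nat.shiftRight_eq_div_pow, pow_mul, show (2 : ℕ) ^ 6 = 64 by norm_num, Nat.and_one_is_mod, ← h2]
    omega
  rw [Function.comp_apply, h3]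
  split_ifs <;> omega

private theorem lane6 (k : ℕ) : ∀ z : ℕ, z &&& (Nat.rec 0 (fun _ K => 2 ^ 6 * K + 1) k : ℕ) ≡
    ∑ j ∈ Finset.range k, (z.testBit (6 * j)).toNat [MOD 63] := by
  induction k with
  | zero => exact fun z => by rw [Finset.sum_range_zero]; exact congrArg (· % 63) (Nat.and_zero z)
  | succ k ih =>
    intro z
    have h := ih (z / 2 ^ 6)
    simp only [Nat.testBit_div_two_pow] at h
    show z &&& (2 ^ 6 * (Nat.rec 0 (fun _ K => 2 ^ 6 * K + 1) k : ℕ) + 1) ≡ _ [MOD 63]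
    generalize (Nat.rec 0 (fun _ K => 2 ^ 6 * K + 1) k : ℕ) = K at h ⊢
    have h1 : z % 2 ^ 6 &&& 1 = (z.testBit (6 * 0)).toNat := by
      rw [Nat.and_one_is_mod, Nat.toNat_testBit]
      omega
    rw [← Nat.div_add_mod (z &&& _) (2 ^ 6), Nat.and_div_two_pow, Nat.and_mod_two_pow, show (2 ^ 6 * K + 1) / 2 ^ 6 = K by omega,
      show (2 ^ 6 * K + 1) % 2 ^ 6 = 1 by omega, h1, Finset.sum_range_succ']
    refine Nat.ModEq.add_right _ (Nat.ModEq.trans ?_ h)
    unfold Nat.ModEq
    omega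

/-- the number of odd fields modulo `63` -/
private def cm (z : ℕ) : ℕ := Nat.mod (Nat.land z 0x1041041041041041041041041041041041041041041041041041041041041041041041041041041041041041041041) 63

private theorem cm_spec {z s : ℕ} {f : ℕ → ℕ} (hs : s = (sh7.map f).sum) (hf : ∀ c, f c = (z.testBit c).toNat) :
    s = cm z ∨ cm z = 0 ∧ s = 63 := by
  have e : (Nat.rec 0 (fun _ K => 2 ^ 6 * K + 1) 63 : ℕ) = 0x1041041041041041041041041041041041041041041041041041041041041041041041041041041041041041041041 := by decide +kernel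
  have h1 : cm z = (∑ j ∈ Finset.range 63, (z.testBit (6 * j)).toNat) % 63 := by
    have h := lane6 63 z
    rw [e] at h
    exact h
  have h2 : ∑ j ∈ Finset.range 63, (z.testBit (6 * j)).toNat ≤ 63 :=
    (Finset.sum_le_card_nsmul _ _ 1 fun j _ => Bool.toNat_le _).trans (by rw [Finset.card_range]; rfl)
  rw [sh7_eq, List.map_map, sum_range_list] at hs
  simp only [Function.comp, hf] at hs
  omega

/-- the test by residues -/
private noncomputable def okF (X : ℕ) : Bool := Bool.rec true (Nat.beq (Nat.land (Nat.shiftRight 492546 (cm (Nat.xor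
  (Nat.shiftRight X 1) (Nat.land (Nat.shiftRight X 1) X)))) 1) 1) (Nat.beq (cm X) 32)

/-- the test on a forced argument -/
private noncomputable def okV (X : ℕ) : Bool := Nat.rec true (fun X _ => okF X) (Nat.succ X)

private theorem ok7_of (X : ℕ) (h : okV X = true) : ok7 X = true := by
  have h1 := cm_spec (z := X) (co_sum X) fun c => by rw [Nat.toNat_testBit, Nat.and_one_is_mod, Nat.shiftRight_eq_div_pow]
  have h2 := cm_spec (z := (X >>> 1) ^^^ ((X >>> 1) &&& X)) (cq_sum X) fun c => by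
    have h3 : ∀ t < 2 ^ 2, (4 >>> t) &&& 1 = (t.testBit 1 ^^ (t.testBit 1 && t.testBit 0)).toNat := by decide +kernel
    rw [show ∀ y : ℕ, y &&& 3 = y % 2 ^ 2 from fun y => Nat.and_two_pow_sub_one_eq_mod y 2, h3 _ (Nat.mod_lt _ (by decide)), Nat.testBit_mod_two_pow, Nat.testBit_mod_two_pow,
      Nat.testBit_xor, Nat.testBit_and, Nat.testBit_shiftRight, Nat.testBit_shiftRight, Nat.testBit_shiftRight, Nat.add_comm 1 c]
    rfl
  have h3 : (Bool.rec true (Nat.beq (Nat.land (Nat.shiftRight 492546 (cm ((X >>> 1) ^^^ ((X >>> 1) &&& X)))) 1) 1)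
    (Nat.beq (cm X) 32) : Bool) = true := h
  delta ok7
  cases h4 : Nat.beq (co X) 32 with
  | false => rfl
  | true =>
    have h5 := Nat.eq_of_beq_eq_true h4
    rw [show cm X = 32 by omega] at h3
    rcases h2 with h2 | h2
    · rw [h2]
      exact h3
    · rw [h2.1] at h3
      cases h3

private theorem all7 {p q : ℕ → Bool} (h : ∀ X, p X = true → q X = true) (F : ℕ → ℕ → ℕ → ℕ → ℕ → ℕ → ℕ → ℕ) (l : List ℕ)
    (H : (l.all fun a => l.all fun b => l.all fun c => l.all fun d => l.all fun e => l.all fun f => l.all fun g =>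
    p (F a b c d e f g)) = true) : (l.all fun a => l.all fun b => l.all fun c => l.all fun d => l.all fun e =>
    l.all fun f => l.all fun g => q (F a b c d e f g)) = true := by
  simp only [List.all_eq_true] at H ⊢
  exact fun a ha b hb c hc d hd e he f hf g hg => h _ (H a ha b hb c hc d hd e he f hf g hg)

theorem tab_four : ((List.range 4).all fun a => (List.range 4).all fun b => (List.range 4).all fun c =>
    (List.range 4).all fun d => (List.range 4).all fun e => (List.range 4).all fun f => (List.range 4).all fun g =>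
    ok7 (X7 a b c d e f g)) = true :=
  all7 ok7_of X7 (List.range 4) (by decide +kernel)

theorem cq_eq {f : ℕ → ℕ} (hf : ∀ i, f i < 64) : cq (pk f 63) = ∑ s ∈ Finset.range 63, if f s % 4 = 2 then 1 else 0 :=
  cq_of fun s hs => pk_get f hf s 63 hs

theorem co_eq {f : ℕ → ℕ} (hf : ∀ i, f i < 64) : co (pk f 63) = ∑ s ∈ Finset.range 63, if f s % 2 = 1 then 1 else 0 :=
  co_of fun s hs => pk_get f hf s 63 hs

/-! ### the roots -/

theorem vec_spec : ∀ s < 63, ∀ j : Fin 7, vec chevE7 7 s j = -(c7 s j : ℤ) ∧ vec chevE7 7 (125 - s) j = c7 s j := by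
  decide +kernel

theorem nroots_E7 : chevE7.nroots = 126 := by decide +kernel

/-- counting over the roots by a condition which is the same on `s` and `125 - s` -/
theorem card_roots (Q : (Fin 7 → ℤ) → Prop) [DecidablePred Q] (q : ℕ → Prop) [DecidablePred q]
    (h1 : ∀ s < 63, Q (vec chevE7 7 s) ↔ q s) (h2 : ∀ s < 63, Q (vec chevE7 7 (125 - s)) ↔ q s) :
    Nat.card {s : Fin chevE7.nroots // Q (vec chevE7 7 s)} = 2 * ∑ s ∈ Finset.range 63, if q s then 1 else 0 := by
  have e1 : Nat.card {s : Fin chevE7.nroots // Q (vec chevE7 7 s)} =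
      ∑ s ∈ Finset.range 126, if Q (vec chevE7 7 s) then 1 else 0 := by
    rw [Nat.card_eq_fintype_card, Fintype.card_subtype, Finset.card_filter, ← nroots_E7]
    exact (Fin.sum_univ_eq_sum_range (fun s => if Q (vec chevE7 7 s) then 1 else 0) chevE7.nroots)
  have e2 : ∑ s ∈ Finset.range 63, (if Q (vec chevE7 7 (63 + s)) then 1 else 0) =
      ∑ s ∈ Finset.range 63, if q s then 1 else 0 := by
    rw [← Finset.sum_range_reflect]
    refine Finset.sum_congr rfl fun s hs => ?_
    rw [Finset.mem_range] at hs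
    have h3 : 63 + (63 - 1 - s) = 125 - s := by omega
    rw [h3]
    exact if_congr (h2 s hs) rfl rfl
  have e3 : ∑ s ∈ Finset.range 63, (if Q (vec chevE7 7 s) then 1 else 0) =
      ∑ s ∈ Finset.range 63, if q s then 1 else 0 :=
    Finset.sum_congr rfl fun s hs => if_congr (h1 s (Finset.mem_range.1 hs)) rfl rfl
  rw [e1, show 126 = 63 + 63 by norm_num, Finset.sum_range_add, e2, e3]
  ring

/-- **the table**: `e : Fin 7 → ℤ` -/
theorem exists_digits (e : Fin 7 → ℤ) : ∃ a b c d i f g : ℕ, a < 4 ∧ b < 4 ∧ c < 4 ∧ d < 4 ∧ i < 4 ∧ f < 4 ∧ g < 4 ∧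
    Nat.card {s : Fin chevE7.nroots // pr e (vec chevE7 7 s) % 4 = 2} = 2 * cq (X7 a b c d i f g) ∧
    Nat.card {s : Fin chevE7.nroots // pr e (vec chevE7 7 s) % 2 = 1} = 2 * co (X7 a b c d i f g) ∧
    ((∀ j, e j % 2 = 0) → a % 2 = 0 ∧ b % 2 = 0 ∧ c % 2 = 0 ∧ d % 2 = 0 ∧ i % 2 = 0 ∧ f % 2 = 0 ∧ g % 2 = 0) := by
  have hd : ∀ j, ∃ n : ℕ, n < 4 ∧ (n : ℤ) = e j % 4 := fun j => by
    have h5 := Int.emod_nonneg (e j) (by norm_num : (4 : ℤ) ≠ 0)
    have h6 := Int.emod_lt_of_pos (e j) (by norm_num : (0 : ℤ) < 4)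
    exact ⟨(e j % 4).toNat, by omega, by omega⟩
  choose n hn hne using hd
  have hv : ∀ i, va (n 0) (n 1) (n 2) (n 3) (n 4) (n 5) (n 6) i < 64 := va_lt (hn 0) (hn 1) (hn 2) (hn 3) (hn 4) (hn 5) (hn 6)
  obtain ⟨t, ht⟩ : ∃ t : Fin 7 → ℤ, ∀ j, e j = n j + 4 * t j :=
    ⟨fun j => e j / 4, fun j => by have := hne j; show e j = n j + 4 * (e j / 4); omega⟩
  have hval : ∀ s < 63, ∃ m : ℤ, pr e (vec chevE7 7 s) = -(va (n 0) (n 1) (n 2) (n 3) (n 4) (n 5) (n 6) s : ℤ) + 4 * m := by
    intro s hs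
    have h := fun j => (vec_spec s hs j).1
    refine ⟨-((c7 s 0 : ℤ) * t 0 + c7 s 1 * t 1 + c7 s 2 * t 2 + c7 s 3 * t 3 + c7 s 4 * t 4 + c7 s 5 * t 5 +
      c7 s 6 * t 6), ?_⟩
    unfold pr va
    rw [Fin.sum_univ_seven, h 0, h 1, h 2, h 3, h 4, h 5, h 6, ht 0, ht 1, ht 2, ht 3, ht 4, ht 5, ht 6]
    simp only [Fin.val_zero, Fin.val_one, Fin.val_two, show ((3 : Fin 7) : ℕ) = 3 from rfl,
      show ((4 : Fin 7) : ℕ) = 4 from rfl, show ((5 : Fin 7) : ℕ) = 5 from rfl, show ((6 : Fin 7) : ℕ) = 6 from rfl]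
    push_cast
    ring
  have hval' : ∀ s < 63, ∃ m : ℤ, pr e (vec chevE7 7 (125 - s)) =
      (va (n 0) (n 1) (n 2) (n 3) (n 4) (n 5) (n 6) s : ℤ) + 4 * m := by
    intro s hs
    have h := fun j => (vec_spec s hs j).2
    refine ⟨((c7 s 0 : ℤ) * t 0 + c7 s 1 * t 1 + c7 s 2 * t 2 + c7 s 3 * t 3 + c7 s 4 * t 4 + c7 s 5 * t 5 +
      c7 s 6 * t 6), ?_⟩
    unfold pr va
    rw [Fin.sum_univ_seven, h 0, h 1, h 2, h 3, h 4, h 5, h 6, ht 0, ht 1, ht 2, ht 3, ht 4, ht 5, ht 6]
    simp only [Fin.val_zero, Fin.val_one, Fin.val_two, show ((3 : Fin 7) : ℕ) = 3 from rfl,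
      show ((4 : Fin 7) : ℕ) = 4 from rfl, show ((5 : Fin 7) : ℕ) = 5 from rfl, show ((6 : Fin 7) : ℕ) = 6 from rfl]
    push_cast
    ring
  refine ⟨n 0, n 1, n 2, n 3, n 4, n 5, n 6, hn 0, hn 1, hn 2, hn 3, hn 4, hn 5, hn 6, ?_, ?_, fun h => ?_⟩
  · rw [X7_eq, cq_eq hv]
    refine card_roots (fun v => pr e v % 4 = 2) _ (fun s hs => ?_) (fun s hs => ?_)
    · obtain ⟨m, hm⟩ := hval s hs
      simp only [hm]
      omega
    · obtain ⟨m, hm⟩ := hval' s hs
      simp only [hm]
      omega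
  · rw [X7_eq, co_eq hv]
    refine card_roots (fun v => pr e v % 2 = 1) _ (fun s hs => ?_) (fun s hs => ?_)
    · obtain ⟨m, hm⟩ := hval s hs
      simp only [hm]
      omega
    · obtain ⟨m, hm⟩ := hval' s hs
      simp only [hm]
      omega
  · have h7 : ∀ j, n j % 2 = 0 := fun j => by have h1 := h j; have h2 := hne j; omega
    exact ⟨h7 0, h7 1, h7 2, h7 3, h7 4, h7 5, h7 6⟩

theorem four_tab (e : Fin 7 → ℤ) (h : Nat.card {s : Fin chevE7.nroots // pr e (vec chevE7 7 s) % 2 = 1} = 64) :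
    Nat.card {s : Fin chevE7.nroots // pr e (vec chevE7 7 s) % 4 = 2} ∈ [2, 20, 30, 32, 34, 36] := by
  obtain ⟨a, b, c, d, i, f, g, ha, hb, hc, hd, hi, hf, hg, h1, h2, -⟩ := exists_digits e
  rw [h2] at h
  rw [h1]
  have h3 := tab_four
  simp only [List.all_eq_true, List.mem_range] at h3
  have h4 := h3 a ha b hb c hc d hd i hi f hf g hg
  have h5 : co (X7 a b c d i f g) = 32 := by omega
  unfold ok7 at h4
  rw [h5] at h4
  have h6 : Nat.beq (Nat.land (Nat.shiftRight 492546 (cq (X7 a b c d i f g))) 1) 1 = true := by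
    simpa using h4
  have h7 : (492546 >>> cq (X7 a b c d i f g)) &&& 1 = 1 := Nat.eq_of_beq_eq_true h6
  generalize cq (X7 a b c d i f g) = x at h7 ⊢
  have h8 : x < 19 := by
    by_contra h9
    have h10 : 492546 >>> x = 0 := by
      rw [Nat.shiftRight_eq_div_pow]
      refine Nat.div_eq_of_lt (lt_of_lt_of_le (by norm_num : 492546 < 2 ^ 19) (Nat.pow_le_pow_right (by norm_num) (by omega)))
    rw [h10] at h7
    exact absurd h7 (by decide)
  revert h7
  revert x
  decide +kernel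

theorem inv_tab (e : Fin 7 → ℤ) (h : ∀ j, e j % 2 = 0) :
    Nat.card {s : Fin chevE7.nroots // pr e (vec chevE7 7 s) % 4 = 2} ∈ [0, 54, 64, 70] := by
  obtain ⟨a, b, c, d, i, f, g, ha, hb, hc, hd, hi, hf, hg, h1, h2, h3⟩ := exists_digits e
  obtain ⟨ha', hb', hc', hd', hi', hf', hg'⟩ := h3 h
  rw [h1]
  have key : ∀ a < 2, ∀ b < 2, ∀ c < 2, ∀ d < 2, ((List.range 2).all fun i => (List.range 2).all fun f =>
      (List.range 2).all fun g => [0, 27, 32, 35].contains (cq (X7 (2 * a) (2 * b) (2 * c) (2 * d) (2 * i) (2 * f) (2 * g))))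
        = true := by
    decide +kernel
  have h4 := key (a / 2) (by omega) (b / 2) (by omega) (c / 2) (by omega) (d / 2) (by omega)
  simp only [List.all_eq_true, List.mem_range] at h4
  have h5 := h4 (i / 2) (by omega) (f / 2) (by omega) (g / 2) (by omega)
  rw [show 2 * (a / 2) = a by omega, show 2 * (b / 2) = b by omega, show 2 * (c / 2) = c by omega,
    show 2 * (d / 2) = d by omega, show 2 * (i / 2) = i by omega, show 2 * (f / 2) = f by omega,
    show 2 * (g / 2) = g by omega] at h5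
  simp only [List.contains_eq_mem, List.mem_cons, List.not_mem_nil, or_false, decide_eq_true_eq] at h5 ⊢
  omega

/-! ### the group -/

open Cfsg.Agent.UGT.U2.FOne (isType_E7)
open Cfsg.Agent.GenExc.Chev (zS)

variable {F : Type} [Field F] [Fintype F]

theorem two_ne (ho : Odd (Fintype.card F)) : (2 : F) ≠ 0 := by
  intro h
  obtain ⟨p, hp⟩ := CharP.exists F
  have hpp : Fact p.Prime := ⟨CharP.char_is_prime F p⟩
  have h1 : ((2 : ℕ) : F) = 0 := by exact_mod_cast h
  rw [CharP.cast_eq_zero_iff F p] at h1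
  have h2 : p = 2 := (Nat.prime_dvd_prime_iff_eq hpp.out Nat.prime_two).1 h1
  subst h2
  obtain ⟨n, -, hn⟩ := FiniteField.card F 2
  rw [hn] at ho
  exact (Nat.not_even_iff_odd.2 ho) ((Nat.even_pow.2 ⟨even_two, n.pos.ne'⟩))

theorem mL_one {D : ChevalleyDatum} (h2 : (2 : F) ≠ 0) : mL D (1 : ↥(D.group F)) = 0 := by
  unfold mL mm
  have h1 : LinearMap.ker (Matrix.toLin' (((1 : ↥(D.group F)) : GL D.Idx F) : Matrix D.Idx D.Idx F) + 1) = ⊥ := by
    rw [LinearMap.ker_eq_bot']
    intro v hv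
    rw [OneMemClass.coe_one, Units.val_one, Matrix.toLin'_one, LinearMap.add_apply, LinearMap.id_apply,
      Module.End.one_apply] at hv
    have h3 : (2 : F) • v = 0 := by rw [two_smul]; exact hv
    exact (smul_eq_zero.1 h3).resolve_left h2
  rw [h1, finrank_bot]

/-- the simple roots -/
theorem even_of_roots {e : Fin 7 → ℤ} (h : ∀ s < chevE7.nroots, pr e (vec chevE7 7 s) % 2 = 0) (j : Fin 7) :
    e j % 2 = 0 := by
  obtain ⟨r, hr, hrj⟩ := (isRoot_iff isType_E7 (CoxeterMatrix.toCoxeterSystem _) (sr j)).1 (isRoot_sr _ _ j)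
  have h1 := h r hr
  rw [hrj] at h1
  have h2 : pr e (sr j) = e j := by
    unfold pr
    rw [Finset.sum_eq_single j]
    · simp [sr]
    · intro i _ hi
      simp [sr, hi]
    · intro h; exact absurd (Finset.mem_univ _) h
  rwa [h2] at h1

/-- **X0b**: elements with square `z`, `m(z) = 64` -/
theorem four_dim (ho : Odd (Fintype.card F)) {g z : ↥(chevE7.group F)} (hg : g * g = z) (hz : z * z = 1)
    (h64 : mL chevE7 z = 64) : mL chevE7 g ∈ [2, 20, 30, 32, 34, 36] := by
  have h4 : g ^ 4 = 1 := by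
    have : g ^ 4 = g * g * (g * g) := by simp only [pow_succ, pow_zero, one_mul, mul_assoc]
    rw [this, hg, hz]
  obtain ⟨e, h1, h5, h6, h7⟩ := exists_exp isType_E7 (two_ne ho) h4
  rw [hg, h64] at h5
  rw [h1]
  exact four_tab e h5.symm

/-- **X0c**: the classical class -/
theorem conj_of_64 (ho : Odd (Fintype.card F)) {z : ↥(chevE7.group F)} (hz : z * z = 1) (h64 : mL chevE7 z = 64) :
    IsConj (zS isType_E7 F [0]) z := by
  refine Cfsg.Agent.H553.KKL.conj_of_four ho hz ?_ ?_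
  · rintro rfl
    rw [mL_one (two_ne ho)] at h64
    exact absurd h64 (by norm_num)
  · have h1 : finrank F ↥(LinearMap.ker (Cfsg.Agent.H167.EX.rho chevE7 F z + 1)) = 64 := h64
    rw [h1]
    norm_num

/-- **X0a**: the involutions of `E₇(q)` -/
theorem inv_dim (ho : Odd (Fintype.card F)) {g : ↥(chevE7.group F)} (hg : g * g = 1) (hg1 : g ≠ 1) :
    mL chevE7 g = 54 ∨ mL chevE7 g = 64 ∨ mL chevE7 g = 70 := by
  have h4 : g ^ 4 = 1 := by
    have : g ^ 4 = g * g * (g * g) := by simp only [pow_succ, pow_zero, one_mul, mul_assoc]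
    rw [this, hg, one_mul]
  obtain ⟨e, h1, h5, h6, h7⟩ := exists_exp isType_E7 (two_ne ho) h4
  have h8 := inv_tab e (even_of_roots (h7 hg))
  rw [← h1] at h8
  simp only [List.mem_cons, List.not_mem_nil, or_false] at h8
  rcases h8 with h8 | h8
  · exfalso
    apply hg1
    refine h6 fun s hs => ?_
    have h9 : IsEmpty {s : Fin chevE7.nroots // pr e (vec chevE7 7 s) % 4 = 2} := by
      rw [h8] at h1
      exact (Nat.card_eq_zero.1 h1.symm).resolve_right (fun h => (not_infinite_iff_finite.2 inferInstance) h)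
    have h10 := h7 hg s hs
    have h11 : ¬ pr e (vec chevE7 7 s) % 4 = 2 := fun h => h9.false ⟨⟨s, hs⟩, h⟩
    omega
  · exact h8

end Cfsg.Agent.H167.Co3
end

-- part: H169/Co3/ModGen_mg
section
prune_inst 0x41540614444c002000018058631202040280000200040000088400200030884602080284110600016023208552031004001100030026800000400000001180080080004069308a10c640088800080000000000000000000000000000000000000000000000
set_option linter.all false
open scoped Cfsg.Agent.FastGrp

-- part: H169/Co3/ModGen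
section
/-!
# S1920: the adjoint module and elements of order prime to `p` (helper169)

* `exists_dg` : diagonal form of an element of order prime to `p`;
* `eig_inv` : `z` a power of `g`: the eigenvalues of `g` on the `(-1)`-eigenspace of `z` are closed under inversion;
* `finrank_neg` : the dimension of the `(-1)`-eigenspace of an involution.
-/

set_option autoImplicit false
set_option linter.unusedSectionVars false

namespace Cfsg.Agent.H169.Co3

open CoxeterSystem Cfsg Cfsg.Lie Cfsg.Lie.ChevalleyDatum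
open Cfsg.Agent.ChevalleyStructure Cfsg.Agent.ChevalleyStructure.Elts Cfsg.Agent.ChevalleyStructure.CoxeterGeom
  Cfsg.Agent.ChevalleyStructure.CoxeterGeomTypes Cfsg.Agent.ChevalleyStructure.NPerm
open Cfsg.Agent.Tits.Roots Cfsg.Agent.Nodes Cfsg.Agent.Nodes.Reps Cfsg.Agent.Nodes.BNOf
  Cfsg.Agent.Nodes.RGDChev
open Cfsg.Agent.KFacts.RgdChevCoord Cfsg.Agent.BpExc.TorAll Cfsg.Agent.BpExc.TorChev
open Cfsg.Agent.H167.EX Cfsg.Agent.H971.RV
open Module Matrix

universe u

theorem prod_neg_one {ι : Type*} {A : Type*} [CommGroup A] [HasDistribNeg A] (s : Finset ι) (f : ι → ℤ) :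
    ∏ i ∈ s, (-1 : A) ^ (f i) = (-1) ^ (∑ i ∈ s, f i) := by
  classical
  induction s using Finset.induction_on with
  | empty => simp
  | insert a s ha ih => rw [Finset.prod_insert ha, Finset.sum_insert ha, ih, _root_.zpow_add]

section gen

variable {D : ChevalleyDatum} {l : ℕ} {M : CoxeterMatrix (Fin l)} (hp : IsType D l M) (p : ℕ) [Fact p.Prime]
  {k : Type u} [Field k] [IsAlgClosed k] [CharP k p] (hk : HAlg p k)

/-- the diagonal of a torus element -/
noncomputable def dg {D : ChevalleyDatum} {l : ℕ} {k : Type u} [Field k] (c : Fin l → kˣ) : D.Idx → k :=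
  Sum.elim (fun _ => (1 : k)) (fun s : Fin D.nroots => ((∏ i, c i ^ (vec D l s i) : kˣ) : k))

include hp hk in
/-- **the diagonal form of an element of order prime to `p`** -/
theorem exists_dg {g : ↥(D.group k)} {N : ℕ} (hN0 : N ≠ 0) (hN : N.Coprime p) (hg : g ^ N = 1) :
    ∃ (a : ↥(D.group k)) (c : Fin l → kˣ),
      (((a * g * a⁻¹ : ↥(D.group k)) : GL D.Idx k) : Matrix D.Idx D.Idx k) = Matrix.diagonal (dg c) := by
  obtain ⟨a, ha⟩ := Cfsg.Agent.H944.TorAnyChev.exists_conj_mem_TT hp p hk hN0 hN hg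
  obtain ⟨c, hc⟩ := Cfsg.Agent.H944.RootVals.TT_diag hp ha
  exact ⟨a, c, hc⟩

theorem rho_dg {t : ↥(D.group k)} {c : Fin l → kˣ}
    (h : ((t : GL D.Idx k) : Matrix D.Idx D.Idx k) = Matrix.diagonal (dg c)) (n : ℕ) (u : D.Idx → k) (i : D.Idx) :
    rho D k (t ^ n) u i = (dg c i) ^ n * u i := by
  rw [rho_apply, Subgroup.coe_pow, Units.val_pow_eq_pow_val, h, Matrix.diagonal_pow, Matrix.mulVec_diagonal]
  rfl

theorem rho_mul (a b : ↥(D.group k)) (v : D.Idx → k) : rho D k (a * b) v = rho D k a (rho D k b v) := by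
  rw [map_mul]; rfl

theorem rho_inj (a : ↥(D.group k)) {v w : D.Idx → k} (h : rho D k a v = rho D k a w) : v = w := by
  have e : ∀ u : D.Idx → k, rho D k a⁻¹ (rho D k a u) = u := by
    intro u
    rw [← rho_mul, inv_mul_cancel, map_one]; rfl
  rw [← e v, ← e w, h]

include hp hk in
/-- **the eigenvalues on the `(-1)`-eigenspace are closed under inversion** -/
theorem eig_inv (h2 : (2 : k) ≠ 0) {g z : ↥(D.group k)} {N : ℕ} (hN0 : N ≠ 0) (hN : N.Coprime p) (hg : g ^ N = 1)
    {m : ℕ} (hm : g ^ m = z) {μ : k} {v : D.Idx → k} (hv : v ≠ 0) (h1 : rho D k g v = μ • v)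
    (hzv : rho D k z v = -v) : ∃ w : D.Idx → k, w ≠ 0 ∧ rho D k g w = μ⁻¹ • w ∧ rho D k z w = -w := by
  classical
  obtain ⟨a, c, hc⟩ := exists_dg hp p hk hN0 hN hg
  set t := a * g * a⁻¹ with ht
  have htm : t ^ m = a * z * a⁻¹ := by rw [ht, conj_pow, hm]
  set u := rho D k a v with hu
  have hu0 : u ≠ 0 := by
    intro h
    apply hv
    apply rho_inj a
    rw [← hu, h, map_zero]
  have e1 : rho D k t u = μ • u := by
    rw [hu, ← rho_mul, ht, show a * g * a⁻¹ * a = a * g by group, rho_mul, h1, map_smul]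
  have e2 : rho D k (t ^ m) u = -u := by
    rw [hu, ← rho_mul, htm, show a * z * a⁻¹ * a = a * z by group, rho_mul, hzv, map_neg]
  obtain ⟨i, hi⟩ : ∃ i, u i ≠ 0 := by
    by_contra hcon
    push Not at hcon
    exact hu0 (funext hcon)
  have e3 : dg c i = μ := by
    have := congrFun e1 i
    rw [← pow_one t, rho_dg hc, pow_one, Pi.smul_apply, smul_eq_mul] at this
    exact mul_right_cancel₀ hi this
  have e4 : (dg c i) ^ m = -1 := by
    have := congrFun e2 i
    rw [rho_dg hc, Pi.neg_apply, ← neg_one_mul] at this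
    exact mul_right_cancel₀ hi this
  have hne : (1 : k) ≠ -1 := by
    intro h
    apply h2
    have : (2 : k) = 1 + 1 := by norm_num
    rw [this]
    nth_rewrite 2 [h]
    rw [add_neg_cancel]
  rcases i with i | s
  · exfalso
    have : dg (D := D) c (Sum.inl i) = 1 := rfl
    rw [this, one_pow] at e4
    exact hne e4
  · have hs' := neg_lt hp.inList s.2
    let s' : Fin D.nroots := ⟨D.neg s.1, hs'⟩
    have hdg : dg (D := D) c (Sum.inr s') = μ⁻¹ := by
      have h3 : dg (D := D) c (Sum.inr s') = ((∏ i, c i ^ (vec D l s' i) : kˣ) : k) := rfl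
      have h4 : dg (D := D) c (Sum.inr s) = ((∏ i, c i ^ (vec D l s i) : kˣ) : k) := rfl
      rw [h3, ← e3, h4, ← Units.val_inv_eq_inv_val, ← Finset.prod_inv_distrib]
      congr 1
      refine Finset.prod_congr rfl fun j _ => ?_
      have h5 : vec D l s' j = -vec D l s j := by
        show vec D l (D.neg s.1) j = _
        rw [vec_neg hp s.2]; rfl
      rw [h5, _root_.zpow_neg]
    let y : D.Idx → k := Pi.single (Sum.inr s') 1
    have hy : ∀ n, rho D k (t ^ n) y = (μ⁻¹) ^ n • y := by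
      intro n
      funext j
      rw [rho_dg hc, Pi.smul_apply, smul_eq_mul]
      by_cases hj : j = Sum.inr s'
      · rw [hj, hdg]
      · have : y j = 0 := Pi.single_eq_of_ne hj 1
        rw [this, mul_zero, mul_zero]
    refine ⟨rho D k a⁻¹ y, ?_, ?_, ?_⟩
    · intro h
      have h6 : y = 0 := by
        apply rho_inj a⁻¹
        rw [h, map_zero]
      have h7 := congrFun h6 (Sum.inr s')
      rw [show y (Sum.inr s') = 1 from Pi.single_eq_same _ _] at h7
      exact one_ne_zero h7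
    · rw [← rho_mul, show g * a⁻¹ = a⁻¹ * t by rw [ht]; group, rho_mul]
      have := hy 1
      rw [pow_one, pow_one] at this
      rw [this, map_smul]
    · rw [← rho_mul, show z * a⁻¹ = a⁻¹ * t ^ m by rw [htm]; group, rho_mul, hy m, ← e3, inv_pow, e4, map_smul,
        inv_neg, inv_one, neg_one_smul]

include hp hk in
/-- **the dimension of the `(-1)`-eigenspace of an involution** -/
theorem exists_neg (hp2 : p ≠ 2) {z : ↥(D.group k)} (hz : z * z = 1) (hz1 : z ≠ 1) :
    ∃ b : Fin l → Bool, b ≠ (fun _ => false) ∧ finrank k (LinearMap.ker (rho D k z - (-1 : k) • (1 : End k (D.Idx → k)))) =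
      (Finset.univ.filter fun s : Fin D.nroots => Odd (∑ i, if b i then vec D l s i else 0)).card := by
  classical
  have h2p : (2 : ℕ).Coprime p := (Nat.coprime_primes Nat.prime_two Fact.out).2 fun h' => hp2 h'.symm
  have h2 : (2 : k) ≠ 0 := by
    intro h0
    have h1 : p ∣ 2 := (CharP.cast_eq_zero_iff k p 2).1 (by exact_mod_cast h0)
    exact hp2 ((Nat.prime_dvd_prime_iff_eq Fact.out Nat.prime_two).1 h1)
  have hne : (1 : k) ≠ -1 := by
    intro h
    apply h2
    have : (2 : k) = 1 + 1 := by norm_num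
    rw [this]
    nth_rewrite 2 [h]
    rw [add_neg_cancel]
  obtain ⟨a, c, hc⟩ := exists_dg hp p hk (N := 2) two_ne_zero h2p (by rw [pow_two, hz])
  set t := a * z * a⁻¹ with ht
  have htt : t ^ 2 = 1 := by rw [ht, conj_pow, pow_two z, hz, mul_one, mul_inv_cancel]
  -- the values on the simple roots
  have hd2 : ∀ i, (dg (D := D) c i) ^ 2 = 1 := by
    intro i
    have h3 := rho_dg (n := 2) hc (Pi.single i 1) i
    rw [htt, map_one, Module.End.one_apply, Pi.single_eq_same, mul_one] at h3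
    exact h3.symm
  have hsimple : ∀ j : Fin l, dg (D := D) c (Sum.inr ⟨D.simple j, simple_lt hp.inList (lt_rank hp j)⟩) = (c j : k) := by
    intro j
    show (((∏ i, c i ^ (vec D l (D.simple j) i) : kˣ)) : k) = c j
    rw [vec_simple hp j, Finset.prod_eq_single j]
    · rw [sr_self, zpow_one]
    · intro i _ hij
      rw [sr_ne hij, zpow_zero]
    · intro h
      exact absurd (Finset.mem_univ j) h
  have hcj : ∀ j, c j = 1 ∨ c j = -1 := by
    intro j
    have h3 := hd2 (Sum.inr ⟨D.simple j, simple_lt hp.inList (lt_rank hp j)⟩)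
    rw [hsimple j, pow_two, mul_self_eq_one_iff] at h3
    rcases h3 with h4 | h4
    · left; exact Units.ext h4
    · right; exact Units.ext (by rw [h4, Units.val_neg, Units.val_one])
  have hcu : (1 : kˣ) ≠ -1 := by
    intro h
    apply hne
    have := congrArg Units.val h
    rwa [Units.val_neg, Units.val_one] at this
  let b : Fin l → Bool := fun i => decide (c i = -1)
  have hcb : ∀ (i : Fin l) (n : ℤ), c i ^ n = (-1 : kˣ) ^ (if b i then n else 0) := by
    intro i n
    rcases hcj i with h | h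
    · have : b i = false := by simp only [b, h, decide_eq_false_iff_not]; exact hcu
      rw [this, h]; simp
    · have : b i = true := by simp only [b, h, decide_eq_true_eq]
      rw [this, h]; simp
  have hval : ∀ s : Fin D.nroots, dg (D := D) c (Sum.inr s) = -1 ↔ Odd (∑ i, if b i then vec D l s i else 0) := by
    intro s
    have h3 : (∏ i, c i ^ (vec D l s i) : kˣ) = (-1 : kˣ) ^ (∑ i, if b i then vec D l s i else 0) := by
      rw [← prod_neg_one]
      exact Finset.prod_congr rfl fun i _ => hcb i _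
    have h4 : dg (D := D) c (Sum.inr s) = ((∏ i, c i ^ (vec D l s i) : kˣ) : k) := rfl
    rw [h4, h3]
    rcases Int.even_or_odd (∑ i, if b i then vec D l s i else 0) with h5 | h5
    · rw [h5.neg_one_zpow, Units.val_one]
      exact ⟨fun h => absurd h hne, fun h => absurd h5 (Int.not_even_iff_odd.2 h)⟩
    · rw [h5.neg_one_zpow, Units.val_neg, Units.val_one]
      exact ⟨fun _ => h5, fun _ => rfl⟩
  refine ⟨b, ?_, ?_⟩
  · intro h0
    apply hz1
    have hc1 : ∀ i, c i = 1 := by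
      intro i
      rcases hcj i with h | h
      · exact h
      · have : b i = true := by simp only [b, h, decide_eq_true_eq]
        rw [h0] at this
        exact absurd this (by simp)
    have h3 : dg (D := D) c = fun _ => (1 : k) := by
      funext i
      rcases i with i | s
      · rfl
      · show (((∏ i, c i ^ (vec D l s i) : kˣ)) : k) = 1
        rw [Finset.prod_eq_one fun i _ => by rw [hc1, _root_.one_zpow], Units.val_one]
    have h4 : t = 1 := by
      apply Subtype.ext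
      apply Units.ext
      rw [hc, h3, Matrix.diagonal_one]; rfl
    have h5 : z = a⁻¹ * t * a := by rw [ht]; group
    rw [h5, h4, mul_one, inv_mul_cancel]
  · have hA : ((a : GL D.Idx k) : Matrix D.Idx D.Idx k) * ((z : GL D.Idx k) : Matrix D.Idx D.Idx k) *
        (((a : GL D.Idx k)⁻¹ : GL D.Idx k) : Matrix D.Idx D.Idx k) = Matrix.diagonal (dg c) := by
      rw [← hc, ht]; rfl
    have h3 := Cfsg.Agent.H943.TorDim.finrank_ker_conj_diag (a : GL D.Idx k) (dg c) hA (-1)
    rw [rho_eq, h3]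
    rw [← Finset.card_map (Function.Embedding.inr : Fin D.nroots ↪ Fin D.rank ⊕ Fin D.nroots)]
    congr 1
    ext i
    rcases i with i | s
    · simp only [Finset.mem_filter, Finset.mem_univ, true_and, Finset.mem_map, Function.Embedding.inr_apply, reduceCtorEq,
        and_false, exists_false, iff_false]
      exact hne
    · simp only [Finset.mem_filter, Finset.mem_univ, true_and, Finset.mem_map, Function.Embedding.inr_apply,
        Sum.inr.injEq, exists_eq_right]
      exact hval s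

/-! ### the representation of `C_G(z)` on the `(-1)`-eigenspace -/

section rep

variable {G : Type*} [Group G] (φ : G →* ↥(D.group k)) (z : G)

/-- the `(-1)`-eigenspace -/
noncomputable def Vm : Submodule k (D.Idx → k) := LinearMap.ker (rho D k (φ z) - (-1 : k) • (1 : End k (D.Idx → k)))

theorem mem_Vm {v : D.Idx → k} : v ∈ Vm φ z ↔ rho D k (φ z) v = -v := by
  rw [Vm, LinearMap.mem_ker, LinearMap.sub_apply, LinearMap.smul_apply, Module.End.one_apply, sub_eq_zero,
    neg_one_smul]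

theorem Vm_inv (g : ↥(Subgroup.centralizer ({z} : Set G))) (v : D.Idx → k) (hv : v ∈ Vm φ z) :
    rho D k (φ g) v ∈ Vm φ z := by
  have hg : (g : G) * z = z * g := Subgroup.mem_centralizer_singleton_iff.1 g.2
  rw [mem_Vm] at hv ⊢
  rw [← rho_mul, ← map_mul, ← hg, map_mul, rho_mul, hv, map_neg]

/-- the representation, as a homomorphism to the endomorphisms -/
noncomputable def Pm : ↥(Subgroup.centralizer ({z} : Set G)) →* Module.End k ↥(Vm φ z) where
  toFun g := (rho D k (φ g)).restrict (Vm_inv φ z g)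
  map_one' := by
    refine LinearMap.ext fun v => Subtype.ext ?_
    rw [LinearMap.restrict_coe_apply]
    show rho D k (φ 1) v = v
    rw [map_one, map_one]; rfl
  map_mul' g h := by
    refine LinearMap.ext fun v => Subtype.ext ?_
    rw [LinearMap.restrict_coe_apply, Module.End.mul_apply, LinearMap.restrict_coe_apply, LinearMap.restrict_coe_apply]
    show rho D k (φ (g * h)) v = _
    rw [map_mul, rho_mul]

/-- the representation of the centraliser -/
noncomputable def Rm : ↥(Subgroup.centralizer ({z} : Set G)) →* (↥(Vm φ z) ≃ₗ[k] ↥(Vm φ z)) :=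
  (LinearMap.GeneralLinearGroup.generalLinearEquiv k ↥(Vm φ z)).toMonoidHom.comp (Pm φ z).toHomUnits

theorem Rm_apply (g : ↥(Subgroup.centralizer ({z} : Set G))) (v : ↥(Vm φ z)) :
    ((Rm φ z g v : ↥(Vm φ z)) : D.Idx → k) = rho D k (φ g) v := rfl

theorem Rm_z (hz : z ∈ Subgroup.centralizer ({z} : Set G)) (v : ↥(Vm φ z)) : Rm φ z ⟨z, hz⟩ v = -v := by
  apply Subtype.ext
  rw [Rm_apply]
  exact (mem_Vm φ z).1 v.2

/-- the representation is faithful -/
theorem Rm_inj (L : Cfsg.Agent.H512.LinFour.IdealF.Lac D) (h2 : (2 : k) ≠ 0) (hφ : Function.Injective φ) (hzz : z * z = 1)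
    (hz1 : z ≠ 1) {g : ↥(Subgroup.centralizer ({z} : Set G))} (hg : Rm φ z g = 1) : g = 1 := by
  have h1 : φ g = 1 := by
    refine faithful L h2 (c := φ z) (n := 2) (fun h => hz1 (hφ (by rw [h, map_one]))) (by exact_mod_cast h2)
      (by rw [pow_two, ← map_mul, hzz, map_one]) ?_
    intro v
    have hw : rho D k (φ z) v - v ∈ Vm φ z := by
      rw [mem_Vm, map_sub, ← rho_mul, ← map_mul, hzz, map_one, map_one, Module.End.one_apply]
      abel
    have h3 := congrArg (fun f : ↥(Vm φ z) ≃ₗ[k] ↥(Vm φ z) => ((f ⟨_, hw⟩ : ↥(Vm φ z)) : D.Idx → k)) hg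
    exact h3
  exact Subtype.ext (hφ (by rw [h1, Subgroup.coe_one, map_one]))

include hp hk in
/-- closure of the eigenvalues under inversion -/
theorem Rm_inv (h2 : (2 : k) ≠ 0) (g : ↥(Subgroup.centralizer ({z} : Set G))) (hgz : ∃ m : ℕ, (g : G) ^ m = z)
    (hg : ((orderOf g : ℕ) : k) ≠ 0) (μ : k)
    (h : Module.End.HasEigenvalue ((Rm φ z g : ↥(Vm φ z) ≃ₗ[k] ↥(Vm φ z)) : ↥(Vm φ z) →ₗ[k] ↥(Vm φ z)) μ) :
    Module.End.HasEigenvalue ((Rm φ z g : ↥(Vm φ z) ≃ₗ[k] ↥(Vm φ z)) : ↥(Vm φ z) →ₗ[k] ↥(Vm φ z)) (μ ^ (-1 : ℤ)) := by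
  obtain ⟨m, hm⟩ := hgz
  obtain ⟨v, hv⟩ := h.exists_hasEigenvector
  have h3 : rho D k (φ g) (v : D.Idx → k) = μ • (v : D.Idx → k) := by
    have := congrArg Subtype.val hv.apply_eq_smul
    exact this
  have hv0 : (v : D.Idx → k) ≠ 0 := fun h => hv.2 (Subtype.ext h)
  have hN0 : orderOf g ≠ 0 := by
    intro h0
    apply hg
    rw [h0, Nat.cast_zero]
  have hN : (orderOf g).Coprime p := by
    rw [Nat.coprime_comm, Nat.Prime.coprime_iff_not_dvd Fact.out]
    intro h4
    exact hg ((CharP.cast_eq_zero_iff k p _).2 h4)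
  have hgN : (φ g) ^ orderOf g = 1 := by
    rw [← map_pow, ← Subgroup.coe_pow, pow_orderOf_eq_one, Subgroup.coe_one, map_one]
  obtain ⟨w, hw0, hw1, hw2⟩ := eig_inv hp p hk h2 hN0 hN hgN (m := m) (z := φ z) (by rw [← map_pow, hm]) hv0 h3
    ((mem_Vm φ z).1 v.2)
  rw [_root_.zpow_neg, _root_.zpow_one]
  refine Module.End.hasEigenvalue_of_hasEigenvector (x := ⟨w, (mem_Vm φ z).2 hw2⟩) ⟨?_, ?_⟩
  · rw [Module.End.mem_eigenspace_iff]
    apply Subtype.ext
    exact hw1
  · intro h0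
    exact hw0 (congrArg Subtype.val h0)

end rep

end gen

end Cfsg.Agent.H169.Co3
end

-- part: H557/Co3/CentE7
section
/-!
# The centraliser of the involution `h_β(-1)`, `β` the highest root (helper557, S1920)

* `cent_rho` : a torus element `t` with `x(t) = 1 ↔ x i₀` even, `± β` isolated in the even roots, `β` dominant and not
  orthogonal only to `α_{i₀}`: `C(t) ≤ GC hp K i₀`;
* `cent_E7` : `chevE7`, `i₀ = 0`, `β` the root of index `125`; `cent_E7_of_act` : the same for an element given by its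
  action on the root groups.
-/

set_option autoImplicit false
set_option linter.unusedSectionVars false

namespace Cfsg.Agent.H557.Co3.CentE7

open CoxeterSystem Cfsg.Agent.ChevalleyStructure.CoxeterGeom Cfsg.Agent.Tits.Roots Cfsg.Agent.Tits.Core
  Cfsg.Agent.Tits.RootComb Cfsg.Agent.Nodes.Reps Cfsg.Agent.Nodes.BNOf Cfsg.Agent.Nodes.StabComb
  Cfsg.Agent.Nodes.Bruhat Cfsg.Agent.H557.CardCent Cfsg.Agent.H557.WAct Cfsg.Agent.H557.CentChev
open Cfsg.Lie Cfsg.Agent.ChevalleyStructure Cfsg.Agent.ChevalleyStructure.Elts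
  Cfsg.Agent.ChevalleyStructure.CoxeterGeomTypes Cfsg.Agent.Nodes.RGDChev
  Cfsg.Agent.KFacts.RgdChevCoord Cfsg.Agent.OddHalf.NI.ModelChev Cfsg.Agent.GenExc Cfsg.Agent.GenExc.Chev
open Cfsg.Agent.H557.LrRho Cfsg.Agent.H557.LrData Cfsg.Agent.H557.LrOrb Cfsg.Agent.H557.LrChev Cfsg.Agent.H557.Co3.CentE8

universe u

section

variable {D : ChevalleyDatum} {l : ℕ} {M : CoxeterMatrix (Fin l)} (hp : IsType D l M) {K : Type u} [Field K] [Finite K]
  (p : ℕ) [Fact p.Prime] [CharP K p] {W : Type*} [Group W] (cs : CoxeterSystem M W)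

include cs p in
theorem XX_le_cent {t : ↥(D.group K)} (ht : t ∈ TT D K) {x : Fin l → ℤ} (hx : IsRoot cs hp.isCartan x)
    (h1 : ch hp x t = 1) : XX D l K x ≤ Subgroup.centralizer {t} := by
  intro g hg
  have C := (coords (K := K) hp cs p).coord x hx
  obtain ⟨a, rfl⟩ := (C.mem g).1 hg
  have h2 := C.act t ht a
  rw [h1, one_mul] at h2
  rw [Subgroup.mem_centralizer_iff]
  rintro _ rfl
  exact mul_inv_eq_iff_eq_mul.1 h2

theorem refl_fix (t : TT D K) (w : W) (j : Fin l)
    (h1 : ch hp (rep cs hp.isCartan w (sr j)) (t : ↥(D.group K)) = 1)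
    (h2 : ch hp (-rep cs hp.isCartan w (sr j)) (t : ↥(D.group K)) = 1) :
    w * cs.simple j * w⁻¹ ∈ fixS cs (rgd (K := K) hp cs p).nsys (comm_mem_TT hp) t := by
  have Rd := rgd (K := K) hp cs p
  have hx : IsRoot cs hp.isCartan (rep cs hp.isCartan w (sr j)) := ⟨w, j, rfl⟩
  have hxn : IsRoot cs hp.isCartan (-sr j) := (isRoot_sr cs hp.isCartan j).neg
  have C := (coords (K := K) hp cs p).coord _ hxn
  obtain ⟨k, hk, hk'⟩ := exists_rp_refl Rd w j ⟨xc hp (-sr j) 1, (C.mem _).2 ⟨1, rfl⟩, fun h => by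
    rw [← C.zero] at h
    exact one_ne_zero (C.inj h)⟩
  have h3 := (sup_le (XX_le_cent hp p cs t.2 hx h1) (XX_le_cent hp p cs t.2 hx.neg h2)) hk
  rw [mem_fixS, act_rp cs Rd.nsys (comm_mem_TT hp) hk' t.2]
  exact mul_inv_eq_iff_eq_mul.2 (Subgroup.mem_centralizer_iff.1 h3 _ rfl).symm

variable {i₀ : Fin l}

include p in
/-- **the centraliser of the involution of the highest root** -/
theorem cent_rho [Finite W] (t : TT D K)
    (hch : ∀ x, IsRoot cs hp.isCartan x → (ch hp x (t : ↥(D.group K)) = 1 ↔ Even (x i₀)))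
    {β : Fin l → ℤ} (hiso : LrIso.Iso cs hp.isCartan {x | IsRoot cs hp.isCartan x ∧ Even (x i₀)} β)
    (hdom : Dom (cartanOf D l) β) (horth : ∀ i : Fin l, pairing (cartanOf D l) i β = 0 → i ≠ i₀)
    {g : ↥(D.group K)} (hg : (t : ↥(D.group K)) * g = g * t) : g ∈ GC hp K i₀ := by
  have Rd := rgd (K := K) hp cs p
  obtain ⟨⟨hβ, hβe⟩, hβn⟩ := (hiso β).2 (Or.inl rfl)
  obtain ⟨⟨hβ', hβe'⟩, -⟩ := (hiso (-β)).2 (Or.inr rfl)
  have hE : ∀ w ∈ fixS cs Rd.nsys (comm_mem_TT hp) t, ∀ x, IsRoot cs hp.isCartan x → Even (x i₀) →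
      Even (rep cs hp.isCartan w x i₀) := by
    intro w hw x hx h0
    rw [← hch _ (hx.act w), ch_fix hp p cs hw hx, hch x hx]
    exact h0
  refine HC_le_GC hp cs p hch (centralizer_le hp cs p t (fun w hw => ?_) hg)
  -- the simple reflections
  have hsimple : ∀ {v : W}, rep cs hp.isCartan v β = β → v ∈ Subgroup.closure (Refl hp cs p t) := by
    intro v hv
    have h1 := mem_WJ_of_rep (cs := cs) (h := hp.isCartan) hdom hv
    unfold WJ at h1
    refine Subgroup.closure_mono ?_ h1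
    rintro _ ⟨i, hi, rfl⟩
    have hi0 : i ≠ i₀ := horth i ((mem_orth (cs := cs) (h := hp.isCartan)).1 hi)
    have e1 : ch hp (rep cs hp.isCartan 1 (sr i)) (t : ↥(D.group K)) = 1 := by
      rw [map_one, Module.End.one_apply, hch _ (isRoot_sr cs hp.isCartan i), sr_ne hi0.symm]
      exact Even.zero
    have e2 : ch hp (-rep cs hp.isCartan 1 (sr i)) (t : ↥(D.group K)) = 1 := by
      rw [map_one, Module.End.one_apply, hch _ (isRoot_sr cs hp.isCartan i).neg, Pi.neg_apply, sr_ne hi0.symm, neg_zero]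
      exact Even.zero
    have e3 := refl_fix hp p cs t 1 i e1 e2
    have e4 : (1 : W) * cs.simple i * 1⁻¹ = cs.simple i := by group
    rw [e4] at e3
    exact ⟨e3, 1, i, e4.symm, e1⟩
  have h1 : rep cs hp.isCartan w β = β ∨ rep cs hp.isCartan w β = -β := by
    rw [← hiso]
    refine ⟨⟨hβ.act w, hE w hw _ hβ hβe⟩, ?_⟩
    rintro ⟨-, y, ⟨hy, hye⟩, hxy⟩
    refine hβn ⟨⟨hβ, hβe⟩, rep cs hp.isCartan w⁻¹ y, ⟨hy.act w⁻¹, hE _ (inv_mem hw) _ hy hye⟩, ?_⟩
    have h2 := hxy.act w⁻¹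
    rwa [map_add, rep_inv_apply] at h2
  rcases h1 with h1 | h1
  · exact hsimple h1
  · obtain ⟨v, i, hvi⟩ := hβ
    have e1 : ch hp (rep cs hp.isCartan v (sr i)) (t : ↥(D.group K)) = 1 := by
      rw [← hvi, hch _ ⟨v, i, hvi⟩]
      exact hβe
    have e2 : ch hp (-rep cs hp.isCartan v (sr i)) (t : ↥(D.group K)) = 1 := by
      rw [← hvi, hch _ hβ']
      exact hβe'
    have e3 := refl_fix hp p cs t v i e1 e2
    have h5 : rep cs hp.isCartan (v * cs.simple i * v⁻¹) β = -β := by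
      rw [hvi, ← rep_mul_apply, inv_mul_cancel_right, rep_mul_apply, rep_simple_sr, map_neg]
    have h6 : rep cs hp.isCartan ((v * cs.simple i * v⁻¹) * w) β = β := by
      rw [rep_mul_apply, h1, map_neg, h5, neg_neg]
    have h7 : w = (v * cs.simple i * v⁻¹)⁻¹ * ((v * cs.simple i * v⁻¹) * w) := by group
    rw [h7]
    exact mul_mem (inv_mem (Subgroup.subset_closure ⟨e3, v, i, rfl, e1⟩)) (hsimple h6)

end

/-! ### `chevE7` -/

theorem bits_one {l : ℕ} (k : Fin l) (x : Fin l → ℤ) : bits l (2 ^ (k : ℕ)) x = 0 ↔ Even (x k) := by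
  have h1 : bits l (2 ^ (k : ℕ)) x = ((x k : ℤ) : ZMod 2) := by
    show (∑ j : Fin l, if (2 ^ (k : ℕ)).testBit j then ((x j : ℤ) : ZMod 2) else 0) = _
    rw [Finset.sum_eq_single k]
    · rw [if_pos (by rw [Nat.testBit_two_pow]; simp)]
    · intro j _ hj
      rw [if_neg]
      rw [Nat.testBit_two_pow]
      intro h
      rw [decide_eq_true_eq] at h
      exact hj (Fin.ext h.symm)
    · intro h; exact absurd (Finset.mem_univ _) h
  rw [h1, ZMod.intCast_zmod_eq_zero_iff_dvd, even_iff_two_dvd]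
  rfl

theorem even_iff_E7 {r : ℕ} (hr : r < chevE7.nroots) : Even (csum chevE7 ([2, 4, 6] : List (Fin 7)) r) ↔ Even (vec chevE7 7 r 0) := by
  rw [← csz_vec Nodes.KindE.isType7 [2, 4, 6] hr, ← bits_E7]
  exact bits_one (0 : Fin 7) _

theorem iso_E7 {W : Type*} [Group W] (cs : CoxeterSystem CoxeterMatrix.E₇ W) :
    LrIso.Iso cs Nodes.KindE.isType7.isCartan {x | IsRoot cs Nodes.KindE.isType7.isCartan x ∧ Even (x 0)}
      (vec chevE7 7 125) := by
  have h1 := rhoE7.iso Nodes.KindE.isType7 cs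
  have h2 : Ev chevE7 7 [[2, 4, 6]] = {x | IsRoot cs Nodes.KindE.isType7.isCartan x ∧ Even (x 0)} := by
    ext x
    constructor
    · rintro ⟨r, hr, rfl, h3⟩
      exact ⟨isRoot_vec Nodes.KindE.isType7 cs hr, (even_iff_E7 hr).1 (h3 _ (List.mem_singleton.2 rfl))⟩
    · rintro ⟨hx, h3⟩
      obtain ⟨r, hr, rfl⟩ := (isRoot_iff Nodes.KindE.isType7 cs x).1 hx
      refine ⟨r, hr, rfl, fun S hS => ?_⟩
      rw [List.mem_singleton.1 hS]
      exact (even_iff_E7 hr).2 h3
  rw [← h2]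
  exact h1

theorem dom_E7 : Dom (cartanOf chevE7 7) (vec chevE7 7 125) := by
  unfold Dom
  decide +kernel

theorem orth_E7 : ∀ i : Fin 7, pairing (cartanOf chevE7 7) i (vec chevE7 7 125) = 0 → i ≠ 0 := by
  decide +kernel

/-- column masks of the Cartan matrix modulo `2` -/
def cm7 : List ℕ := [4, 8, 9, 22, 40, 80, 32]

set_option backward.isDefEq.respectTransparency false in
theorem hcm7 : SignTorus.OkC (cartanOf chevE7 7) cm7 := by unfold SignTorus.OkC; decide +kernel

theorem n0_E7 : ∀ j : Fin 7, SignTorus.par 7 (84 &&& cm7.getD j 0) = decide (j = 0) := by decide +kernel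

section

variable {K : Type u} [Field K] [Finite K]

/-- **the centraliser of the involution `h_β(-1)` of `chevE7`** -/
theorem cent_E7_of_ch (ho : Odd (Nat.card K)) {W : Type*} [Group W] (cs : CoxeterSystem CoxeterMatrix.E₇ W)
    {t : ↥(chevE7.group K)} (ht : t ∈ TT chevE7 K)
    (hch : ∀ x, IsRoot cs Nodes.KindE.isType7.isCartan x → (ch Nodes.KindE.isType7 x t = 1 ↔ Even (x 0)))
    {g : ↥(chevE7.group K)} (hg : t * g = g * t) : g ∈ GC Nodes.KindE.isType7 K 0 := by
  obtain ⟨p, hp, hpc, h2⟩ := exists_p ho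
  have hW : Finite W := finite_W Nodes.KindE.isType7 cs
  exact cent_rho Nodes.KindE.isType7 p cs ⟨t, ht⟩ hch (iso_E7 cs) dom_E7 orth_E7 hg

/-- the element as a product of `h_i(-1)`, `i = 2, 4, 6` -/
theorem cent_E7 (ho : Odd (Nat.card K)) {g : ↥(chevE7.group K)}
    (hg : th Nodes.KindE.isType7 (SignTorus.sg K 7 84) * g = g * th Nodes.KindE.isType7 (SignTorus.sg K 7 84)) :
    g ∈ GC Nodes.KindE.isType7 K 0 := by
  obtain ⟨p, hp, hpc, h2⟩ := exists_p ho
  refine cent_E7_of_ch ho (CoxeterMatrix.toCoxeterSystem _) (Toral.th_mem _ _) (fun x hx => ?_) hg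
  exact SignTorus.ch_sg _ _ hcm7 hx h2 n0_E7

end

end Cfsg.Agent.H557.Co3.CentE7
end

-- part: H167/Co3/Conj7
section
/-!
# S1920, `E₇(q)`: the involutions `z` with `m(z) = 64` are conjugate to `h_β(-1)`
-/

set_option autoImplicit false
set_option linter.unusedSectionVars false

namespace Cfsg.Agent.H167.Co3

open CoxeterSystem Cfsg Cfsg.Lie Cfsg.Lie.ChevalleyDatum
open Cfsg.Agent.ChevalleyStructure Cfsg.Agent.ChevalleyStructure.Elts Cfsg.Agent.ChevalleyStructure.CoxeterGeom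
  Cfsg.Agent.ChevalleyStructure.CoxeterGeomTypes Cfsg.Agent.ChevalleyStructure.NPerm
open Cfsg.Agent.Tits.Roots Cfsg.Agent.Nodes Cfsg.Agent.Nodes.Reps Cfsg.Agent.Nodes.BNOf
  Cfsg.Agent.Nodes.RGDChev Cfsg.Agent.Nodes.Bruhat
open Cfsg.Agent.KFacts.RgdField Cfsg.Agent.KFacts.RgdChevCoord
open Cfsg.Agent.BpExc.TorAll Cfsg.Agent.BpExc.TorCent Cfsg.Agent.BpExc.TorChev Cfsg.Agent.BpExc.Tow
  Cfsg.Agent.BpExc.TowChev Cfsg.Agent.GpExc.Field
open Cfsg.Agent.OddHalf.NI.ModelChev Cfsg.Agent.H557.SignTorus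

theorem locFin_finite (F : Type) [Field F] [Finite F] : LocFin F := fun _ _ =>
  ⟨⊤, Finite.of_injective (fun x => (x : F)) Subtype.val_injective, fun _ _ => trivial⟩

section

variable {D : ChevalleyDatum} {l : ℕ} {M : CoxeterMatrix (Fin l)} (hp : IsType D l M) {F : Type} [Field F] [Fintype F]

include hp in
/-- the dimension for an involution of the torus given by the parity of a coefficient -/
theorem mL_par (h2 : (2 : F) ≠ 0) {t : ↥(D.group F)} (ht : t ∈ TT D F) (htt : t * t = 1) (i₀ : Fin l)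
    (h : ∀ s < D.nroots, (ch hp (vec D l s) t = 1 ↔ Even (vec D l s i₀))) :
    mL D t = Nat.card {s : Fin D.nroots // ¬ Even (vec D l s i₀)} := by
  obtain ⟨p, hpc⟩ := CharP.exists F
  have hpp : Fact p.Prime := ⟨(CharP.char_is_prime_or_zero F p).resolve_right (CharP.char_ne_zero_of_finite F p)⟩
  have hk := locFin_finite F
  rw [mL_TT hp p hk h2 ht]
  refine Nat.card_congr (Equiv.subtypeEquivRight fun s => ?_)
  rw [← h s s.2]
  have hroot : IsRoot M.toCoxeterSystem hp.isCartan (vec D l s) := isRoot_vec hp M.toCoxeterSystem s.2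
  have h1 := ch_mul hp p hk ht ht hroot
  rw [htt] at h1
  have h3 := ch_mul hp p hk (one_mem (TT D F)) (one_mem (TT D F)) hroot
  rw [mul_one] at h3
  have h0 := ((coordsL (k := F) hp M.toCoxeterSystem hk p).coord _ hroot).chi_ne_zero (one_mem (TT D F))
  have h4 : ch hp (vec D l s) (1 : ↥(D.group F)) = 1 := (mul_eq_left₀ h0).1 h3.symm
  rw [h4] at h1
  constructor
  · intro h5 h6
    rw [h5] at h6
    exact h2 (by linear_combination -h6)
  · intro h5
    exact (mul_self_eq_one_iff.1 h1.symm).resolve_left h5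

end

variable {F : Type} [Field F] [Fintype F]

theorem card_odd7 : Nat.card {s : Fin chevE7.nroots // ¬ Even (vec chevE7 7 s 0)} = 64 := by
  rw [Nat.card_eq_fintype_card]
  decide +kernel

/-- `m(h_β(-1)) = 64` -/
theorem mL_z7 (h2 : (2 : F) ≠ 0) : mL chevE7 (th Nodes.KindE.isType7 (sg F 7 84)) = 64 := by
  rw [mL_par Nodes.KindE.isType7 h2 (Cfsg.Agent.H557.Toral.th_mem _ _)
    (by rw [← map_mul, sg_mul_self, map_one]) 0 fun s hs => ?_, card_odd7]
  exact ch_sg Nodes.KindE.isType7 (CoxeterMatrix.toCoxeterSystem _) Cfsg.Agent.H557.Co3.CentE7.hcm7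
    (isRoot_vec Nodes.KindE.isType7 _ hs) h2 Cfsg.Agent.H557.Co3.CentE7.n0_E7

/-- **`m(z) = 64` implies that `z` is conjugate to `h_β(-1)`** -/
theorem conj_z7 (ho : Odd (Fintype.card F)) {z : ↥(chevE7.group F)} (hz : z * z = 1) (h64 : mL chevE7 z = 64) :
    ∃ g, g * z * g⁻¹ = th Nodes.KindE.isType7 (sg F 7 84) := by
  have h1 := conj_of_64 ho hz h64
  have h2 := conj_of_64 ho (z := th Nodes.KindE.isType7 (sg F 7 84)) (by rw [← map_mul, sg_mul_self, map_one])
    (mL_z7 (two_ne ho))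
  exact isConj_iff.1 (h1.symm.trans h2)

end Cfsg.Agent.H167.Co3
end

private theorem dce_3547a4be1e4d : _root_.True := by
  try have : _root_.True := by simp only [_root_.Cfsg.Agent.H169.Co3.Vm.eq_1]
  exact _root_.True.intro
end

-- part: H167/Co3/HR7
section
prune_inst 0x4300065046580000000180010a2200060280000200040080000e009020149a4600082a800b210001612200045603d000001100080420000000a0004000118018018800400b1080008400080000000000000000000000000000000000000000000000000000
set_option linter.all false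
open scoped Cfsg.Agent.FastGrp

-- part: H921/Co3/Sim
section
/-!
# S1920 (`χ(1)`-boxes), SIM: the (-1)-eigenspace of `Ad M` on `so(Q)` for similitudes with scalar square (helper921)

`Q` nondegenerate, `2 ≠ 0`, `n = finrank V`, `M (M v) = l v`.

* `finrank_adm_sq` : `M` self-adjoint, `l = ν²` : `finrank (adm Q M) = k (n - k)`, `k = finrank ker (M - ν)`;
* `finrank_adm_nonsq` : `M` self-adjoint, `l` not a square: `4 finrank (adm Q M) = n²`;
* `finrank_adm_skew` : `M` skew: `4 finrank (adm Q M) = n (n - 2)`;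
* `adB` : the same for a symmetric bilinear form and `M : End V` (interface of `E₇`).
-/

set_option autoImplicit false

open QuadraticMap

namespace Cfsg.Agent.H921.Co3.Sim

open Module
open Cfsg.Agent.LieClassical.OrthCore (Nondeg)
open Cfsg.Agent.H64.Co3

/-! ### Counting pairs -/

theorem card_gt (k : ℕ) : Fintype.card {p : Fin k × Fin k // p.2 < p.1} = Fintype.card {p : Fin k × Fin k // p.1 < p.2} :=
  Fintype.card_congr ((Equiv.prodComm _ _).subtypeEquiv fun _ => Iff.rfl)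

theorem card_le_add (k : ℕ) : Fintype.card {p : Fin k × Fin k // p.1 < p.2} +
    Fintype.card {p : Fin k × Fin k // p.1 ≤ p.2} = k * k := by
  have h1 := Fintype.card_subtype_compl (fun p : Fin k × Fin k => p.1 ≤ p.2)
  have h2 : Fintype.card {p : Fin k × Fin k // ¬ p.1 ≤ p.2} = Fintype.card {p : Fin k × Fin k // p.2 < p.1} :=
    Fintype.card_congr (Equiv.subtypeEquivRight fun p => not_le)
  have h3 := Fintype.card_subtype_le (fun p : Fin k × Fin k => p.1 ≤ p.2)
  rw [Fintype.card_prod, Fintype.card_fin] at h1 h3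
  rw [h2, card_gt] at h1
  omega

theorem card_le_eq (k : ℕ) : Fintype.card {p : Fin k × Fin k // p.1 ≤ p.2} =
    Fintype.card {p : Fin k × Fin k // p.1 < p.2} + k := by
  have e : {p : Fin k × Fin k // p.1 ≤ p.2} ≃ {p : Fin k × Fin k // p.1 < p.2} ⊕ Fin k :=
    { toFun := fun p => if h : p.1.1 < p.1.2 then Sum.inl ⟨p.1, h⟩ else Sum.inr p.1.1
      invFun := fun s => Sum.elim (fun p => ⟨p.1, p.2.le⟩) (fun i => ⟨(i, i), le_refl _⟩) s
      left_inv := by
        rintro ⟨⟨i, j⟩, h⟩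
        by_cases h1 : i < j
        · simp [h1]
        · have h2 : i = j := le_antisymm h (not_lt.1 h1)
          subst h2
          simp
      right_inv := by
        rintro (⟨⟨i, j⟩, h⟩ | i)
        · exact dif_pos h
        · simp }
  rw [Fintype.card_congr e, Fintype.card_sum, Fintype.card_fin]

theorem card_lt_two (k : ℕ) : Fintype.card {p : Fin k × Fin k // p.1 < p.2} + Fintype.card {p : Fin k × Fin k // p.1 < p.2}
    = k * (k - 1) := by
  have h1 := card_le_add k
  rw [card_le_eq] at h1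
  rw [Nat.mul_sub, mul_one]
  omega

section mat

variable {F : Type*} [Field F]

theorem finrank_AA_neg' (h2 : (2 : F) ≠ 0) (k : ℕ) (l : F) : finrank F (AA k (-1) l) = k * (k - 1) := by
  rw [(LinearEquiv.ofBijective (coN k l) (coN_bij h2 l)).finrank_eq, Module.finrank_fintype_fun_eq_card,
    Fintype.card_sum, card_lt_two]

theorem finrank_AA_pos' (h2 : (2 : F) ≠ 0) (k : ℕ) (l : F) : finrank F (AA k 1 l) = k * k := by
  rw [(LinearEquiv.ofBijective (coP k l) (coP_bij h2 l)).finrank_eq, Module.finrank_fintype_fun_eq_card,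
    Fintype.card_sum, card_le_add]

/-- skew matrices with diagonal blocks zero -/
def BB (F : Type*) [Field F] (a c : ℕ) : Submodule F (Matrix (Fin a ⊕ Fin c) (Fin a ⊕ Fin c) F) where
  carrier := {A | (∀ i j, A j i = - A i j) ∧ (∀ i j, A (Sum.inl i) (Sum.inl j) = 0) ∧
    ∀ i j, A (Sum.inr i) (Sum.inr j) = 0}
  add_mem' := by
    rintro A B ⟨h1, h2, h3⟩ ⟨h4, h5, h6⟩
    refine ⟨fun i j => ?_, fun i j => ?_, fun i j => ?_⟩
    · rw [Matrix.add_apply, Matrix.add_apply, h1, h4]; ring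
    · rw [Matrix.add_apply, h2, h5, add_zero]
    · rw [Matrix.add_apply, h3, h6, add_zero]
  zero_mem' := by simp only [_root_.Sum.forall, _root_.Set.mem_ofPred_eq, _root_.Matrix.zero_apply, _root_.neg_zero, _root_.implies_true, _root_.and_self]
  smul_mem' := by
    rintro c A ⟨h1, h2, h3⟩
    refine ⟨fun i j => ?_, fun i j => ?_, fun i j => ?_⟩
    · rw [Matrix.smul_apply, Matrix.smul_apply, h1, smul_neg]
    · rw [Matrix.smul_apply, h2, smul_zero]
    · rw [Matrix.smul_apply, h3, smul_zero]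

/-- coordinates -/
def coB (a c : ℕ) : BB F a c →ₗ[F] (Fin a × Fin c → F) where
  toFun A := fun p => A.1 (Sum.inl p.1) (Sum.inr p.2)
  map_add' A B := rfl
  map_smul' c A := rfl

theorem coB_bij (a c : ℕ) : Function.Bijective (coB (F := F) a c) := by
  constructor
  · rw [← LinearMap.ker_eq_bot, LinearMap.ker_eq_bot']
    rintro ⟨A, h1, h3, h4⟩ h0
    have e1 : ∀ i j, A (Sum.inl i) (Sum.inr j) = 0 := fun i j => congrFun h0 (i, j)
    apply Subtype.ext
    ext i j
    rcases i with i | i <;> rcases j with j | j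
    · exact h3 i j
    · exact e1 i j
    · show A (Sum.inr i) (Sum.inl j) = 0
      rw [h1, e1, neg_zero]
    · exact h4 i j
  · intro f
    refine ⟨⟨Matrix.fromBlocks 0 (Matrix.of fun i j => f (i, j)) (-Matrix.of fun j i => f (i, j)) 0, ?_, ?_, ?_⟩, ?_⟩
    · rintro (i | i) (j | j)
      · show (0 : F) = -0
        rw [neg_zero]
      · rfl
      · show f (j, i) = - - f (j, i)
        rw [neg_neg]
      · show (0 : F) = -0
        rw [neg_zero]
    · intro i j; rfl
    · intro i j; rfl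
    · funext p; rfl

theorem finrank_BB (a c : ℕ) : finrank F (BB F a c) = a * c := by
  rw [(LinearEquiv.ofBijective (coB a c) (coB_bij a c)).finrank_eq, Module.finrank_fintype_fun_eq_card,
    Fintype.card_prod, Fintype.card_fin, Fintype.card_fin]

end mat

section form

variable {F V : Type*} [Field F] [AddCommGroup V] [Module F V] [FiniteDimensional F V] {Q : QuadraticForm F V}

/-! ### Self-adjoint, `l = ν²` -/

/-- a basis of eigenvectors -/
theorem exists_eigbasis (h2 : (2 : F) ≠ 0) {M : V ≃ₗ[F] V} {n : F} (hn : n ≠ 0) (hM : ∀ v, M (M v) = (n * n) • v) :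
    ∃ b : Basis (Fin (finrank F (eig M n)) ⊕ Fin (finrank F (eig M (-n)))) F V,
      (∀ i, M (b (Sum.inl i)) = n • b (Sum.inl i)) ∧ ∀ i, M (b (Sum.inr i)) = (-n) • b (Sum.inr i) := by
  let x := Module.finBasis F (eig M n)
  let y := Module.finBasis F (eig M (-n))
  have hli : LinearIndependent F (Sum.elim (fun i => (x i : V)) (fun i => (y i : V))) := by
    rw [Fintype.linearIndependent_iff]
    intro g hg
    rw [Fintype.sum_sum_type] at hg
    simp only [Sum.elim_inl, Sum.elim_inr] at hg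
    have e1 : ∑ i, g (Sum.inl i) • (x i : V) = ((∑ i, g (Sum.inl i) • x i : eig M n) : V) := by
      rw [Submodule.coe_sum]; rfl
    have e2 : ∑ i, g (Sum.inr i) • (y i : V) = ((∑ i, g (Sum.inr i) • y i : eig M (-n)) : V) := by
      rw [Submodule.coe_sum]; rfl
    rw [e1, e2] at hg
    have h3 : ((∑ i, g (Sum.inl i) • x i : eig M n) : V) = 0 := by
      apply eig_inf h2 hn (Submodule.coe_mem _)
      rw [eq_neg_of_add_eq_zero_left hg]
      exact Submodule.neg_mem _ (Submodule.coe_mem _)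
    have h4 : ((∑ i, g (Sum.inr i) • y i : eig M (-n)) : V) = 0 := by
      rw [h3, zero_add] at hg
      exact hg
    have h5 := Fintype.linearIndependent_iff.1 x.linearIndependent _ (Subtype.ext h3)
    have h6 := Fintype.linearIndependent_iff.1 y.linearIndependent _ (Subtype.ext h4)
    rintro (i | i)
    · exact h5 i
    · exact h6 i
  have hc : Fintype.card (Fin (finrank F (eig M n)) ⊕ Fin (finrank F (eig M (-n)))) = finrank F V := by
    rw [Fintype.card_sum, Fintype.card_fin, Fintype.card_fin]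
    exact finrank_eig h2 hn hM
  refine ⟨basisOfLinearIndependentOfCardEqFinrank' _ hli hc, fun i => ?_, fun i => ?_⟩
  · rw [coe_basisOfLinearIndependentOfCardEqFinrank']
    exact mem_eig.1 (x i).2
  · rw [coe_basisOfLinearIndependentOfCardEqFinrank']
    exact mem_eig.1 (y i).2

omit [FiniteDimensional F V] in
theorem mem_adm_iff_BB (h2 : (2 : F) ≠ 0) (hQ : Nondeg Q) {M : V ≃ₗ[F] V} {n : F} (hn : n ≠ 0)
    (hs : ∀ u v, polar Q (M u) v = polar Q u (M v)) {a c : ℕ} (b : Basis (Fin a ⊕ Fin c) F V)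
    (h1 : ∀ i, M (b (Sum.inl i)) = n • b (Sum.inl i)) (h1' : ∀ i, M (b (Sum.inr i)) = (-n) • b (Sum.inr i))
    (S : V →ₗ[F] V) : S ∈ adm Q M ↔ gram Q b S ∈ BB F a c := by
  constructor
  · rintro ⟨hk, hc⟩
    have key : ∀ u v, polar Q (S (M u)) v = - polar Q (S u) (M v) := by
      intro u v
      rw [← hs, hc u, polar_neg_left, neg_neg]
    refine ⟨fun i j => ?_, fun i j => ?_, fun i j => ?_⟩
    · rw [gram_apply, gram_apply, hk, polar_comm]
    · rw [gram_apply]
      have h3 := key (b (Sum.inl i)) (b (Sum.inl j))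
      rw [h1, h1, map_smul, polar_smul_left, polar_smul_right, smul_eq_mul] at h3
      exact (mul_eq_zero.1 (eq_zero_of_neg h2 h3)).resolve_left hn
    · rw [gram_apply]
      have h3 := key (b (Sum.inr i)) (b (Sum.inr j))
      rw [h1', h1', map_smul, polar_smul_left, polar_smul_right, smul_eq_mul] at h3
      exact (mul_eq_zero.1 (eq_zero_of_neg h2 h3)).resolve_left (neg_ne_zero.2 hn)
  · rintro ⟨k1, k2, k3⟩
    let f1 : V →ₗ[F] V →ₗ[F] F := (polarBilin Q).comp S
    let f2 : V →ₗ[F] V →ₗ[F] F := -((polarBilin Q).compl₂ S)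
    have e1 : f1 = f2 := by
      apply polar_ext b
      intro i j
      show polar Q (S (b i)) (b j) = - polar Q (b i) (S (b j))
      have := k1 j i
      rw [gram_apply, gram_apply] at this
      rw [this, polar_comm Q (b i)]
    let g1 : V →ₗ[F] V →ₗ[F] F := ((polarBilin Q).comp S).comp M.toLinearMap
    let g2 : V →ₗ[F] V →ₗ[F] F := -(((polarBilin Q).comp S).compl₂ M.toLinearMap)
    have e2 : g1 = g2 := by
      apply polar_ext b
      rintro (i | i) (j | j)
      · show polar Q (S (M (b (Sum.inl i)))) (b (Sum.inl j)) = - polar Q (S (b (Sum.inl i))) (M (b (Sum.inl j)))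
        have := k2 i j
        rw [gram_apply] at this
        rw [h1, h1, map_smul, polar_smul_left, polar_smul_right, this, smul_zero, neg_zero]
      · show polar Q (S (M (b (Sum.inl i)))) (b (Sum.inr j)) = - polar Q (S (b (Sum.inl i))) (M (b (Sum.inr j)))
        rw [h1, h1', map_smul, polar_smul_left, polar_smul_right, neg_smul, neg_neg]
      · show polar Q (S (M (b (Sum.inr i)))) (b (Sum.inl j)) = - polar Q (S (b (Sum.inr i))) (M (b (Sum.inl j)))
        rw [h1, h1', map_smul, polar_smul_left, polar_smul_right, neg_smul]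
      · show polar Q (S (M (b (Sum.inr i)))) (b (Sum.inr j)) = - polar Q (S (b (Sum.inr i))) (M (b (Sum.inr j)))
        have := k3 i j
        rw [gram_apply] at this
        rw [h1', h1', map_smul, polar_smul_left, polar_smul_right, this, smul_zero, neg_zero]
    have m1 : ∀ u v, polar Q (S u) v = - polar Q u (S v) := fun u v =>
      congrArg (fun f : V →ₗ[F] V →ₗ[F] F => f u v) e1
    have m2 : ∀ u v, polar Q (S (M u)) v = - polar Q (S u) (M v) := fun u v =>
      congrArg (fun f : V →ₗ[F] V →ₗ[F] F => f u v) e2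
    refine ⟨m1, fun u => ?_⟩
    rw [← sub_eq_zero, sub_neg_eq_add]
    apply hQ
    intro v
    rw [polar_add_left, m2, hs, add_neg_cancel]

/-- **self-adjoint, `l = ν²`** -/
theorem finrank_adm_sq' (h2 : (2 : F) ≠ 0) (hQ : Nondeg Q) {M : V ≃ₗ[F] V} {n : F} (hn : n ≠ 0)
    (hM : ∀ v, M (M v) = (n * n) • v) (hs : ∀ u v, polar Q (M u) v = polar Q u (M v)) :
    finrank F (adm Q M) = finrank F (eig M n) * finrank F (eig M (-n)) := by
  obtain ⟨b, hb1, hb2⟩ := exists_eigbasis h2 hn hM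
  let Φ := LinearEquiv.ofBijective (gram Q b) ⟨gram_injective hQ b, gram_surjective hQ b⟩
  have h1 : (adm Q M).map (Φ : (V →ₗ[F] V) →ₗ[F] _) = BB F (finrank F (eig M n)) (finrank F (eig M (-n))) := by
    ext A
    constructor
    · rintro ⟨S, hS, rfl⟩
      exact (mem_adm_iff_BB h2 hQ hn hs b hb1 hb2 S).1 hS
    · intro hA
      obtain ⟨S, rfl⟩ := Φ.surjective A
      exact ⟨S, (mem_adm_iff_BB h2 hQ hn hs b hb1 hb2 S).2 hA, rfl⟩
  rw [← finrank_BB (F := F), ← h1, LinearEquiv.finrank_map_eq]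

/-- **self-adjoint, `l = ν²`**: `k (n - k)`, `k = finrank ker (M - ν)` -/
theorem finrank_adm_sq (h2 : (2 : F) ≠ 0) (hQ : Nondeg Q) {M : V ≃ₗ[F] V} {ν : F} (hν : ν ≠ 0)
    (hM : ∀ v, M (M v) = (ν * ν) • v) (hs : ∀ u v, polar Q (M u) v = polar Q u (M v)) :
    finrank F (adm Q M) = finrank F (eig M ν) * (finrank F V - finrank F (eig M ν)) := by
  rw [finrank_adm_sq' h2 hQ hν hM hs, ← finrank_eig h2 hν hM, Nat.add_sub_cancel_left]

/-! ### The other cases -/

theorem exists_ada_of_fr' {k : ℕ} (hd : finrank F V = 2 * k) {M : V ≃ₗ[F] V} {l : F} (hM : ∀ v, M (M v) = l • v)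
    {v : Fin k → V} (hv : Fr M v) : ∃ b : Basis (Fin k ⊕ Fin k) F V, Ada Q M k l b := by
  have hli : LinearIndependent F (Sum.elim v (fun i => M (v i))) := by
    rw [Fintype.linearIndependent_iff]
    intro g hg
    rw [Fintype.sum_sum_type] at hg
    simp only [Sum.elim_inl, Sum.elim_inr] at hg
    rw [← Finset.sum_add_distrib] at hg
    obtain ⟨h1, h2⟩ := hv (fun i => g (Sum.inl i)) (fun i => g (Sum.inr i)) hg
    rintro (i | i)
    · exact congrFun h1 i
    · exact congrFun h2 i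
  have hc : Fintype.card (Fin k ⊕ Fin k) = finrank F V := by
    rw [hd, Fintype.card_sum, Fintype.card_fin]
    omega
  refine ⟨basisOfLinearIndependentOfCardEqFinrank' _ hli hc, ⟨fun i => ?_, fun i => ?_⟩⟩
  · rw [coe_basisOfLinearIndependentOfCardEqFinrank']
    rfl
  · rw [coe_basisOfLinearIndependentOfCardEqFinrank']
    exact hM _

theorem exists_fr_sq' (h2 : (2 : F) ≠ 0) {M : V ≃ₗ[F] V} {n : F} (hn : n ≠ 0) {k : ℕ}
    (h8 : finrank F (eig M n) = k) (h8' : finrank F (eig M (-n)) = k) : ∃ v : Fin k → V, Fr M v := by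
  let x : Basis (Fin k) F (eig M n) := Module.finBasisOfFinrankEq F _ h8
  let y : Basis (Fin k) F (eig M (-n)) := Module.finBasisOfFinrankEq F _ h8'
  refine ⟨fun i => (x i : V) + y i, fun a c h => ?_⟩
  have hx : ∀ i, M (x i : V) = n • (x i : V) := fun i => mem_eig.1 (x i).2
  have hy : ∀ i, M (y i : V) = (-n) • (y i : V) := fun i => mem_eig.1 (y i).2
  have e1 : ∑ i, (a i • ((x i : V) + y i) + c i • M ((x i : V) + y i)) =
      ((∑ i, (a i + n * c i) • x i : eig M n) : V) + ((∑ i, (a i - n * c i) • y i : eig M (-n)) : V) := by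
    rw [Submodule.coe_sum, Submodule.coe_sum, ← Finset.sum_add_distrib]
    refine Finset.sum_congr rfl fun i _ => ?_
    rw [map_add, hx, hy, Submodule.coe_smul, Submodule.coe_smul]
    module
  rw [e1] at h
  have h3 : ((∑ i, (a i + n * c i) • x i : eig M n) : V) = 0 := by
    apply eig_inf h2 hn (Submodule.coe_mem _)
    rw [eq_neg_of_add_eq_zero_left h]
    exact Submodule.neg_mem _ (Submodule.coe_mem _)
  have h4 : ((∑ i, (a i - n * c i) • y i : eig M (-n)) : V) = 0 := by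
    rw [h3, zero_add] at h
    exact h
  have h5 := Fintype.linearIndependent_iff.1 x.linearIndependent _ (Subtype.ext h3)
  have h6 := Fintype.linearIndependent_iff.1 y.linearIndependent _ (Subtype.ext h4)
  have ha : ∀ i, a i = 0 := by
    intro i
    have h7 : 2 * a i = 0 := by linear_combination h5 i + h6 i
    exact (mul_eq_zero.1 h7).resolve_left h2
  constructor
  · funext i; exact ha i
  · funext i
    have h7 := h5 i
    rw [ha, zero_add] at h7
    exact (mul_eq_zero.1 h7).resolve_left hn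

/-- `l` not a square: the dimension is even -/
theorem even_of_nonsq {M : V ≃ₗ[F] V} {l : F} (hM : ∀ v, M (M v) = l • v) (hl : ¬ IsSquare l) :
    ∃ k, finrank F V = 2 * k := by
  by_contra hcon
  apply hl
  obtain ⟨k, hk⟩ : ∃ k, finrank F V = 2 * k + 1 := by
    rcases Nat.even_or_odd' (finrank F V) with ⟨k, h | h⟩
    · exact (hcon ⟨k, h⟩).elim
    · exact ⟨k, h⟩
  have h1 : M.toLinearMap * M.toLinearMap = l • (1 : V →ₗ[F] V) := by
    ext v
    exact hM v
  have h3 := congrArg LinearMap.det h1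
  rw [map_mul, LinearMap.det_smul, map_one, mul_one, hk, pow_succ, pow_mul'] at h3
  by_cases h0 : l = 0
  · rw [h0]; exact IsSquare.zero
  have h4 : l ^ k ≠ 0 := pow_ne_zero _ h0
  refine ⟨LinearMap.det M.toLinearMap / l ^ k, ?_⟩
  field_simp
  rw [pow_two, pow_two, h3]
  ring

/-- `M` skew: the dimension is even -/
theorem even_of_skew (h2 : (2 : F) ≠ 0) (hQ : Nondeg Q) {M : V ≃ₗ[F] V} {l : F} (hl : l ≠ 0)
    (hM : ∀ v, M (M v) = l • v) (hs : ∀ u v, polar Q (M u) v = - polar Q u (M v)) : ∃ k, finrank F V = 2 * k := by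
  by_cases h : IsSquare l
  · obtain ⟨n, rfl⟩ := h
    have hn : n ≠ 0 := fun h0 => hl (by rw [h0, mul_zero])
    refine ⟨finrank F (eig M n), ?_⟩
    have h1 : finrank F (eig M n) = finrank F (eig M (-n)) := by
      refine le_antisymm (eig_le_of_skew h2 hQ hn hM hs) ?_
      have h1 := eig_le_of_skew h2 hQ (neg_ne_zero.2 hn) (M := M) (by rw [neg_mul_neg]; exact hM) hs
      rw [neg_neg] at h1
      exact h1
    have h3 := finrank_eig h2 hn hM
    omega
  · exact even_of_nonsq hM h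

/-- existence of an adapted basis -/
theorem exists_ada' (h2 : (2 : F) ≠ 0) {k : ℕ} (hd : finrank F V = 2 * k) {M : V ≃ₗ[F] V} {l : F} (hl : l ≠ 0)
    (hM : ∀ v, M (M v) = l • v)
    (h : ∀ n : F, n * n = l → finrank F (eig M n) = finrank F (eig M (-n))) :
    ∃ b : Basis (Fin k ⊕ Fin k) F V, Ada Q M k l b := by
  by_cases hs : IsSquare l
  · obtain ⟨n, rfl⟩ := hs
    have hn : n ≠ 0 := fun h0 => hl (by rw [h0, mul_zero])
    have h1 := finrank_eig h2 hn hM
    have h3 := h n rfl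
    obtain ⟨v, hv⟩ := exists_fr_sq' h2 hn (M := M) (k := k) (by omega) (by omega)
    exact exists_ada_of_fr' hd hM hv
  · obtain ⟨v, hv⟩ := exists_fr_nonsq hM hs k (by omega)
    exact exists_ada_of_fr' hd hM hv

/-- **skew, dimension `2k`**: `finrank = k (k - 1)` -/
theorem finrank_adm_skew' (h2 : (2 : F) ≠ 0) (hQ : Nondeg Q) {k : ℕ} (hd : finrank F V = 2 * k) {M : V ≃ₗ[F] V}
    {l : F} (hl : l ≠ 0) (hM : ∀ v, M (M v) = l • v) (hs : ∀ u v, polar Q (M u) v = - polar Q u (M v)) :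
    finrank F (adm Q M) = k * (k - 1) := by
  obtain ⟨b, hb⟩ := exists_ada' (Q := Q) h2 hd hl hM (by
    rintro n rfl
    have hn : n ≠ 0 := fun h0 => hl (by rw [h0, mul_zero])
    refine le_antisymm (eig_le_of_skew h2 hQ hn hM hs) ?_
    have h1 := eig_le_of_skew h2 hQ (neg_ne_zero.2 hn) (M := M) (by rw [neg_mul_neg]; exact hM) hs
    rw [neg_neg] at h1
    exact h1)
  rw [finrank_adm (e := -1) (by ring) hb hQ (fun u v => by rw [hs]; ring), finrank_AA_neg' h2]

/-- **self-adjoint, `l` not a square, dimension `2k`**: `k²` -/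
theorem finrank_adm_nonsq' (h2 : (2 : F) ≠ 0) (hQ : Nondeg Q) {k : ℕ} (hd : finrank F V = 2 * k) {M : V ≃ₗ[F] V}
    {l : F} (hl : ¬ IsSquare l) (hM : ∀ v, M (M v) = l • v) (hs : ∀ u v, polar Q (M u) v = polar Q u (M v)) :
    finrank F (adm Q M) = k * k := by
  obtain ⟨b, hb⟩ := exists_ada' (Q := Q) h2 hd (l := l) (fun h => hl (by rw [h]; exact IsSquare.zero)) hM (by
    rintro n rfl
    exact (hl ⟨n, rfl⟩).elim)
  rw [finrank_adm (e := 1) (by ring) hb hQ (fun u v => by rw [hs]; ring), finrank_AA_pos' h2]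

/-- **self-adjoint, `l` not a square** -/
theorem finrank_adm_nonsq (h2 : (2 : F) ≠ 0) (hQ : Nondeg Q) {M : V ≃ₗ[F] V}
    {l : F} (hl : ¬ IsSquare l) (hM : ∀ v, M (M v) = l • v) (hs : ∀ u v, polar Q (M u) v = polar Q u (M v)) :
    4 * finrank F (adm Q M) = finrank F V ^ 2 := by
  obtain ⟨k, hk⟩ := even_of_nonsq hM hl
  rw [finrank_adm_nonsq' h2 hQ hk hl hM hs, hk]
  ring

/-- **skew** -/
theorem finrank_adm_skew (h2 : (2 : F) ≠ 0) (hQ : Nondeg Q) {M : V ≃ₗ[F] V}
    {l : F} (hl : l ≠ 0) (hM : ∀ v, M (M v) = l • v) (hs : ∀ u v, polar Q (M u) v = - polar Q u (M v)) :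
    4 * finrank F (adm Q M) = finrank F V * (finrank F V - 2) := by
  obtain ⟨k, hk⟩ := even_of_skew h2 hQ hl hM hs
  rw [finrank_adm_skew' h2 hQ hk hl hM hs, hk]
  rcases k with _ | k
  · rfl
  · rw [show 2 * (k + 1) - 2 = 2 * k by omega, show k + 1 - 1 = k by omega]
    ring

end form

/-! ### Symmetric bilinear forms (`E₇`) -/

section bil

variable {F V : Type*} [Field F] [AddCommGroup V] [Module F V]

/-- the skew maps anticommuting with `M` -/
def adB (B : LinearMap.BilinForm F V) (M : Module.End F V) : Submodule F (Module.End F V) where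
  carrier := {S | (∀ u v, B (S u) v = - B u (S v)) ∧ ∀ v, M (S v) = - S (M v)}
  add_mem' := by
    rintro S T ⟨h1, h2⟩ ⟨h3, h4⟩
    refine ⟨fun u v => ?_, fun v => ?_⟩
    · rw [LinearMap.add_apply, LinearMap.add_apply, map_add, LinearMap.add_apply, map_add, h1, h3]; ring
    · rw [LinearMap.add_apply, LinearMap.add_apply, map_add, h2, h4]; abel
  zero_mem' := by
    refine ⟨fun u v => ?_, fun v => ?_⟩
    · rw [LinearMap.zero_apply, LinearMap.zero_apply, map_zero, map_zero, LinearMap.zero_apply, neg_zero]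
    · rw [LinearMap.zero_apply, LinearMap.zero_apply, map_zero, neg_zero]
  smul_mem' := by
    rintro c S ⟨h1, h2⟩
    refine ⟨fun u v => ?_, fun v => ?_⟩
    · rw [LinearMap.smul_apply, LinearMap.smul_apply, map_smul, map_smul, LinearMap.smul_apply, h1, smul_neg]
    · rw [LinearMap.smul_apply, LinearMap.smul_apply, map_smul, h2, smul_neg]

theorem mem_adB {B : LinearMap.BilinForm F V} {M S : Module.End F V} :
    S ∈ adB B M ↔ (∀ u v, B (S u) v = - B u (S v)) ∧ ∀ v, M (S v) = - S (M v) := Iff.rfl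

theorem polar_toQ {B : LinearMap.BilinForm F V} (hB : ∀ u v, B u v = B v u) (u v : V) :
    polar (LinearMap.BilinMap.toQuadraticMap B) u v = 2 * B u v := by
  rw [LinearMap.BilinMap.polar_toQuadraticMap, hB v u, two_mul]

theorem adB_eq (h2 : (2 : F) ≠ 0) {B : LinearMap.BilinForm F V} (hB : ∀ u v, B u v = B v u) (M : V ≃ₗ[F] V) :
    adB B M.toLinearMap = adm (LinearMap.BilinMap.toQuadraticMap B) M := by
  ext S
  rw [mem_adB, mem_adm]
  refine and_congr (forall_congr' fun u => forall_congr' fun v => ?_) Iff.rfl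
  rw [polar_toQ hB, polar_toQ hB, ← mul_neg]
  exact ⟨fun h => by rw [h], fun h => mul_left_cancel₀ h2 h⟩

/-- a linear map with scalar square is invertible -/
theorem exists_equiv {M : Module.End F V} {l : F} (hl : l ≠ 0) (hM : M * M = l • 1) :
    ∃ M' : V ≃ₗ[F] V, M'.toLinearMap = M := by
  have h1 : ∀ v, M (M v) = l • v := fun v => congrArg (fun f : Module.End F V => f v) hM
  refine ⟨LinearEquiv.ofLinear M (l⁻¹ • M) ?_ ?_, ?_⟩
  · ext v
    show M (l⁻¹ • M v) = v
    rw [map_smul, h1, smul_smul, inv_mul_cancel₀ hl, one_smul]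
  · ext v
    show l⁻¹ • M (M v) = v
    rw [h1, smul_smul, inv_mul_cancel₀ hl, one_smul]
  · ext v; rfl

variable [FiniteDimensional F V] {B : LinearMap.BilinForm F V}

omit [FiniteDimensional F V] in
theorem nondeg_toQ (h2 : (2 : F) ≠ 0) (hB : ∀ u v, B u v = B v u) (nd : ∀ u, (∀ v, B u v = 0) → u = 0) :
    Nondeg (LinearMap.BilinMap.toQuadraticMap B) := by
  intro x hx
  apply nd
  intro v
  have h := hx v
  rw [polar_toQ hB] at h
  exact (mul_eq_zero.1 h).resolve_left h2

/-- **self-adjoint, `l = ν²`**, `k = finrank ker (M + ν)` -/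
theorem finrank_adB_sq (h2 : (2 : F) ≠ 0) (hB : ∀ u v, B u v = B v u) (nd : ∀ u, (∀ v, B u v = 0) → u = 0)
    {M : Module.End F V} {ν : F} (hν : ν ≠ 0) (hM : M * M = ν ^ 2 • 1) (hs : ∀ u v, B (M u) v = B u (M v)) :
    finrank F (adB B M) = finrank F (LinearMap.ker (M + ν • 1)) * (finrank F V - finrank F (LinearMap.ker (M + ν • 1))) := by
  obtain ⟨M, rfl⟩ := exists_equiv (pow_ne_zero 2 hν) hM
  have h1 : ∀ v, M (M v) = ((-ν) * (-ν)) • v := by
    intro v
    rw [neg_mul_neg, ← pow_two]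
    exact congrArg (fun f : Module.End F V => f v) hM
  have h3 : LinearMap.ker (M.toLinearMap + ν • (1 : Module.End F V)) = eig M (-ν) := by
    ext v
    rw [mem_eig, LinearMap.mem_ker, LinearMap.add_apply, LinearMap.smul_apply, add_eq_zero_iff_eq_neg, neg_smul]
    rfl
  rw [adB_eq h2 hB, finrank_adm_sq h2 (nondeg_toQ h2 hB nd) (neg_ne_zero.2 hν) h1
    (fun u v => by rw [polar_toQ hB, polar_toQ hB]; exact congrArg (2 * ·) (hs u v)), h3]

/-- **self-adjoint, `l` not a square** -/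
theorem finrank_adB_nonsq (h2 : (2 : F) ≠ 0) (hB : ∀ u v, B u v = B v u) (nd : ∀ u, (∀ v, B u v = 0) → u = 0)
    {M : Module.End F V} {l : F} (hl : ¬ IsSquare l) (hM : M * M = l • 1) (hs : ∀ u v, B (M u) v = B u (M v)) :
    4 * finrank F (adB B M) = finrank F V ^ 2 := by
  obtain ⟨M, rfl⟩ := exists_equiv (fun h : l = 0 => hl (by rw [h]; exact IsSquare.zero)) hM
  rw [adB_eq h2 hB]
  exact finrank_adm_nonsq h2 (nondeg_toQ h2 hB nd) hl (fun v => congrArg (fun f : Module.End F V => f v) hM)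
    (fun u v => by rw [polar_toQ hB, polar_toQ hB]; exact congrArg (2 * ·) (hs u v))

/-- **skew** -/
theorem finrank_adB_skew (h2 : (2 : F) ≠ 0) (hB : ∀ u v, B u v = B v u) (nd : ∀ u, (∀ v, B u v = 0) → u = 0)
    {M : Module.End F V} {l : F} (hl : l ≠ 0) (hM : M * M = l • 1) (hs : ∀ u v, B (M u) v = - B u (M v)) :
    4 * finrank F (adB B M) = finrank F V * (finrank F V - 2) := by
  obtain ⟨M, rfl⟩ := exists_equiv hl hM
  rw [adB_eq h2 hB]
  exact finrank_adm_skew h2 (nondeg_toQ h2 hB nd) hl (fun v => congrArg (fun f : Module.End F V => f v) hM)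
    (fun u v => by rw [polar_toQ hB, polar_toQ hB, ← mul_neg]; exact congrArg (2 * ·) (hs u v))

omit [FiniteDimensional F V] in
/-- a similitude with scalar square is self-adjoint or skew -/
theorem sa_or_sk {M : Module.End F V} {l μ : F} (hl : l ≠ 0) (hM : M * M = l • 1)
    (hμ : ∀ u v, B (M u) (M v) = μ * B u v) (nd : ∀ u, (∀ v, B u v = 0) → u = 0) :
    (∀ u v, B (M u) v = B u (M v)) ∨ ∀ u v, B (M u) v = - B u (M v) := by
  have h1 : ∀ v, M (M v) = l • v := fun v => congrArg (fun f : Module.End F V => f v) hM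
  have h3 : ∀ u v, l * B (M u) v = μ * B u (M v) := by
    intro u v
    rw [← hμ, h1, map_smul, smul_eq_mul]
  by_cases h0 : ∀ u v, B u v = 0
  · left
    intro u v
    rw [h0, h0]
  push Not at h0
  obtain ⟨u, v, huv⟩ := h0
  have h4 : μ * μ = l * l := by
    have h5 : B (M (M u)) (M (M v)) = μ * (μ * B u v) := by rw [hμ, hμ]
    rw [h1, h1, map_smul, map_smul, LinearMap.smul_apply, smul_eq_mul, smul_eq_mul] at h5
    have h6 : (μ * μ - l * l) * B u v = 0 := by linear_combination -h5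
    exact sub_eq_zero.1 ((mul_eq_zero.1 h6).resolve_right huv)
  rcases mul_self_eq_mul_self_iff.1 h4 with h5 | h5
  · left
    intro u v
    have h6 := h3 u v
    rw [h5] at h6
    exact mul_left_cancel₀ hl h6
  · right
    intro u v
    have h6 := h3 u v
    rw [h5] at h6
    apply mul_left_cancel₀ hl
    rw [h6]; ring

/-! ### Dimension 12: the fields `t1`, `t2`, `t3` of the interface of `E₇` -/

/-- dimension 12, value 32 -/
theorem t1_of (h2 : (2 : F) ≠ 0) (hd : finrank F V = 12) (hB : ∀ u v, B u v = B v u)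
    (nd : ∀ u, (∀ v, B u v = 0) → u = 0) {M : Module.End F V} {l μ : F} (hl : l ≠ 0) (hM : M * M = l • 1)
    (hμ : ∀ u v, B (M u) (M v) = μ * B u v) (h : finrank F (adB B M) = 32) :
    ∃ ν : F, ν ≠ 0 ∧ M * M = ν ^ 2 • 1 ∧ (∀ u v, B (M u) v = B u (M v)) ∧
      (finrank F (LinearMap.ker (M + ν • 1)) = 4 ∨ finrank F (LinearMap.ker (M + ν • 1)) = 8) := by
  rcases sa_or_sk hl hM hμ nd with hs | hs
  · by_cases hq : IsSquare l
    · obtain ⟨ν, rfl⟩ := hq
      have hν : ν ≠ 0 := fun h0 => hl (by rw [h0, mul_zero])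
      rw [show ν * ν = ν ^ 2 from (pow_two ν).symm] at hM
      refine ⟨ν, hν, hM, hs, ?_⟩
      have h3 := finrank_adB_sq h2 hB nd hν hM hs
      rw [h, hd] at h3
      have h4 : finrank F (LinearMap.ker (M + ν • 1)) ≤ 12 := hd ▸ Submodule.finrank_le _
      generalize finrank F (LinearMap.ker (M + ν • (1 : Module.End F V))) = k at h3 h4
      interval_cases k <;> omega
    · have h3 := finrank_adB_nonsq h2 hB nd hq hM hs
      rw [h, hd] at h3
      norm_num at h3
  · have h3 := finrank_adB_skew h2 hB nd hl hM hs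
    rw [h, hd] at h3
    norm_num at h3

/-- dimension 12, value not 32 -/
theorem t2_of (h2 : (2 : F) ≠ 0) (hd : finrank F V = 12) (hB : ∀ u v, B u v = B v u)
    (nd : ∀ u, (∀ v, B u v = 0) → u = 0) {M : Module.End F V} {ν : F} (hν : ν ≠ 0) (hM : M * M = ν ^ 2 • 1)
    (hs : ∀ u v, B (M u) v = B u (M v)) (h : finrank F (adB B M) ≠ 32) :
    finrank F (LinearMap.ker (M + ν • 1)) ≠ 4 ∧ finrank F (LinearMap.ker (M + ν • 1)) ≠ 8 := by
  have h3 := finrank_adB_sq h2 hB nd hν hM hs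
  rw [hd] at h3
  constructor
  · intro h4
    rw [h4] at h3
    exact h h3
  · intro h4
    rw [h4] at h3
    exact h h3

/-- dimension 12, value not 36 -/
theorem t3_of (h2 : (2 : F) ≠ 0) (hd : finrank F V = 12) (hB : ∀ u v, B u v = B v u)
    (nd : ∀ u, (∀ v, B u v = 0) → u = 0) {M : Module.End F V} {l : F} (hM : M * M = l • 1)
    (hs : ∀ u v, B (M u) v = B u (M v)) (h : finrank F (adB B M) ≠ 36) : IsSquare l := by
  by_contra hq
  have h3 := finrank_adB_nonsq h2 hB nd hq hM hs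
  rw [hd] at h3
  omega

end bil

/-! ### The ideal `sl₂` -/

section sl2

variable {F : Type*} [Field F]

/-- the elements of `sl₂` anticommuting with `a` -/
def adS (a : Matrix (Fin 2) (Fin 2) F) : Submodule F (Matrix (Fin 2) (Fin 2) F) where
  carrier := {s | s.trace = 0 ∧ a * s = - (s * a)}
  add_mem' := by
    rintro s t ⟨h1, h2⟩ ⟨h3, h4⟩
    refine ⟨by rw [Matrix.trace_add, h1, h3, add_zero], ?_⟩
    rw [mul_add, add_mul, h2, h4]; abel
  zero_mem' := ⟨Matrix.trace_zero _ _, by rw [mul_zero, zero_mul, neg_zero]⟩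
  smul_mem' := by
    rintro c s ⟨h1, h2⟩
    refine ⟨by rw [Matrix.trace_smul, h1, smul_zero], ?_⟩
    rw [mul_smul_comm, smul_mul_assoc, h2, smul_neg]

theorem finrank_adS_scalar (h2 : (2 : F) ≠ 0) {c : F} (hc : c ≠ 0) :
    finrank F (adS (c • (1 : Matrix (Fin 2) (Fin 2) F))) = 0 := by
  rw [Submodule.finrank_eq_zero]
  rw [eq_bot_iff]
  rintro s ⟨-, h⟩
  rw [smul_mul_assoc, one_mul, mul_smul_comm, mul_one] at h
  have h1 : (2 * c) • s = 0 := by
    rw [two_mul, add_smul]
    nth_rewrite 1 [h]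
    rw [neg_add_cancel]
  exact (smul_eq_zero.1 h1).resolve_left (mul_ne_zero h2 hc)

/-- the square of a nonscalar matrix is scalar: the trace is zero -/
theorem trace_zero {a : Matrix (Fin 2) (Fin 2) F} (ha : ¬ ∃ c : F, a = c • 1) {c : F} (h : a * a = c • 1) :
    a.trace = 0 := by
  by_contra ht
  apply ha
  have h1 : a.trace • a = a * a + a.det • 1 := by
    ext i j
    (revert i j; simp only [Matrix.mul_apply, Fin.sum_univ_two, Matrix.trace_fin_two, Matrix.det_fin_two, _root_.Fin.forall_fin_succ, Fin.isValue, _root_.Matrix.smul_apply, _root_.smul_eq_mul, _root_.Matrix.add_apply, _root_.Fin.succ_zero_eq_one, _root_.IsEmpty.forall_iff, _root_.and_true, _root_.Matrix.one_apply_eq, _root_.mul_one, _root_.add_add_sub_cancel, Nat.reduceAdd, _root_.ne_eq, _root_.zero_ne_one, _root_.not_false_eq_true, _root_.Matrix.one_apply_ne, _root_.MulZeroClass.mul_zero, _root_.add_zero, _root_.Fin.succ_ne_zero]) <;> (repeat' with_reducible apply And.intro) <;> ring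
  refine ⟨(c + a.det) / a.trace, ?_⟩
  have h3 : a.trace • a = (c + a.det) • 1 := by rw [h1, h, add_smul]
  rw [div_eq_inv_mul, mul_smul, ← h3, smul_smul, inv_mul_cancel₀ ht, one_smul]

/-- for `a`, `s` of trace zero `a s + s a` is the scalar `tr (a s)` -/
theorem anti_iff {a s : Matrix (Fin 2) (Fin 2) F} (ha : a.trace = 0) (hs : s.trace = 0) :
    a * s = - (s * a) ↔ (a * s).trace = 0 := by
  rw [Matrix.trace_fin_two] at ha hs
  have key : a * s + s * a = (a * s).trace • 1 := by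
    ext i j
    (revert i j; simp only [Matrix.mul_apply, Fin.sum_univ_two, Matrix.trace_fin_two, _root_.Fin.forall_fin_succ, _root_.Matrix.add_apply, Fin.isValue, _root_.Matrix.smul_apply, _root_.smul_eq_mul, _root_.Fin.succ_zero_eq_one, _root_.IsEmpty.forall_iff, _root_.Matrix.one_apply_eq, _root_.mul_one, _root_.add_right_inj, Nat.reduceAdd, _root_.ne_eq, _root_.zero_ne_one, _root_.not_false_eq_true, _root_.Matrix.one_apply_ne, _root_.MulZeroClass.mul_zero, _root_.Fin.succ_ne_zero, _root_.and_true, _root_.true_and]) <;> (repeat' with_reducible apply And.intro)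
    · linear_combination s 0 0 * ha - a 1 1 * hs
    · linear_combination s 0 1 * ha + a 0 1 * hs
    · linear_combination s 1 0 * ha + a 1 0 * hs
    · linear_combination -s 0 0 * ha + a 1 1 * hs
  rw [← add_eq_zero_iff_eq_neg, key]
  constructor
  · intro h
    have := congrFun (congrFun h 0) 0
    simpa using this
  · intro h
    rw [h, zero_smul]

/-- **`a` not scalar, `a²` scalar, `a` invertible: dimension 2** -/
theorem finrank_adS (h2 : (2 : F) ≠ 0) {a : Matrix (Fin 2) (Fin 2) F} (ha : ¬ ∃ c : F, a = c • 1) {c : F}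
    (hc : c ≠ 0) (h : a * a = c • 1) : finrank F (adS a) = 2 := by
  have ht := trace_zero ha h
  let f : Matrix (Fin 2) (Fin 2) F →ₗ[F] F × F :=
    LinearMap.prod (Matrix.traceLinearMap (Fin 2) F F)
      ((Matrix.traceLinearMap (Fin 2) F F).comp (LinearMap.mulLeft F a))
  have hf : ∀ s, f s = (s.trace, (a * s).trace) := fun s => rfl
  have hk : adS a = LinearMap.ker f := by
    ext s
    rw [LinearMap.mem_ker, hf, Prod.mk_eq_zero]
    constructor
    · rintro ⟨h1, h3⟩
      exact ⟨h1, (anti_iff ht h1).1 h3⟩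
    · rintro ⟨h1, h3⟩
      exact ⟨h1, (anti_iff ht h1).2 h3⟩
  have hs : Function.Surjective f := by
    rintro ⟨x, y⟩
    refine ⟨(x / 2) • 1 + (y / (2 * c)) • a, ?_⟩
    rw [hf]
    have e1 : (1 : Matrix (Fin 2) (Fin 2) F).trace = 2 := by rw [Matrix.trace_one, Fintype.card_fin]; rfl
    rw [Prod.mk.injEq]
    constructor
    · rw [Matrix.trace_add, Matrix.trace_smul, Matrix.trace_smul, ht, e1, smul_zero, add_zero, smul_eq_mul]
      field_simp
    · rw [mul_add, mul_smul_comm, mul_smul_comm, mul_one, h, Matrix.trace_add, Matrix.trace_smul, Matrix.trace_smul,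
        Matrix.trace_smul, ht, e1, smul_zero, zero_add, smul_eq_mul, smul_eq_mul]
      field_simp
  have h3 := LinearMap.finrank_range_add_finrank_ker f
  rw [LinearMap.range_eq_top.2 hs, finrank_top, Module.finrank_prod, Module.finrank_self, ← hk,
    Module.finrank_matrix, Fintype.card_fin, Module.finrank_self] at h3
  omega

end sl2

end Cfsg.Agent.H921.Co3.Sim
end

-- part: H921/Co3/Glue7
section
/-!
# S1920, `E₇(q)`, GLUE7: the tables `t1`, `t2`, `t3` of `E7I` from the numbers (helper921)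

* `E7R z B R ι` : the fields of `E7I` used here (relation `R`, the subgroup `ι : SL₂(F) → G`);
* `Num7 z B R m` : `m g` = dimension of the `(-1)`-eigenspace of `g` on the 133-dimensional module; its values on the
  involutions are 54, 64, 70; it is not 38 on the square roots of `z`; and its splitting `L = sl₂ + so₁₂ + L₋`;
* `t1`, `t2`, `t3` : the fields.
-/

set_option autoImplicit false

namespace Cfsg.Agent.H921.Co3.Glue7

open Module
open Cfsg.Agent.H921.Co3.Sim
open Cfsg.Agent.H627.Co3 (Sym)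

variable {G F V : Type*} [Group G] [Field F] [AddCommGroup V] [Module F V]

/-- the part of `E7I` which is used here -/
structure E7R (z : G) (B : LinearMap.BilinForm F V) (R : G → Matrix (Fin 2) (Fin 2) F → Module.End F V → Prop)
    (ι : Matrix.SpecialLinearGroup (Fin 2) F →* G) : Prop where
  two : (2 : F) ≠ 0
  dim : finrank F V = 12
  symm : ∀ u v, B u v = B v u
  nd : ∀ u, (∀ v, B u v = 0) → u = 0
  ex : ∀ g, g * z = z * g → ∃ a M, R g a M
  cz : ∀ {g a M}, R g a M → g * z = z * g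
  det : ∀ {g a M}, R g a M → a.det ≠ 0
  sim : ∀ {g a M}, R g a M → ∃ μ : F, μ ≠ 0 ∧ ∀ u v, B (M u) (M v) = μ * B u v
  mul : ∀ {g a M g' a' M'}, R g a M → R g' a' M' → R (g * g') (a * a') (M * M')
  uniq : ∀ {g a M a' M'}, R g a M → R g a' M' → (∃ c : F, a' = c • a) ∧ ∃ c : F, M' = c • M
  scal : ∀ {g a M} {c d : F}, R g a M → c ≠ 0 → d ≠ 0 → R g (c • a) (d • M)
  ker : ∀ {g}, R g 1 1 → g = 1 ∨ g = z
  Rι : ∀ x, R (ι x) x 1
  ι_neg : ι (-1) = z
  z_ne : z ≠ 1

/-- the numbers -/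
structure Num7 (z : G) (B : LinearMap.BilinForm F V) (R : G → Matrix (Fin 2) (Fin 2) F → Module.End F V → Prop)
    (m : G → ℕ) : Prop where
  /-- involutions -/
  two : ∀ g, g * g = 1 → g ≠ 1 → m g = 54 ∨ m g = 64 ∨ m g = 70
  /-- square roots of `z` -/
  four : ∀ g, g * g = z → m g ≠ 38
  /-- involutions conjugate to `g z` -/
  f1 : ∀ {g a M}, R g a M → g * g = 1 → (∃ k, k * g * k⁻¹ = g * z) →
    m g = finrank F (adS a) + finrank F (adB B M) + 32
  /-- square roots of `z` -/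
  f2 : ∀ {g a M}, R g a M → g * g = z → m g = finrank F (adS a) + finrank F (adB B M)

variable {z : G} {B : LinearMap.BilinForm F V} {R : G → Matrix (Fin 2) (Fin 2) F → Module.End F V → Prop}
  {ι : Matrix.SpecialLinearGroup (Fin 2) F →* G} {m : G → ℕ}

namespace E7R

theorem one (T : E7R z B R ι) : R 1 1 1 := by
  have h := T.Rι 1
  rwa [map_one, Matrix.SpecialLinearGroup.coe_one] at h

theorem zz (T : E7R z B R ι) : z * z = 1 := by
  rw [← T.ι_neg, ← map_mul, neg_mul_neg, one_mul, map_one]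

theorem Rz (T : E7R z B R ι) : R z (-1) 1 := by
  have h := T.Rι (-1)
  rwa [T.ι_neg, Matrix.SpecialLinearGroup.coe_neg, Matrix.SpecialLinearGroup.coe_one] at h

theorem exists_ne (T : E7R z B R ι) : ∃ u v, B u v ≠ 0 := by
  by_contra h
  push Not at h
  have h1 : ∀ u : V, u = 0 := fun u => T.nd u (h u)
  have h2 : Subsingleton V := ⟨fun a b => by rw [h1 a, h1 b]⟩
  have h3 := T.dim
  rw [Module.finrank_zero_of_subsingleton] at h3
  omega

/-- the endomorphism is not zero -/
theorem ne_zero (T : E7R z B R ι) {g : G} {a : Matrix (Fin 2) (Fin 2) F} {M : Module.End F V} (h : R g a M) : M ≠ 0 := by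
  rintro rfl
  obtain ⟨μ, hμ, h1⟩ := T.sim h
  obtain ⟨u, v, huv⟩ := T.exists_ne
  have h2 := h1 u v
  rw [LinearMap.zero_apply, LinearMap.zero_apply, map_zero] at h2
  exact (mul_ne_zero hμ huv) h2.symm

theorem ne_zero' (T : E7R z B R ι) {g : G} {a : Matrix (Fin 2) (Fin 2) F} {M : Module.End F V} (h : R g a M) : a ≠ 0 := by
  rintro rfl
  apply T.det h
  rw [Matrix.det_fin_two]
  simp

/-- inverses -/
theorem inv (T : E7R z B R ι) {g : G} {a : Matrix (Fin 2) (Fin 2) F} {M : Module.End F V} (h : R g a M) :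
    ∃ a' M', R g⁻¹ a' M' ∧ (∃ c : F, c ≠ 0 ∧ a * a' = c • 1) ∧ ∃ c : F, c ≠ 0 ∧ M * M' = c • 1 := by
  have hz : g⁻¹ * z = z * g⁻¹ := by
    have h1 := T.cz h
    calc g⁻¹ * z = g⁻¹ * (z * g) * g⁻¹ := by group
      _ = g⁻¹ * (g * z) * g⁻¹ := by rw [h1]
      _ = z * g⁻¹ := by group
  obtain ⟨a', M', h'⟩ := T.ex _ hz
  refine ⟨a', M', h', ?_, ?_⟩
  · have h1 := T.mul h h'
    rw [mul_inv_cancel] at h1
    obtain ⟨⟨c, hc⟩, -⟩ := T.uniq T.one h1
    refine ⟨c, ?_, hc⟩
    rintro rfl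
    rw [zero_smul] at hc
    exact T.ne_zero' h1 hc
  · have h1 := T.mul h h'
    rw [mul_inv_cancel] at h1
    obtain ⟨-, c, hc⟩ := T.uniq T.one h1
    refine ⟨c, ?_, hc⟩
    rintro rfl
    rw [zero_smul] at hc
    exact T.ne_zero h1 hc

/-- an element acting trivially on `sl₂` centralises `SL₂(F)` modulo `z` -/
theorem conj_ι (T : E7R z B R ι) {n : G} {M : Module.End F V} (h : R n 1 M) (x : Matrix.SpecialLinearGroup (Fin 2) F) :
    n * ι x * n⁻¹ = ι x ∨ n * ι x * n⁻¹ = z * ι x := by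
  obtain ⟨a', M', h', ⟨c, hc, hca⟩, d, hd, hdM⟩ := T.inv h
  rw [one_mul] at hca
  have h1 := T.mul (T.mul (T.mul h (T.Rι x)) h') (T.Rι x⁻¹)
  have e1 : (1 : Matrix (Fin 2) (Fin 2) F) * x * a' * ((x⁻¹ : Matrix.SpecialLinearGroup (Fin 2) F) :
      Matrix (Fin 2) (Fin 2) F) = c • 1 := by
    rw [hca, one_mul, mul_smul_comm, mul_one, smul_mul_assoc, ← Matrix.SpecialLinearGroup.coe_mul, mul_inv_cancel,
      Matrix.SpecialLinearGroup.coe_one]
  have e2 : M * 1 * M' * (1 : Module.End F V) = d • 1 := by rw [mul_one, mul_one, hdM]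
  rw [e1, e2] at h1
  have h3 := T.scal h1 (inv_ne_zero hc) (inv_ne_zero hd)
  rw [smul_smul, smul_smul, inv_mul_cancel₀ hc, inv_mul_cancel₀ hd, one_smul, one_smul] at h3
  have e3 : n * ι x * n⁻¹ = (n * ι x * n⁻¹ * ι x⁻¹) * ι x := by rw [map_inv, inv_mul_cancel_right]
  rcases T.ker h3 with h4 | h4
  · left
    rw [e3, h4, one_mul]
  · right
    rw [e3, h4]

/-- it centralises the squares -/
theorem conj_sq (T : E7R z B R ι) {n : G} {M : Module.End F V} (h : R n 1 M) (x : Matrix.SpecialLinearGroup (Fin 2) F) :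
    n * ι (x * x) * n⁻¹ = ι (x * x) := by
  have hzx : z * ι x = ι x * z := by
    rw [← T.ι_neg, ← map_mul, ← map_mul, neg_mul, one_mul, mul_neg, mul_one]
  have e : n * ι (x * x) * n⁻¹ = (n * ι x * n⁻¹) * (n * ι x * n⁻¹) := by rw [map_mul]; group
  rcases T.conj_ι h x with h1 | h1
  · rw [e, h1, map_mul]
  · rw [e, h1, hzx, map_mul]
    calc ι x * z * (ι x * z) = ι x * (z * ι x) * z := by group
      _ = ι x * (ι x * z) * z := by rw [hzx]
      _ = ι x * ι x * (z * z) := by group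
      _ = ι x * ι x := by rw [T.zz, mul_one]

end E7R

/-! ### transvections -/

/-- upper transvections -/
def up (t : F) : Matrix.SpecialLinearGroup (Fin 2) F := ⟨!![1, t; 0, 1], by simp [Matrix.det_fin_two]⟩

/-- lower transvections -/
def lo (t : F) : Matrix.SpecialLinearGroup (Fin 2) F := ⟨!![1, 0; t, 1], by simp [Matrix.det_fin_two]⟩

theorem up_sq (h2 : (2 : F) ≠ 0) (t : F) : up t = up (t / 2) * up (t / 2) := by
  apply Subtype.ext
  rw [Matrix.SpecialLinearGroup.coe_mul]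
  show !![1, t; 0, 1] = !![1, t / 2; 0, 1] * !![1, t / 2; 0, 1]
  rw [Matrix.mul_fin_two]
  ext i j
  (revert i j; simp only [_root_.Fin.forall_fin_succ, _root_.Matrix.of_apply, _root_.Matrix.cons_val', _root_.Matrix.cons_val_fin_one, _root_.mul_one, _root_.MulZeroClass.mul_zero, _root_.add_zero, _root_.one_mul, _root_.MulZeroClass.zero_mul, _root_.zero_add, Fin.isValue, _root_.Matrix.cons_val_zero, _root_.Matrix.cons_val_succ, _root_.forall_const, _root_.implies_true, _root_.and_true, _root_.true_and]) <;> (repeat' with_reducible apply And.intro)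
  field_simp
  ring

theorem lo_sq (h2 : (2 : F) ≠ 0) (t : F) : lo t = lo (t / 2) * lo (t / 2) := by
  apply Subtype.ext
  rw [Matrix.SpecialLinearGroup.coe_mul]
  show !![1, 0; t, 1] = !![1, 0; t / 2, 1] * !![1, 0; t / 2, 1]
  rw [Matrix.mul_fin_two]
  ext i j
  (revert i j; simp only [_root_.Fin.forall_fin_succ, _root_.Matrix.of_apply, _root_.Matrix.cons_val', _root_.Matrix.cons_val_fin_one, _root_.mul_one, _root_.MulZeroClass.zero_mul, _root_.add_zero, _root_.MulZeroClass.mul_zero, _root_.one_mul, _root_.zero_add, Fin.isValue, _root_.Matrix.cons_val_zero, _root_.Matrix.cons_val_succ, _root_.implies_true, _root_.forall_const, _root_.and_true, _root_.true_and]) <;> (repeat' with_reducible apply And.intro)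
  field_simp
  ring

theorem three (x : Matrix.SpecialLinearGroup (Fin 2) F) (hc : x.1 1 0 ≠ 0) :
    x = up ((x.1 0 0 - 1) / x.1 1 0) * lo (x.1 1 0) * up ((x.1 1 1 - 1) / x.1 1 0) := by
  have hd := x.2
  rw [Matrix.det_fin_two] at hd
  apply Subtype.ext
  rw [Matrix.SpecialLinearGroup.coe_mul, Matrix.SpecialLinearGroup.coe_mul]
  show x.1 = !![1, (x.1 0 0 - 1) / x.1 1 0; 0, 1] * !![1, 0; x.1 1 0, 1] * !![1, (x.1 1 1 - 1) / x.1 1 0; 0, 1]
  rw [Matrix.mul_fin_two, Matrix.mul_fin_two]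
  ext i j
  fin_cases i <;> fin_cases j
  · show x.1 0 0 = (1 * 1 + (x.1 0 0 - 1) / x.1 1 0 * x.1 1 0) * 1 + (1 * 0 + (x.1 0 0 - 1) / x.1 1 0 * 1) * 0
    field_simp
    ring
  · show x.1 0 1 = (1 * 1 + (x.1 0 0 - 1) / x.1 1 0 * x.1 1 0) * ((x.1 1 1 - 1) / x.1 1 0) +
      (1 * 0 + (x.1 0 0 - 1) / x.1 1 0 * 1) * 1
    field_simp
    linear_combination -hd
  · show x.1 1 0 = (0 * 1 + 1 * x.1 1 0) * 1 + (0 * 0 + 1 * 1) * 0
    ring
  · show x.1 1 1 = (0 * 1 + 1 * x.1 1 0) * ((x.1 1 1 - 1) / x.1 1 0) + (0 * 0 + 1 * 1) * 1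
    field_simp
    ring

/-- the element of order four -/
def jj : Matrix.SpecialLinearGroup (Fin 2) F := ⟨!![0, 1; -1, 0], by simp [Matrix.det_fin_two]⟩

/-- the element anticommuting with it -/
def kk (a b : F) (h : a ^ 2 + b ^ 2 = -1) : Matrix.SpecialLinearGroup (Fin 2) F := ⟨!![a, b; b, -a], by
  rw [Matrix.det_fin_two_of]
  linear_combination -h⟩

theorem jj_sq : (jj : Matrix.SpecialLinearGroup (Fin 2) F) * jj = -1 := by
  apply Subtype.ext
  rw [Matrix.SpecialLinearGroup.coe_mul]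
  show !![0, 1; -1, 0] * !![0, 1; -1, 0] = -(1 : Matrix (Fin 2) (Fin 2) F)
  rw [Matrix.mul_fin_two]
  ext i j
  (revert i j; simp only [_root_.Fin.forall_fin_succ, _root_.MulZeroClass.mul_zero, _root_.mul_neg, _root_.mul_one, _root_.zero_add, _root_.add_zero, _root_.neg_zero, _root_.Matrix.of_apply, _root_.Matrix.cons_val', _root_.Matrix.cons_val_fin_one, _root_.Matrix.neg_apply, Fin.isValue, _root_.Matrix.cons_val_zero, _root_.Matrix.cons_val_succ, _root_.IsEmpty.forall_iff, _root_.and_true, _root_.Matrix.one_apply_eq, Nat.reduceAdd, _root_.Fin.succ_zero_eq_one, _root_.ne_eq, _root_.zero_ne_one, _root_.not_false_eq_true, _root_.Matrix.one_apply_ne, _root_.and_self, _root_.Fin.succ_ne_zero, _root_.neg_inj, _root_.true_and])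

theorem kk_jj (a b : F) (h : a ^ 2 + b ^ 2 = -1) : kk a b h * jj = -1 * (jj * kk a b h) := by
  apply Subtype.ext
  rw [Matrix.SpecialLinearGroup.coe_mul, Matrix.SpecialLinearGroup.coe_mul, Matrix.SpecialLinearGroup.coe_mul]
  show !![a, b; b, -a] * !![0, 1; -1, 0] = -(1 : Matrix (Fin 2) (Fin 2) F) * (!![0, 1; -1, 0] * !![a, b; b, -a])
  rw [Matrix.mul_fin_two, Matrix.mul_fin_two, neg_mul, one_mul]
  ext i j
  (revert i j; simp only [_root_.Fin.forall_fin_succ, _root_.MulZeroClass.mul_zero, _root_.mul_neg, _root_.mul_one, _root_.zero_add, _root_.add_zero, _root_.neg_neg, _root_.Matrix.of_apply, _root_.Matrix.cons_val', _root_.Matrix.cons_val_fin_one, _root_.MulZeroClass.zero_mul, _root_.one_mul, _root_.neg_mul, _root_.neg_zero, _root_.Matrix.neg_apply, Fin.isValue, _root_.Matrix.cons_val_zero, _root_.Matrix.cons_val_succ, _root_.forall_const, _root_.and_self, _root_.implies_true])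

/-- sums of two squares -/
theorem exists_ab (F : Type*) [Field F] [Finite F] : ∃ a b : F, a ^ 2 + b ^ 2 = -1 ∧ b ≠ 0 := by
  obtain ⟨p, hp⟩ := CharP.exists F
  have hp0 : p ≠ 0 := CharP.char_ne_zero_of_finite F p
  have := NeZero.mk hp0
  obtain ⟨a, b, hab⟩ := CharP.sq_add_sq F p (-1)
  rw [Int.cast_neg, Int.cast_one] at hab
  by_cases hb : (b : F) = 0
  · refine ⟨b, a, by rw [add_comm]; exact hab, fun ha => ?_⟩
    rw [ha, hb] at hab
    norm_num at hab
  · exact ⟨a, b, hab, hb⟩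

/-! ### The fields -/

namespace E7R

/-- it centralises `SL₂(F)` exactly (elements with nonzero lower left entry) -/
theorem comm_ι (T : E7R z B R ι) {n : G} {M : Module.End F V} (h : R n 1 M) (x : Matrix.SpecialLinearGroup (Fin 2) F)
    (hx : x.1 1 0 ≠ 0) : n * ι x = ι x * n := by
  have key : n * ι x * n⁻¹ = ι x := by
    have h1 : ∀ t, n * ι (up t) * n⁻¹ = ι (up t) := fun t => by
      have := T.conj_sq h (up (t / 2))
      rwa [← up_sq T.two] at this
    have h3 : ∀ t, n * ι (lo t) * n⁻¹ = ι (lo t) := fun t => by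
      have := T.conj_sq h (lo (t / 2))
      rwa [← lo_sq T.two] at this
    rw [three x hx, map_mul, map_mul]
    calc n * (ι (up ((x.1 0 0 - 1) / x.1 1 0)) * ι (lo (x.1 1 0)) * ι (up ((x.1 1 1 - 1) / x.1 1 0))) * n⁻¹ =
        (n * ι (up ((x.1 0 0 - 1) / x.1 1 0)) * n⁻¹) * (n * ι (lo (x.1 1 0)) * n⁻¹) *
          (n * ι (up ((x.1 1 1 - 1) / x.1 1 0)) * n⁻¹) := by group
      _ = _ := by rw [h1, h1, h3]
  calc n * ι x = (n * ι x * n⁻¹) * n := by group
    _ = ι x * n := by rw [key]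

/-- `M²` for an element with `a = 1` -/
theorem sq_of {T : E7R z B R ι} {n : G} {a : Matrix (Fin 2) (Fin 2) F} {M : Module.End F V} (h : R n a M)
    (hn : n * n = 1 ∨ n * n = z) : ∃ l : F, l ≠ 0 ∧ M * M = l • 1 := by
  have h1 := T.mul h h
  have h3 : ∃ a', R (n * n) a' 1 := by
    rcases hn with hn | hn
    · rw [hn]; exact ⟨_, T.one⟩
    · rw [hn]; exact ⟨_, T.Rz⟩
  obtain ⟨a', h3⟩ := h3
  obtain ⟨-, l, hl⟩ := T.uniq h3 h1
  refine ⟨l, ?_, hl⟩
  rintro rfl
  rw [zero_smul] at hl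
  exact T.ne_zero h1 hl

end E7R

variable [FiniteDimensional F V]

/-- **the field `t1`** -/
theorem t1 (T : E7R z B R ι) (N : Num7 z B R m) {n : G} {M : Module.End F V} (h : R n 1 M) (hn : n * n = 1)
    (hk : ∃ k, k * n * k⁻¹ = n * z) : ∃ ν : F, ν ≠ 0 ∧ M * M = ν ^ 2 • 1 ∧ _root_.Cfsg.Agent.H627.Co3.Sym B M ∧
    (finrank F (LinearMap.ker (M + ν • 1)) = 4 ∨ finrank F (LinearMap.ker (M + ν • 1)) = 8) := by
  obtain ⟨l, hl, hM⟩ := E7R.sq_of (T := T) h (Or.inl hn)
  obtain ⟨μ, hμ, hs⟩ := T.sim h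
  have hn1 : n ≠ 1 := by
    rintro rfl
    obtain ⟨k, hk⟩ := hk
    apply T.z_ne
    rw [mul_one, mul_inv_cancel, one_mul] at hk
    exact hk.symm
  have h1 := N.two n hn hn1
  have h3 := N.f1 h hn hk
  have h4 : finrank F (adS (1 : Matrix (Fin 2) (Fin 2) F)) = 0 := by
    have := finrank_adS_scalar T.two (one_ne_zero (α := F))
    rwa [one_smul] at this
  rw [h4, zero_add] at h3
  refine t1_of T.two T.dim T.symm T.nd hl hM hs ?_
  -- the possible values
  rcases sa_or_sk hl hM hs T.nd with h5 | h5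
  · by_cases hq : IsSquare l
    · obtain ⟨ν, rfl⟩ := hq
      have hν : ν ≠ 0 := fun h0 => hl (by rw [h0, mul_zero])
      rw [show ν * ν = ν ^ 2 from (pow_two ν).symm] at hM
      have h6 := finrank_adB_sq T.two T.symm T.nd hν hM h5
      rw [T.dim] at h6
      have h7 : finrank F (LinearMap.ker (M + ν • 1)) ≤ 12 := T.dim ▸ Submodule.finrank_le _
      generalize finrank F (LinearMap.ker (M + ν • (1 : Module.End F V))) = k at h6 h7
      generalize finrank F (adB B M) = d at h3 h6 ⊢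
      interval_cases k <;> (clear * - h1 h3 h6; omega)
    · have h6 := finrank_adB_nonsq T.two T.symm T.nd hq hM h5
      rw [T.dim] at h6
      omega
  · have h6 := finrank_adB_skew T.two T.symm T.nd hl hM h5
    rw [T.dim] at h6
    omega

omit [FiniteDimensional F V] in
theorem adS_jj (h2 : (2 : F) ≠ 0) : finrank F (adS ((jj : Matrix.SpecialLinearGroup (Fin 2) F) :
    Matrix (Fin 2) (Fin 2) F)) = 2 := by
  refine finrank_adS h2 (c := -1) ?_ (neg_ne_zero.2 one_ne_zero) ?_
  · rintro ⟨c, hc⟩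
    have h := congrFun (congrFun hc 0) 1
    change (1 : F) = (c • (1 : Matrix (Fin 2) (Fin 2) F)) 0 1 at h
    rw [Matrix.smul_apply, Matrix.one_apply_ne (by decide), smul_zero] at h
    exact one_ne_zero h
  · rw [← Matrix.SpecialLinearGroup.coe_mul, jj_sq, Matrix.SpecialLinearGroup.coe_neg,
      Matrix.SpecialLinearGroup.coe_one, neg_smul, one_smul]

/-- **the field `t2`** -/
theorem t2 [Finite F] (T : E7R z B R ι) (N : Num7 z B R m) {n : G} {M : Module.End F V} {ν : F} (h : R n 1 M)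
    (hn : n * n = z) (hM : M * M = ν ^ 2 • 1) (hs : _root_.Cfsg.Agent.H627.Co3.Sym B M) :
    finrank F (LinearMap.ker (M + ν • 1)) ≠ 4 ∧ finrank F (LinearMap.ker (M + ν • 1)) ≠ 8 := by
  have hν : ν ≠ 0 := by
    rintro rfl
    obtain ⟨l, hl, hl'⟩ := E7R.sq_of (T := T) h (Or.inr hn)
    apply T.ne_zero (T.mul h h)
    rw [hM, zero_pow two_ne_zero, zero_smul]
  have hj : n * ι jj = ι jj * n := T.comm_ι h jj (by
    show (-1 : F) ≠ 0
    exact neg_ne_zero.2 one_ne_zero)
  have hjz : ι (jj : Matrix.SpecialLinearGroup (Fin 2) F) * ι jj = z := by rw [← map_mul, jj_sq, T.ι_neg]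
  have h1 : (n * ι jj) * (n * ι jj) = 1 := by
    calc (n * ι jj) * (n * ι jj) = n * (ι jj * n) * ι jj := by group
      _ = n * (n * ι jj) * ι jj := by rw [hj]
      _ = (n * n) * (ι jj * ι jj) := by group
      _ = 1 := by rw [hn, hjz, T.zz]
  have hR := T.mul h (T.Rι jj)
  rw [one_mul, mul_one] at hR
  have h3 : n * ι jj ≠ 1 := by
    intro h0
    rw [h0] at hR
    obtain ⟨⟨c, hc⟩, -⟩ := T.uniq T.one hR
    have h := congrFun (congrFun hc 0) 1
    change (1 : F) = (c • (1 : Matrix (Fin 2) (Fin 2) F)) 0 1 at h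
    rw [Matrix.smul_apply, Matrix.one_apply_ne (by decide), smul_zero] at h
    exact one_ne_zero h
  obtain ⟨a, b, hab, hb⟩ := exists_ab F
  have hk : n * ι (kk a b hab) = ι (kk a b hab) * n := T.comm_ι h _ hb
  have h4 : ι (kk a b hab) * (n * ι jj) * (ι (kk a b hab))⁻¹ = n * ι jj * z := by
    have e1 : ι (kk a b hab) * ι jj = z * (ι jj * ι (kk a b hab)) := by
      rw [← map_mul, kk_jj, map_mul, map_mul, ← T.ι_neg]
    have e2 : n * z = z * n := T.cz h
    have e3 : ι jj * z = z * ι jj := T.cz (T.Rι jj)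
    calc ι (kk a b hab) * (n * ι jj) * (ι (kk a b hab))⁻¹ = (ι (kk a b hab) * n) * ι jj * (ι (kk a b hab))⁻¹ := by group
      _ = n * (ι (kk a b hab) * ι jj) * (ι (kk a b hab))⁻¹ := by rw [← hk]; group
      _ = n * z * ι jj := by rw [e1]; group
      _ = n * ι jj * z := by rw [mul_assoc, ← e3, mul_assoc]
  have h5 := N.f1 hR h1 ⟨_, h4⟩
  rw [adS_jj T.two] at h5
  have h6 := N.two _ h1 h3
  refine t2_of T.two T.dim T.symm T.nd hν hM hs ?_
  omega

/-- **the field `t3`** -/
theorem t3 (T : E7R z B R ι) (N : Num7 z B R m) {n : G} {a : Matrix (Fin 2) (Fin 2) F} {M : Module.End F V} {l : F}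
    (h : R n a M) (hn : n * n = z) (ha : ¬ ∃ c : F, a = c • 1) (hM : M * M = l • 1) (hs : _root_.Cfsg.Agent.H627.Co3.Sym B M) : IsSquare l := by
  refine t3_of T.two T.dim T.symm T.nd hM hs ?_
  intro h36
  have h1 := N.f2 h hn
  have h3 := T.mul h h
  rw [hn] at h3
  obtain ⟨⟨c, hc⟩, -⟩ := T.uniq T.Rz h3
  have hc0 : c ≠ 0 := by
    rintro rfl
    rw [zero_smul] at hc
    exact T.ne_zero' h3 hc
  have h4 := finrank_adS T.two ha (c := -c) (neg_ne_zero.2 hc0) (by rw [hc, smul_neg, neg_smul])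
  rw [h4, h36] at h1
  exact N.four n hn h1

end Cfsg.Agent.H921.Co3.Glue7
end

-- part: H921/Co3/Glue7E
section
/-!
# S1920, `E₇(q)`, GLUE7: the numbers `Num7` from the 133-dimensional module (helper921)

* `half` : `N² = 1`, `N` conjugate to `N Z`: `ker (N + 1)` meets `ker (Z + 1)` in half of it;
* `num7_of` : `Num7` for `m g = dim ker (ρ g + 1)` from the dimension of `ker (ρ g + 1) ⊓ ker (ρ z - 1)`;
* `num7_E7` : the case of `chevE7.group F`.
-/

set_option autoImplicit false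

namespace Cfsg.Agent.H921.Co3.Glue7

open Module
open Cfsg.Agent.H921.Co3.Sim
open Cfsg.Agent.H127.Co3 (mem_kp mem_km split fr_eq ker_four)

section Lin

variable {F L : Type*} [Field F] [AddCommGroup L] [Module F L] [FiniteDimensional F L]

/-- the (-1)-eigenspace of `N`, split by `Z` -/
theorem split_Z (h2 : (2 : F) ≠ 0) {N Z : Module.End F L} (hZ : Z * Z = 1) (hNZ : N * Z = Z * N) :
    finrank F ↥(LinearMap.ker (N + 1)) = finrank F ↥(LinearMap.ker (N + 1) ⊓ LinearMap.ker (Z - 1)) +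
      finrank F ↥(LinearMap.ker (N + 1) ⊓ LinearMap.ker (Z + 1)) := by
  have hZ' : ∀ v, Z (Z v) = v := fun v => by rw [← Module.End.mul_apply, hZ, Module.End.one_apply]
  have hNZ' : ∀ v, N (Z v) = Z (N v) := fun v => by rw [← Module.End.mul_apply, hNZ, Module.End.mul_apply]
  refine split h2 Z hZ' ?_ ?_ ?_
  · intro v hv
    rw [mem_kp] at hv ⊢
    rw [hNZ', hv, map_neg]
  · intro v
    rw [Submodule.mem_inf, mem_km]
  · intro v
    rw [Submodule.mem_inf, mem_kp (N := Z)]

/-- **the half** -/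
theorem half (h2 : (2 : F) ≠ 0) {N Z K K' : Module.End F L} (hN : N * N = 1) (hZ : Z * Z = 1) (hNZ : N * Z = Z * N)
    (hK : K' * K = 1) (hK' : K * K' = 1) (hc : K * N = N * Z * K) :
    2 * finrank F ↥(LinearMap.ker (N + 1)) =
      2 * finrank F ↥(LinearMap.ker (N + 1) ⊓ LinearMap.ker (Z - 1)) + finrank F ↥(LinearMap.ker (Z + 1)) := by
  have hN' : ∀ v, N (N v) = v := fun v => by rw [← Module.End.mul_apply, hN, Module.End.one_apply]
  have hNZ' : ∀ v, N (Z v) = Z (N v) := fun v => by rw [← Module.End.mul_apply, hNZ, Module.End.mul_apply]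
  have e1 := split_Z h2 hZ hNZ
  have e2 := split_Z h2 (N := N * Z) hZ (by rw [mul_assoc, hZ, mul_one, hNZ, ← mul_assoc, hZ, one_mul])
  have e3 : finrank F ↥(LinearMap.ker (Z + 1)) = finrank F ↥(LinearMap.ker (N - 1) ⊓ LinearMap.ker (Z + 1)) +
      finrank F ↥(LinearMap.ker (N + 1) ⊓ LinearMap.ker (Z + 1)) := by
    refine split h2 N hN' ?_ ?_ ?_
    · intro v hv
      rw [mem_kp] at hv ⊢
      rw [← hNZ', hv, map_neg]
    · intro v
      rw [Submodule.mem_inf, mem_km, and_comm]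
    · intro v
      rw [Submodule.mem_inf, mem_kp (N := N), and_comm]
  have e4 : finrank F ↥(LinearMap.ker (N * Z + 1)) = finrank F ↥(LinearMap.ker (N + 1)) := by
    refine le_antisymm ?_ ?_
    · refine LinearMap.finrank_le_finrank_of_injective (f := K'.restrict fun v hv => ?_) ?_
      · rw [mem_kp] at hv ⊢
        have h3 : N * K' = K' * (N * Z) := by
          calc N * K' = K' * K * N * K' := by rw [hK, one_mul]
            _ = K' * (K * N) * K' := by rw [mul_assoc K' K N]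
            _ = K' * (N * Z * K) * K' := by rw [hc]
            _ = K' * (N * Z) * (K * K') := by simp only [mul_assoc]
            _ = K' * (N * Z) := by rw [hK', mul_one]
        have h4 : N (K' v) = K' ((N * Z) v) := by rw [← Module.End.mul_apply, h3, Module.End.mul_apply]
        rw [h4, hv, map_neg]
      · intro v w h
        have h1 := congrArg (fun x : ↥(LinearMap.ker (N + 1)) => K (x : L)) h
        change K (K' (v : L)) = K (K' (w : L)) at h1
        rw [← Module.End.mul_apply, ← Module.End.mul_apply, hK', Module.End.one_apply, Module.End.one_apply] at h1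
        exact Subtype.ext h1
    · refine LinearMap.finrank_le_finrank_of_injective (f := K.restrict fun v hv => ?_) ?_
      · rw [mem_kp] at hv ⊢
        have h4 : (N * Z) (K v) = K (N v) := by rw [← Module.End.mul_apply, ← hc, Module.End.mul_apply]
        rw [h4, hv, map_neg]
      · intro v w h
        have h1 := congrArg (fun x : ↥(LinearMap.ker (N * Z + 1)) => K' (x : L)) h
        change K' (K (v : L)) = K' (K (w : L)) at h1
        rw [← Module.End.mul_apply, ← Module.End.mul_apply, hK, Module.End.one_apply, Module.End.one_apply] at h1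
        exact Subtype.ext h1
  have e5 : LinearMap.ker (N * Z + 1) ⊓ LinearMap.ker (Z - 1) = LinearMap.ker (N + 1) ⊓ LinearMap.ker (Z - 1) := by
    ext v
    rw [Submodule.mem_inf, Submodule.mem_inf, mem_kp, mem_kp, mem_km]
    constructor
    · rintro ⟨h3, h4⟩
      rw [Module.End.mul_apply, h4] at h3
      exact ⟨h3, h4⟩
    · rintro ⟨h3, h4⟩
      rw [Module.End.mul_apply, h4]
      exact ⟨h3, rfl⟩
  have e6 : LinearMap.ker (N * Z + 1) ⊓ LinearMap.ker (Z + 1) = LinearMap.ker (N - 1) ⊓ LinearMap.ker (Z + 1) := by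
    ext v
    rw [Submodule.mem_inf, Submodule.mem_inf, mem_kp, mem_km, mem_kp]
    constructor
    · rintro ⟨h3, h4⟩
      rw [Module.End.mul_apply, h4, map_neg, neg_inj] at h3
      exact ⟨h3, h4⟩
    · rintro ⟨h3, h4⟩
      rw [Module.End.mul_apply, h4, map_neg, h3]
      exact ⟨rfl, rfl⟩
  rw [e4, e5, e6] at e2
  omega

end Lin

variable {G F V L : Type*} [Group G] [Field F] [AddCommGroup V] [Module F V] [AddCommGroup L] [Module F L]
  [FiniteDimensional F L] {z : G} {B : LinearMap.BilinForm F V}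
  {R : G → Matrix (Fin 2) (Fin 2) F → Module.End F V → Prop}

/-- **the numbers** -/
theorem num7_of (ρ : G →* Module.End F L) (h2 : (2 : F) ≠ 0) (hzz : z * z = 1)
    (hz : finrank F ↥(LinearMap.ker (ρ z + 1)) = 64)
    (hm2 : ∀ g, g * g = 1 → g ≠ 1 → finrank F ↥(LinearMap.ker (ρ g + 1)) = 54 ∨
      finrank F ↥(LinearMap.ker (ρ g + 1)) = 64 ∨ finrank F ↥(LinearMap.ker (ρ g + 1)) = 70)
    (hm4 : ∀ g, g * g = z → finrank F ↥(LinearMap.ker (ρ g + 1)) ≠ 38)
    (hcz : ∀ {g a M}, R g a M → g * z = z * g)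
    (hR : ∀ {g a M}, R g a M → (g * g = 1 ∨ g * g = z) →
      finrank F ↥(LinearMap.ker (ρ g + 1) ⊓ LinearMap.ker (ρ z - 1)) = finrank F (adS a) + finrank F (adB B M)) :
    Num7 z B R (fun g => finrank F ↥(LinearMap.ker (ρ g + 1))) := by
  refine ⟨hm2, hm4, ?_, ?_⟩
  · rintro g a M h hg ⟨k, hk⟩
    have h1 := half h2 (N := ρ g) (Z := ρ z) (K := ρ k) (K' := ρ k⁻¹) (by rw [← map_mul, hg, map_one])
      (by rw [← map_mul, hzz, map_one]) (by rw [← map_mul, hcz h, map_mul])
      (by rw [← map_mul, inv_mul_cancel, map_one]) (by rw [← map_mul, mul_inv_cancel, map_one])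
      (by rw [← map_mul, ← map_mul, ← map_mul, ← hk, inv_mul_cancel_right])
    rw [hz, hR h (Or.inl hg)] at h1
    show finrank F ↥(LinearMap.ker (ρ g + 1)) = _
    omega
  · intro g a M h hg
    have h1 := ker_four (N := ρ g) (Z := ρ z) (by rw [← map_mul, hg])
    show finrank F ↥(LinearMap.ker (ρ g + 1)) = _
    rw [← h1]
    exact hR h (Or.inr hg)

open Cfsg.Lie in
/-- **GLUE7 for `E₇(q)`** -/
theorem num7_E7 {F : Type} [Field F] [Fintype F] {V : Type*} [AddCommGroup V] [Module F V]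
    (ho : Odd (Fintype.card F)) {B : LinearMap.BilinForm F V} {z : ↥(chevE7.group F)}
    {R : ↥(chevE7.group F) → Matrix (Fin 2) (Fin 2) F → Module.End F V → Prop} (hzz : z * z = 1)
    (hz : finrank F ↥(LinearMap.ker (H392.KKL.rho chevE7 F z + 1)) = 64)
    (hcz : ∀ {g a M}, R g a M → g * z = z * g)
    (hR : ∀ {g a M}, R g a M → (g * g = 1 ∨ g * g = z) →
      finrank F ↥(LinearMap.ker (H392.KKL.rho chevE7 F g + 1) ⊓ LinearMap.ker (H392.KKL.rho chevE7 F z - 1)) =
        finrank F (adS a) + finrank F (adB B M)) :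
    Num7 z B R (fun g => finrank F ↥(LinearMap.ker (H392.KKL.rho chevE7 F g + 1))) := by
  refine num7_of (H392.KKL.rho chevE7 F) (H167.Co3.two_ne ho) hzz hz ?_ ?_ hcz hR
  · intro g hg hg1
    exact H167.Co3.inv_dim ho hg hg1
  · intro g hg h38
    have h1 := H167.Co3.four_dim ho hg hzz hz
    have h3 : H167.Co3.mL chevE7 g = 38 := h38
    rw [h3] at h1
    revert h1
    decide

end Cfsg.Agent.H921.Co3.Glue7
end

-- part: H167/Co3/HR7
section
/-!
# S1920, `E₇(q)`: the number `hR` of GLUE7 (helper167)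

* `surj7` : every pair (trace zero, skew) is the value `(th2 v, th6 v)` of a `v ∈ LP F` (dimensions `69 = 3 + 66`);
* `hR7` : `Rl7 z g a M` implies `dim (ker (ρ g + 1) ⊓ ker (ρ z - 1)) = dim (adS a) + dim (adB B M)`;
* `num7` : the numbers `Num7` for `RE (Rl7 z)`; `e7r` : `E7R`; `tt1`, `tt2`, `tt3` : the last fields of `E7I`.
-/

set_option autoImplicit false
set_option maxRecDepth 100000

namespace Cfsg.Agent.H167.Co3

open Cfsg.Lie Cfsg.Agent.ChevalleyStructure.XColumns Matrix Module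
open Cfsg.Agent.H736.Co3 Cfsg.Agent.H249.Co3 Cfsg.Agent.H921.Co3.Sim
open Cfsg.Agent.LieClassical.OrthCore Cfsg.Agent.LieClassical.OrthForms

/-! ### dimensions -/

section Dim

/-- the independent entries of the skew matrices -/
abbrev PP6 : Type := {p : (Fin 6 ⊕ Fin 6) × (Fin 6 ⊕ Fin 6) //
  12 * nx 6 p.1 + nx 6 p.2 < 12 * nx 6 p.2.swap + nx 6 p.1.swap}

theorem card_PP6 : Fintype.card PP6 = 66 := by decide +kernel

/-- the indices of the Lie algebra of `A₁D₆` -/
def gdI : chevE7.Idx → Bool := Sum.elim (fun _ => true) fun s => T6.In s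

abbrev I69 : Type := {j : chevE7.Idx // gdI j = true}

theorem card_I69 : Fintype.card I69 = 69 := by decide +kernel

theorem trc_1 : ((List.range 7).all fun k => decide (ent (T2.H k) 0 0 + ent (T2.H k) 1 1 = 0)) = true := by decide +kernel

theorem trc_2 : ((List.range 126).all fun s => decide (ent (T2.E s) 0 0 = 0) && decide (ent (T2.E s) 1 1 = 0)) = true := by
  decide +kernel

variable {F : Type} [Field F]

/-- the trace of `th2` -/
theorem trace2 (v : chevE7.Idx → F) : (th2 F v).trace = 0 := by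
  have h1 : (th2 F v).trace = (Th T2 chevE7 F v : Matrix (Fin 1 ⊕ Fin 1) (Fin 1 ⊕ Fin 1) F) (ix 1 0) (ix 1 0) +
      (Th T2 chevE7 F v : Matrix (Fin 1 ⊕ Fin 1) (Fin 1 ⊕ Fin 1) F) (ix 1 1) (ix 1 1) := by
    rw [Matrix.trace_fin_two]; rfl
  have e1 := Th_ent T2_ok (F := F) (v := v) (i := 0) (j := 0) (by show 0 < 1 + 1; omega) (by show 0 < 1 + 1; omega)
  have e2 := Th_ent T2_ok (F := F) (v := v) (i := 1) (j := 1) (by show 1 < 1 + 1; omega) (by show 1 < 1 + 1; omega)
  have e3 : ∑ s : Fin chevE7.nroots, v (Sum.inr s) * (2 * (ent (T2.E s) 0 0 : F)) = 0 :=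
    Finset.sum_eq_zero fun s _ => by
      have h3 := List.all_eq_true.1 trc_2 s (List.mem_range.2 s.2)
      rw [Bool.and_eq_true, decide_eq_true_eq, decide_eq_true_eq] at h3
      rw [h3.1, Int.cast_zero, mul_zero, mul_zero]
  have e4 : ∑ s : Fin chevE7.nroots, v (Sum.inr s) * (2 * (ent (T2.E s) 1 1 : F)) = 0 :=
    Finset.sum_eq_zero fun s _ => by
      have h3 := List.all_eq_true.1 trc_2 s (List.mem_range.2 s.2)
      rw [Bool.and_eq_true, decide_eq_true_eq, decide_eq_true_eq] at h3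
      rw [h3.2, Int.cast_zero, mul_zero, mul_zero]
  rw [e3, add_zero] at e1
  rw [e4, add_zero] at e2
  rw [h1]
  have e5 : (Th T2 chevE7 F v : Matrix (Fin 1 ⊕ Fin 1) (Fin 1 ⊕ Fin 1) F) (ix 1 0) (ix 1 0) =
    ∑ k : Fin chevE7.rank, v (Sum.inl k) * (ent (T2.H k) 0 0 : F) := e1
  have e6 : (Th T2 chevE7 F v : Matrix (Fin 1 ⊕ Fin 1) (Fin 1 ⊕ Fin 1) F) (ix 1 1) (ix 1 1) =
    ∑ k : Fin chevE7.rank, v (Sum.inl k) * (ent (T2.H k) 1 1 : F) := e2
  rw [e5, e6, ← Finset.sum_add_distrib]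
  refine Finset.sum_eq_zero fun k _ => ?_
  have h3 := of_decide_eq_true (List.all_eq_true.1 trc_1 k (List.mem_range.2 k.2))
  rw [← mul_add, ← Int.cast_add, h3, Int.cast_zero, mul_zero]

/-- `th6` is skew -/
theorem skew6 {v : chevE7.Idx → F} (hv : v ∈ LP F) : st (th6 F v) = - th6 F v := T6_ok2.stTh T6_ok hv

/-- trace zero and skew -/
def WW (F : Type) [Field F] : Submodule F (Matrix (Fin 2) (Fin 2) F × M12 F) where
  carrier := {p | p.1.trace = 0 ∧ st p.2 = - p.2}
  add_mem' := by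
    rintro ⟨a, A⟩ ⟨b, B⟩ ⟨h1, h2⟩ ⟨h3, h4⟩
    refine ⟨by show (a + b).trace = 0; rw [Matrix.trace_add, h1, h3, add_zero], ?_⟩
    show st (A + B) = - (A + B)
    rw [st_add, h2, h4, neg_add]
  zero_mem' := ⟨Matrix.trace_zero _ _, by show st (0 : M12 F) = - 0; rw [neg_zero]; rfl⟩
  smul_mem' := by
    rintro c ⟨a, A⟩ ⟨h1, h2⟩
    refine ⟨by show (c • a).trace = 0; rw [Matrix.trace_smul, h1, smul_zero], ?_⟩
    show st (c • A) = - (c • A)
    rw [st_smul, h2, smul_neg]

theorem finrank_WW (h2 : (2 : F) ≠ 0) : finrank F (WW F) ≤ 69 := by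
  let κ : WW F →ₗ[F] (Fin 3 → F) × (PP6 → F) :=
    { toFun := fun p => (![p.1.1 0 0, p.1.1 0 1, p.1.1 1 0], fun q => p.1.2 q.1.1 q.1.2)
      map_add' := fun p q => by
        refine Prod.ext ?_ rfl
        funext i; fin_cases i <;> rfl
      map_smul' := fun c p => by
        refine Prod.ext ?_ rfl
        funext i; fin_cases i <;> rfl }
  have hinj : Function.Injective κ := by
    rw [← LinearMap.ker_eq_bot, LinearMap.ker_eq_bot']
    rintro ⟨⟨a, A⟩, h1, h3⟩ h
    have h4 : ![a 0 0, a 0 1, a 1 0] = (0 : Fin 3 → F) := congrArg Prod.fst h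
    have h5 : (fun q : PP6 => A q.1.1 q.1.2) = 0 := congrArg Prod.snd h
    have ha : a = 0 := by
      have e0 : a 0 0 = 0 := congrFun h4 0
      have e1 : a 0 1 = 0 := congrFun h4 1
      have e2 : a 1 0 = 0 := congrFun h4 2
      have e3 : a 1 1 = 0 := by
        have h6 : a.trace = 0 := h1
        rw [Matrix.trace_fin_two, e0, zero_add] at h6
        exact h6
      ext i j
      fin_cases i <;> fin_cases j
      · exact e0
      · exact e1
      · exact e2
      · exact e3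
    have hA : A = 0 := by
      have hsk : ∀ i j, A j.swap i.swap = - A i j := fun i j => congrFun (congrFun h3 i) j
      have hlt : ∀ i j : Fin 6 ⊕ Fin 6, 12 * nx 6 i + nx 6 j < 12 * nx 6 j.swap + nx 6 i.swap → A i j = 0 :=
        fun i j h => congrFun h5 ⟨(i, j), h⟩
      ext i j
      rw [Matrix.zero_apply]
      rcases lt_trichotomy (12 * nx 6 i + nx 6 j) (12 * nx 6 j.swap + nx 6 i.swap) with h6 | h6 | h6
      · exact hlt i j h6
      · have l1 := nx_lt (m := 6) i
        have l2 := nx_lt (m := 6) j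
        have l3 := nx_lt (m := 6) i.swap
        have l4 := nx_lt (m := 6) j.swap
        have h7 : nx 6 i = nx 6 j.swap := by omega
        have h8 : i = j.swap := by rw [← ix_nx i, h7, ix_nx]
        have h9 := hsk i j
        rw [h8, Sum.swap_swap] at h9
        rw [h8]
        have h10 : (2 : F) * A j.swap j = 0 := by linear_combination h9
        exact (mul_eq_zero.1 h10).resolve_left h2
      · have h7 := hlt j.swap i.swap (by rw [Sum.swap_swap, Sum.swap_swap]; exact h6)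
        rw [hsk, neg_eq_zero] at h7
        exact h7
    exact Subtype.ext (Prod.ext ha hA)
  have h1 := LinearMap.finrank_le_finrank_of_injective hinj
  rw [Module.finrank_prod, Module.finrank_fintype_fun_eq_card, Module.finrank_fintype_fun_eq_card, card_PP6,
    Fintype.card_fin] at h1
  exact h1

theorem le_finrank_LP : 69 ≤ finrank F (LP F) := by
  let κ : (I69 → F) →ₗ[F] LP F :=
    { toFun := fun f => ⟨fun j => if h : gdI j = true then f ⟨j, h⟩ else 0, fun s hs => by
        have h1 : ¬ gdI (Sum.inr s) = true := by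
          show ¬ T6.In s = true
          rw [hs]; exact Bool.false_ne_true
        exact dif_neg h1⟩
      map_add' := fun f g => by
        apply Subtype.ext
        funext j
        show (if h : gdI j = true then (f + g) ⟨j, h⟩ else 0) = (if h : gdI j = true then f ⟨j, h⟩ else 0) +
          (if h : gdI j = true then g ⟨j, h⟩ else 0)
        split_ifs
        · rfl
        · rw [add_zero]
      map_smul' := fun c f => by
        apply Subtype.ext
        funext j
        show (if h : gdI j = true then (c • f) ⟨j, h⟩ else 0) = c • (if h : gdI j = true then f ⟨j, h⟩ else 0)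
        split_ifs
        · rfl
        · rw [smul_zero] }
  have hinj : Function.Injective κ := by
    intro f g h
    funext j
    have h1 := congrFun (congrArg Subtype.val h) j.1
    change (if h : gdI j.1 = true then f ⟨j.1, h⟩ else 0) = (if h : gdI j.1 = true then g ⟨j.1, h⟩ else 0) at h1
    rw [dif_pos j.2, dif_pos j.2] at h1
    exact h1
  have h1 := LinearMap.finrank_le_finrank_of_injective hinj
  rwa [Module.finrank_fintype_fun_eq_card, card_I69] at h1

/-- **joint surjectivity** -/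
theorem surj7 (h2 : (2 : F) ≠ 0) {a : Matrix (Fin 2) (Fin 2) F} {A : M12 F} (ha : a.trace = 0) (hA : st A = - A) :
    ∃ v ∈ LP F, th2 F v = a ∧ th6 F v = A := by
  let φ : LP F →ₗ[F] WW F := LinearMap.codRestrict (WW F) ((((th2 F).prod (th6 F)) : (chevE7.Idx → F) →ₗ[F] _) ∘ₗ (LP F).subtype)
    fun v => ⟨trace2 _, skew6 v.2⟩
  have hinj : Function.Injective φ := by
    rw [← LinearMap.ker_eq_bot, LinearMap.ker_eq_bot']
    intro v hv
    have h1 : (th2 F (v : chevE7.Idx → F), th6 F (v : chevE7.Idx → F)) = (0 : Matrix (Fin 2) (Fin 2) F × M12 F) :=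
      congrArg Subtype.val hv
    exact Subtype.ext (Cfsg.Agent.H249.Co3.inj7 h2 v.2 (congrArg Prod.fst h1) (congrArg Prod.snd h1))
  have h1 := LinearMap.finrank_le_finrank_of_injective hinj
  have h3 := finrank_WW (F := F) h2
  have h4 := le_finrank_LP (F := F)
  have h5 : finrank F (LP F) = finrank F (WW F) := by omega
  obtain ⟨v, hv⟩ := (LinearMap.injective_iff_surjective_of_finrank_eq_finrank h5).1 hinj ⟨(a, A), ha, hA⟩
  have h6 : (th2 F (v : chevE7.Idx → F), th6 F (v : chevE7.Idx → F)) = (a, A) := congrArg Subtype.val hv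
  exact ⟨v, v.2, congrArg Prod.fst h6, congrArg Prod.snd h6⟩

end Dim

/-! ### the number -/

variable {F : Type} [Field F]

/-- the adjoint and the polar form -/
theorem skew_iff (A : M12 F) : st A = - A ↔ ∀ u v, _root_.Cfsg.Agent.H249.Co3.BB F (Matrix.toLin' A u) v = - _root_.Cfsg.Agent.H249.Co3.BB F u (Matrix.toLin' A v) := by
  rw [st_eq_neg_iff]
  refine forall_congr' fun u => forall_congr' fun v => ?_
  rw [BB_apply, BB_apply, Matrix.toLin'_apply, Matrix.toLin'_apply]

/-- **hR** -/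
theorem hR7 (h2 : (2 : F) ≠ 0) {z g : ↥(chevE7.group F)}
    (hz : ∀ v, ((z : GL chevE7.Idx F) : Matrix chevE7.Idx chevE7.Idx F) *ᵥ v = v ↔ v ∈ LP F)
    {a : Matrix (Fin 2) (Fin 2) F} {M : Module.End F (VV F)} (h : Rl7 z g a (LinearMap.toMatrix' M)) :
    finrank F ↥(LinearMap.ker (H392.KKL.rho chevE7 F g + 1) ⊓ LinearMap.ker (H392.KKL.rho chevE7 F z - 1)) =
      finrank F (adS a) + finrank F (adB (_root_.Cfsg.Agent.H249.Co3.BB F) M) := by
  set M' := LinearMap.toMatrix' M with hM'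
  have hMM : Matrix.toLin' M' = M := Matrix.toLin'_toMatrix' M
  set gm := ((g : GL chevE7.Idx F) : Matrix chevE7.Idx chevE7.Idx F) with hgm
  have hgv : ∀ v, H392.KKL.rho chevE7 F g v = gm *ᵥ v := fun v => Matrix.toLin'_apply _ _
  have hzv : ∀ v, H392.KKL.rho chevE7 F z v = ((z : GL chevE7.Idx F) : Matrix chevE7.Idx chevE7.Idx F) *ᵥ v := fun v =>
    Matrix.toLin'_apply _ _
  have hmem : ∀ v, v ∈ LinearMap.ker (H392.KKL.rho chevE7 F g + 1) ⊓ LinearMap.ker (H392.KKL.rho chevE7 F z - 1) ↔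
      gm *ᵥ v = - v ∧ v ∈ LP F := by
    intro v
    rw [Submodule.mem_inf, LinearMap.mem_ker, LinearMap.mem_ker, LinearMap.add_apply, LinearMap.sub_apply, hgv, hzv,
      Module.End.one_apply, sub_eq_zero, hz, add_eq_zero_iff_eq_neg]
  -- `g` stabilises `LP`
  have hgL : ∀ v ∈ LP F, gm *ᵥ v ∈ LP F := by
    intro v hv
    rw [← hz, Matrix.mulVec_mulVec, hgm, ← Units.val_mul]
    have h3 : (z : GL chevE7.Idx F) * (g : GL chevE7.Idx F) = (g : GL chevE7.Idx F) * (z : GL chevE7.Idx F) :=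
      (congrArg Subtype.val h.cz).symm
    rw [h3, Units.val_mul, ← Matrix.mulVec_mulVec, (hz v).2 hv]
  -- invertibility
  have hau : IsUnit a := (Matrix.isUnit_iff_isUnit_det _).2 (isUnit_iff_ne_zero.2 h.det)
  obtain ⟨μ, hμ, hsim, -⟩ := h.sim
  have hMinj : Function.Injective M := by
    rw [← LinearMap.ker_eq_bot, LinearMap.ker_eq_bot']
    intro v hv
    refine BB_nd v fun w => ?_
    have h3 : ∀ u w : VV F, _root_.Cfsg.Agent.H249.Co3.BB F (M u) (M w) = μ * _root_.Cfsg.Agent.H249.Co3.BB F u w := by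
      have h5 : ∀ v, plusForm 6 F (M v) = μ * plusForm 6 F v := fun v => by
        rw [← hsim, ← Matrix.toLin'_apply, hMM]
      intro u w
      rw [BB_apply, BB_apply]
      unfold QuadraticMap.polar
      rw [← map_add, h5, h5, h5]; ring
    have h4 := h3 v w
    rw [hv, map_zero, LinearMap.zero_apply] at h4
    exact (mul_eq_zero.1 h4.symm).resolve_left hμ
  have hMu : IsUnit M := (LinearMap.isUnit_iff_ker_eq_bot _).2 (LinearMap.ker_eq_bot.2 hMinj)
  have hMu' : IsUnit M' := by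
    obtain ⟨N, hN⟩ := hMu.exists_right_inv
    have h3 : M' * LinearMap.toMatrix' N = 1 := by
      rw [hM', ← LinearMap.toMatrix'_comp]
      have h4 : M ∘ₗ N = LinearMap.id := hN
      rw [h4, LinearMap.toMatrix'_id]
    exact ⟨⟨M', LinearMap.toMatrix' N, h3, mul_eq_one_comm.1 h3⟩, rfl⟩
  let ψ : ↥(LinearMap.ker (H392.KKL.rho chevE7 F g + 1) ⊓ LinearMap.ker (H392.KKL.rho chevE7 F z - 1)) →ₗ[F]
      ↥(adS a) × ↥(adB (_root_.Cfsg.Agent.H249.Co3.BB F) M) :=
    LinearMap.prod
      (LinearMap.codRestrict (adS a) (th2 F ∘ₗ Submodule.subtype _) fun v => by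
        obtain ⟨h3, h4⟩ := (hmem v).1 v.2
        refine ⟨trace2 _, ?_⟩
        have h5 := h.d2 v h4
        rw [← hgm, h3, map_neg, neg_mul] at h5
        exact h5.symm)
      (LinearMap.codRestrict (adB (_root_.Cfsg.Agent.H249.Co3.BB F) M) ((Matrix.toLin' : M12 F ≃ₗ[F] _).toLinearMap ∘ₗ th6 F ∘ₗ Submodule.subtype _)
        fun v => by
        obtain ⟨h3, h4⟩ := (hmem v).1 v.2
        refine ⟨(skew_iff _).1 (skew6 h4), fun x => ?_⟩
        have h5 := h.d6 v h4
        rw [← hgm, h3, map_neg, neg_mul] at h5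
        have h6 := congrArg (fun A : M12 F => A *ᵥ x) h5
        simp only [Matrix.neg_mulVec, ← Matrix.mulVec_mulVec] at h6
        have h7 : ∀ y, M y = M' *ᵥ y := fun y => by rw [← Matrix.toLin'_apply, hMM]
        show M (Matrix.toLin' (th6 F (v : chevE7.Idx → F)) x) = - Matrix.toLin' (th6 F (v : chevE7.Idx → F)) (M x)
        rw [Matrix.toLin'_apply, Matrix.toLin'_apply, h7, h7, h6])
  have hψ1 : ∀ v, ((ψ v).1 : Matrix (Fin 2) (Fin 2) F) = th2 F (v : chevE7.Idx → F) := fun _ => rfl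
  have hψ2 : ∀ v, ((ψ v).2 : Module.End F (VV F)) = Matrix.toLin' (th6 F (v : chevE7.Idx → F)) := fun _ => rfl
  have hbij : Function.Bijective ψ := by
    constructor
    · rw [injective_iff_map_eq_zero]
      intro v hv
      refine Subtype.ext (Cfsg.Agent.H249.Co3.inj7 h2 ((hmem v).1 v.2).2 ?_ ?_)
      · rw [← hψ1, hv]; rfl
      · apply (Matrix.toLin' : M12 F ≃ₗ[F] _).injective
        rw [← hψ2, hv, map_zero]; rfl
    · rintro ⟨⟨s, hs1, hs2⟩, ⟨S, hS1, hS2⟩⟩
      have hSm : Matrix.toLin' (LinearMap.toMatrix' S) = S := Matrix.toLin'_toMatrix' S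
      obtain ⟨v, hv, e1, e2⟩ := surj7 h2 (a := s) (A := LinearMap.toMatrix' S) hs1 ((skew_iff _).2 (by rw [hSm]; exact hS1))
      have hneg : gm *ᵥ v = - v := by
        rw [← add_eq_zero_iff_eq_neg]
        refine Cfsg.Agent.H249.Co3.inj7 h2 (Submodule.add_mem _ (hgL v hv) hv) ?_ ?_
        · rw [map_add, e1]
          have h5 := h.d2 v hv
          rw [← hgm, e1, hs2] at h5
          have h6 : (th2 F (gm *ᵥ v) + s) * a = 0 := by rw [add_mul, h5, neg_add_cancel]
          exact (hau.mul_left_eq_zero).1 h6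
        · rw [map_add, e2]
          have h5 := h.d6 v hv
          rw [← hgm, e2] at h5
          have h7 : M' * LinearMap.toMatrix' S = - (LinearMap.toMatrix' S * M') := by
            rw [hM', ← LinearMap.toMatrix'_comp, ← LinearMap.toMatrix'_comp, ← map_neg]
            congr 1
            exact LinearMap.ext fun x => hS2 x
          rw [h7] at h5
          have h6 : (th6 F (gm *ᵥ v) + LinearMap.toMatrix' S) * M' = 0 := by rw [add_mul, h5, neg_add_cancel]
          exact (hMu'.mul_left_eq_zero).1 h6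
      refine ⟨⟨v, (hmem v).2 ⟨hneg, hv⟩⟩, Prod.ext (Subtype.ext ?_) (Subtype.ext ?_)⟩
      · rw [hψ1]; exact e1
      · rw [hψ2]
        show Matrix.toLin' (th6 F v) = S
        rw [e2, hSm]
  have i1 : Module.Free F ↥(adS a) := Module.Free.of_divisionRing _ _
  have i2 : @Module.Free F ↥(adB (_root_.Cfsg.Agent.H249.Co3.BB F) M) _ (adB (_root_.Cfsg.Agent.H249.Co3.BB F) M).addCommGroup.toAddCommMonoid (adB (_root_.Cfsg.Agent.H249.Co3.BB F) M).module :=
    Module.Free.of_divisionRing F ↥(adB (_root_.Cfsg.Agent.H249.Co3.BB F) M)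
  have i2' : Module.Free F ↥(adB (_root_.Cfsg.Agent.H249.Co3.BB F) M) := i2
  have i3 : Module.Finite F ↥(adB (_root_.Cfsg.Agent.H249.Co3.BB F) M) := inferInstance
  rw [(LinearEquiv.ofBijective ψ hbij).finrank_eq]
  exact Module.finrank_prod (R := F) (M := ↥(adS a)) (M' := ↥(adB (_root_.Cfsg.Agent.H249.Co3.BB F) M))

/-! ### the numbers of `E₇(q)` -/

theorem mul_self_of_Z7 {z : ↥(chevE7.group F)} (hZ : Z7 z) : z * z = 1 := by
  apply Subtype.ext
  apply Units.ext
  show ((z : GL chevE7.Idx F) : Matrix chevE7.Idx chevE7.Idx F) * ((z : GL chevE7.Idx F) : Matrix chevE7.Idx chevE7.Idx F) = 1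
  rw [show ((z : GL chevE7.Idx F) : Matrix chevE7.Idx chevE7.Idx F) = _ from hZ, Matrix.diagonal_mul_diagonal,
    ← Matrix.diagonal_one]
  congr 1
  funext j
  rcases j with j | j
  · exact one_mul 1
  · show (if _ then (1 : F) else -1) * (if _ then (1 : F) else -1) = 1
    split_ifs <;> ring

theorem finrank_LP (h2 : (2 : F) ≠ 0) : finrank F (LP F) = 69 := by
  let φ : LP F →ₗ[F] WW F := LinearMap.codRestrict (WW F) ((((th2 F).prod (th6 F)) : (chevE7.Idx → F) →ₗ[F] _) ∘ₗ (LP F).subtype)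
    fun v => ⟨trace2 _, skew6 v.2⟩
  have hinj : Function.Injective φ := by
    rw [← LinearMap.ker_eq_bot, LinearMap.ker_eq_bot']
    intro v hv
    have h1 : (th2 F (v : chevE7.Idx → F), th6 F (v : chevE7.Idx → F)) = (0 : Matrix (Fin 2) (Fin 2) F × M12 F) :=
      congrArg Subtype.val hv
    exact Subtype.ext (Cfsg.Agent.H249.Co3.inj7 h2 v.2 (congrArg Prod.fst h1) (congrArg Prod.snd h1))
  have h1 := LinearMap.finrank_le_finrank_of_injective hinj
  have h3 := finrank_WW (F := F) h2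
  have h4 := le_finrank_LP (F := F)
  omega

theorem card_Idx7 : Fintype.card chevE7.Idx = 133 := by decide +kernel

theorem finrank_neg (h2 : (2 : F) ≠ 0) {z : ↥(chevE7.group F)} (hZ : Z7 z) :
    finrank F ↥(LinearMap.ker (H392.KKL.rho chevE7 F z + 1)) = 64 := by
  have hzz : ∀ v, H392.KKL.rho chevE7 F z (H392.KKL.rho chevE7 F z v) = v := fun v => by
    rw [← Module.End.mul_apply, ← map_mul, mul_self_of_Z7 hZ, map_one, Module.End.one_apply]
  have h1 := H127.Co3.split h2 (H392.KKL.rho chevE7 F z) hzz (N := ⊤) (P := LP F)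
    (R := LinearMap.ker (H392.KKL.rho chevE7 F z + 1)) (fun _ _ => Submodule.mem_top)
    (fun x => by
      rw [← z_fix h2 hZ]
      exact ⟨fun h => ⟨Submodule.mem_top, (Matrix.toLin'_apply _ _).trans h⟩,
        fun h => ((Matrix.toLin'_apply _ _).symm.trans h.2)⟩)
    (fun x => by rw [H127.Co3.mem_kp]; exact ⟨fun h => ⟨Submodule.mem_top, h⟩, fun h => h.2⟩)
  rw [finrank_top, Module.finrank_fintype_fun_eq_card, card_Idx7, finrank_LP h2] at h1
  omega

open Cfsg.Agent.H921.Co3.Glue7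

/-- **the numbers** -/
theorem num7 [Fintype F] (ho : Odd (Fintype.card F)) {z : ↥(chevE7.group F)} (hZ : Z7 z) :
    Num7 z (_root_.Cfsg.Agent.H249.Co3.BB F) (RE (Rl7 z)) (fun g => finrank F ↥(LinearMap.ker (H392.KKL.rho chevE7 F g + 1))) :=
  num7_E7 ho (mul_self_of_Z7 hZ) (finrank_neg (two_ne ho) hZ) (fun h => h.cz)
    (fun h _ => hR7 (two_ne ho) (z_fix (two_ne ho) hZ) h)

/-- the structure of GLUE7 -/
theorem e7r {z : ↥(chevE7.group F)} (R : RD z (Rl7 z)) (hex : ∀ g, g * z = z * g → ∃ a M, Rl7 z g a M)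
    (ι : Matrix.SpecialLinearGroup (Fin 2) F →* ↥(chevE7.group F)) (hι : ∀ x, Rl7 z (ι x) x 1) (hz : ι (-1) = z)
    (hz1 : z ≠ 1) : E7R z (_root_.Cfsg.Agent.H249.Co3.BB F) (RE (Rl7 z)) ι where
  two := R.two
  dim := finrank_VV
  symm := BB_symm
  nd := BB_nd
  ex g hg := by
    obtain ⟨a, M, h⟩ := hex g hg
    obtain ⟨N, rfl⟩ := exists_end M
    exact ⟨a, N, h⟩
  cz := R.cz
  det := R.det
  sim := by
    intro g a M h
    obtain ⟨μ, h1, h3, -⟩ := R.sim h
    refine ⟨μ, h1, fun u v => ?_⟩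
    have h5 : ∀ v, plusForm 6 F (M v) = μ * plusForm 6 F v := fun v => by
      rw [← h3, ← Matrix.toLin'_apply, Matrix.toLin'_toMatrix']
    rw [BB_apply, BB_apply]
    unfold QuadraticMap.polar
    rw [← map_add, h5, h5, h5]; ring
  mul := by
    intro g a M g' a' M' h h'
    have h1 := R.mul h h'
    have : LinearMap.toMatrix' (M * M') = LinearMap.toMatrix' M * LinearMap.toMatrix' M' := LinearMap.toMatrix'_comp _ _
    unfold RE
    rw [this]; exact h1
  uniq := by
    intro g a M a' M' h h'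
    obtain ⟨⟨c, -, h1⟩, d, -, h3⟩ := R.uniq h h'
    refine ⟨⟨c, h1⟩, d, ?_⟩
    apply (LinearMap.toMatrix' (R := F) (m := Fin 6 ⊕ Fin 6) (n := Fin 6 ⊕ Fin 6)).injective
    rw [map_smul]; exact h3
  scal := by
    intro g a M c d h hc hd
    unfold RE
    rw [map_smul]
    exact R.scal h hc hd
  ker := by
    intro g h
    exact R.ker (RE_one.1 h)
  Rι x := RE_one.2 (hι x)
  ι_neg := hz
  z_ne := hz1

/-- `z ≠ 1` -/
theorem ne_one_of_Z7 (h2 : (2 : F) ≠ 0) {z : ↥(chevE7.group F)} (hZ : Z7 z) : z ≠ 1 := by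
  rintro rfl
  have h := finrank_neg h2 hZ
  have h1 : H392.KKL.rho chevE7 F 1 + 1 = (2 : F) • 1 := by rw [map_one, two_smul]
  have h3 : LinearMap.ker ((2 : F) • (1 : Module.End F (chevE7.Idx → F))) = ⊥ := by
    rw [LinearMap.ker_smul _ _ h2]; exact LinearMap.ker_id
  rw [h1, h3, finrank_bot] at h
  norm_num at h

section

variable [Fintype F] (ho : Odd (Fintype.card F)) {z : ↥(chevE7.group F)} (hZ : Z7 z) (R : RD z (Rl7 z))
  (hex : ∀ g, g * z = z * g → ∃ a M, Rl7 z g a M)
  (ι : Matrix.SpecialLinearGroup (Fin 2) F →* ↥(chevE7.group F)) (hι : ∀ x, Rl7 z (ι x) x 1) (hz : ι (-1) = z)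

include ho hZ R hex ι hι hz

theorem tt1 {n : ↥(chevE7.group F)} {M : Module.End F (VV F)} (h : RE (Rl7 z) n 1 M) (hn : n * n = 1)
    (hk : ∃ k, k * n * k⁻¹ = n * z) : ∃ ν : F, ν ≠ 0 ∧ M * M = ν ^ 2 • 1 ∧
      Cfsg.Agent.H627.Co3.Sym (_root_.Cfsg.Agent.H249.Co3.BB F) M ∧
      (finrank F (LinearMap.ker (M + ν • 1)) = 4 ∨ finrank F (LinearMap.ker (M + ν • 1)) = 8) :=
  t1 (e7r R hex ι hι hz (ne_one_of_Z7 (two_ne ho) hZ)) (num7 ho hZ) h hn hk

theorem tt2 {n : ↥(chevE7.group F)} {M : Module.End F (VV F)} {ν : F} (h : RE (Rl7 z) n 1 M) (hn : n * n = z)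
    (hM : M * M = ν ^ 2 • 1) (hs : Cfsg.Agent.H627.Co3.Sym (_root_.Cfsg.Agent.H249.Co3.BB F) M) :
    finrank F (LinearMap.ker (M + ν • 1)) ≠ 4 ∧ finrank F (LinearMap.ker (M + ν • 1)) ≠ 8 :=
  t2 (e7r R hex ι hι hz (ne_one_of_Z7 (two_ne ho) hZ)) (num7 ho hZ) h hn hM hs

theorem tt3 {n : ↥(chevE7.group F)} {a : Matrix (Fin 2) (Fin 2) F} {M : Module.End F (VV F)} {l : F}
    (h : RE (Rl7 z) n a M) (hn : n * n = z) (ha : ¬ ∃ c : F, a = c • 1) (hM : M * M = l • 1)
    (hs : Cfsg.Agent.H627.Co3.Sym (_root_.Cfsg.Agent.H249.Co3.BB F) M) : IsSquare l :=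
  t3 (e7r R hex ι hι hz (ne_one_of_Z7 (two_ne ho) hZ)) (num7 ho hZ) h hn ha hM hs

end

end Cfsg.Agent.H167.Co3
end

private theorem dce_af0653efa117 : _root_.True := by
  try have : _root_.True := by simp only [_root_.Cfsg.Agent.H921.Co3.Glue7.kk.congr_simp]
  exact _root_.True.intro
end

-- part: H249/Co3/Io7
section
set_option linter.all false
open scoped Cfsg.Agent.FastGrp

/-!
# S1920, case B, `E₇(q)`, THETA12: the involution `z`, the subgroup `SL₂(q)` of the highest root (helper249)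

* `zz F` : `h_β(-1)`; `z7_mat : Z7 (zz F)`, `z7_mem`, `gen7` : generators of the centraliser;
* `io F : SL₂(F) →* E₇(F)`; `io_rel`, `io_neg`.
-/

set_option autoImplicit false
set_option linter.unusedSectionVars false
set_option maxRecDepth 100000

open QuadraticMap Module

namespace Cfsg.Agent.H249.Co3

open Cfsg Cfsg.Lie Cfsg.Lie.ChevalleyDatum CoxeterSystem
open Cfsg.Agent.ChevalleyStructure Cfsg.Agent.ChevalleyStructure.Elts Cfsg.Agent.ChevalleyStructure.XColumns
open Cfsg.Agent.ChevalleyStructure.Columns (cor)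
open Cfsg.Agent.ChevalleyStructure.CoxeterGeom Cfsg.Agent.ChevalleyStructure.CoxeterGeomTypes
open Cfsg.Agent.Tits.Roots Cfsg.Agent.Nodes Cfsg.Agent.Nodes.Reps Cfsg.Agent.Nodes.RGDChev Cfsg.Agent.Nodes.Bruhat
open Cfsg.Agent.KFacts.RgdField Cfsg.Agent.KFacts.RgdChevCoord
open Cfsg.Agent.BpExc.TorAll Cfsg.Agent.BpExc.TorCent Cfsg.Agent.BpExc.TorChev Cfsg.Agent.BpExc.Tow
  Cfsg.Agent.BpExc.TowChev Cfsg.Agent.GpExc.Field
open Cfsg.Agent.OddHalf.NI.ModelChev Cfsg.Agent.H557.SignTorus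
open Cfsg.Agent.Nodes.RGDFoldSL (psi psi_up psi_lo psi_hS hS coe_hS)
open Cfsg.Agent.ChevalleyStructure.SL2Hom (up lo mem_closure_SL2)
open Cfsg.Agent.H736.Co3
open Matrix

/-! ### the involution -/

section

variable (F : Type) [Field F]

/-- the involution `h_β(-1)` -/
noncomputable abbrev zz : ↥(chevE7.group F) := th Cfsg.Agent.Nodes.KindE.isType7 (sg F 7 84)

theorem z7_mem : zz F ∈ T7s F := Cfsg.Agent.H557.Toral.th_mem _ _

theorem even_iff : ∀ s < 126, (Even (vec chevE7 7 s 0) ↔ cor chevE7 s 0 % 2 = 0) := by decide +kernel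

variable {F}

theorem z7_mat [Finite F] (h2 : (2 : F) ≠ 0) : Z7 (zz F) := by
  obtain ⟨p, hpc⟩ := CharP.exists F
  have hpp : Fact p.Prime := ⟨(CharP.char_is_prime_or_zero F p).resolve_right (CharP.char_ne_zero_of_finite F p)⟩
  have hk := Cfsg.Agent.H167.Co3.locFin_finite F
  have ht : zz F ∈ TT chevE7 F := Cfsg.Agent.H557.Toral.th_mem _ _
  have htt : zz F * zz F = 1 := by rw [← map_mul, sg_mul_self, map_one]
  have hp := Cfsg.Agent.Nodes.KindE.isType7
  unfold Z7
  rw [Cfsg.Agent.H892.El.coe_TT hp (r := p) hk ht]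
  congr 1
  funext j
  rcases j with j | s
  · rfl
  · rw [Sum.elim_inr]
    show ch hp (vec chevE7 7 s) (zz F) = _
    have hroot : IsRoot (CoxeterMatrix.toCoxeterSystem _) hp.isCartan (vec chevE7 7 s) := isRoot_vec hp _ s.2
    have h1 := Cfsg.Agent.H167.Co3.ch_mul hp p hk ht ht hroot
    rw [htt] at h1
    have h3 := Cfsg.Agent.H167.Co3.ch_mul hp p hk (one_mem (TT chevE7 F)) (one_mem (TT chevE7 F)) hroot
    rw [mul_one] at h3
    have h0 := ((coordsL (k := F) hp (CoxeterMatrix.toCoxeterSystem _) hk p).coord _ hroot).chi_ne_zero (one_mem (TT chevE7 F))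
    have h4 : ch hp (vec chevE7 7 s) (1 : ↥(chevE7.group F)) = 1 := (mul_eq_left₀ h0).1 h3.symm
    rw [h4] at h1
    have h5 := ch_sg hp (CoxeterMatrix.toCoxeterSystem _) Cfsg.Agent.H557.Co3.CentE7.hcm7 hroot h2
      Cfsg.Agent.H557.Co3.CentE7.n0_E7
    rw [even_iff s s.2] at h5
    by_cases h6 : cor chevE7 s.val 0 % 2 = 0
    · rw [if_pos h6]
      exact h5.2 h6
    · rw [if_neg h6]
      exact (mul_self_eq_one_iff.1 h1.symm).resolve_left fun h7 => h6 (h5.1 h7)

/-- **generators of the centraliser** -/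
theorem gen7 [Finite F] (ho : Odd (Nat.card F)) (g : ↥(chevE7.group F)) (hg : g * zz F = zz F * g) :
    g ∈ Subgroup.closure (T7s F ∪ X7s F) := by
  have h := Cfsg.Agent.H557.Co3.CentE7.cent_E7 ho hg.symm
  unfold Cfsg.Agent.H557.Co3.CentE8.GC at h
  refine Subgroup.closure_mono ?_ h
  rintro g (hg | ⟨r, a, hr, he, hg⟩)
  · exact Or.inl hg
  · exact Or.inr ⟨r, a, hr, (even_iff r hr).1 he, hg⟩

end

/-! ### the subgroup `SL₂` -/

section

universe u

variable (F : Type u) [Field F]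

theorem neg125 : chevE7.neg 125 = 0 := by decide +kernel

theorem psi_mem7 (x : Matrix.SpecialLinearGroup (Fin 2) F) : psi inE7 F 125 x ∈ chevE7.group F := by
  have h : Subgroup.closure (Set.range (up (F := F)) ∪ Set.range (lo (F := F))) ≤ (chevE7.group F).comap (psi inE7 F 125) := by
    rw [Subgroup.closure_le]
    rintro _ (⟨t, rfl⟩ | ⟨t, rfl⟩)
    · show psi inE7 F 125 (up t) ∈ chevE7.group F
      rw [psi_up inE7 (show 125 < chevE7.nroots by decide)]
      exact xG_mem_group inE7 _ t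
    · show psi inE7 F 125 (lo t) ∈ chevE7.group F
      rw [psi_lo inE7 (show 125 < chevE7.nroots by decide)]
      exact xG_mem_group inE7 _ t
  exact h (mem_closure_SL2 x)

/-- the homomorphism -/
noncomputable def io : Matrix.SpecialLinearGroup (Fin 2) F →* ↥(chevE7.group F) :=
  (psi inE7 F 125).codRestrict (chevE7.group F) (psi_mem7 F)

variable {F}

theorem coe_io (x : Matrix.SpecialLinearGroup (Fin 2) F) : ((io F x : ↥(chevE7.group F)) : GL chevE7.Idx F) = psi inE7 F 125 x := rfl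

theorem up_eq (t : F) : ((up t : Matrix.SpecialLinearGroup (Fin 2) F) : Matrix (Fin 2) (Fin 2) F) = 1 + t • E2 F 125 := by
  rw [E2_125]
  show (!![1, t; 0, 1] : Matrix (Fin 2) (Fin 2) F) = _
  ext i j
  fin_cases i <;> fin_cases j <;> simp

theorem lo_eq (t : F) : ((lo t : Matrix.SpecialLinearGroup (Fin 2) F) : Matrix (Fin 2) (Fin 2) F) = 1 + t • E2 F 0 := by
  rw [E2_0]
  show (!![1, 0; t, 1] : Matrix (Fin 2) (Fin 2) F) = _
  ext i j
  fin_cases i <;> fin_cases j <;> simp

theorem E6_zero {r : ℕ} (h : r = 125 ∨ r = 0) : E6 F r = 0 := by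
  have hin : T6.In r = true := by
    rcases h with rfl | rfl
    · exact In_125
    · exact In_0
  rcases E6_cases (F := F) hin with ⟨-, h1⟩ | ⟨h1, h3, -⟩
  · exact h1
  · rcases h with h | h
    · exact absurd h h1
    · exact absurd h h3

theorem ev125 : cor chevE7 125 0 % 2 = 0 := by decide +kernel

theorem ev0 : cor chevE7 0 0 % 2 = 0 := by decide +kernel

theorem io_rel (h2 : (2 : F) ≠ 0) {z : ↥(chevE7.group F)} (hz : Z7 z) (hzT : z ∈ T7s F)
    (x : Matrix.SpecialLinearGroup (Fin 2) F) : Rl7 z (io F x) x 1 := by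
  have R := rd7 h2 hz
  have hx := mem_closure_SL2 x
  induction hx using Subgroup.closure_induction with
  | mem x hx =>
    rcases hx with ⟨t, rfl⟩ | ⟨t, rfl⟩
    · have hg : ((io F (up t) : ↥(chevE7.group F)) : GL chevE7.Idx F) = xG inE7 125 t := by
        rw [coe_io, psi_up inE7 (show 125 < chevE7.nroots by decide)]
      have h := rl_root h2 (by norm_num) ev125 hg (cz_root hz hzT (by norm_num) ev125 hg)
      rw [E6_zero (Or.inl rfl), smul_zero, add_zero, ← up_eq] at h
      exact h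
    · have hg : ((io F (lo t) : ↥(chevE7.group F)) : GL chevE7.Idx F) = xG inE7 0 t := by
        rw [coe_io, psi_lo inE7 (show 125 < chevE7.nroots by decide), neg125]
      have h := rl_root h2 (by norm_num) ev0 hg (cz_root hz hzT (by norm_num) ev0 hg)
      rw [E6_zero (Or.inr rfl), smul_zero, add_zero, ← lo_eq] at h
      exact h
  | one =>
    rw [map_one, Matrix.SpecialLinearGroup.coe_one]
    exact R.one
  | mul x y _ _ h h' =>
    have h3 := R.mul h h'
    rw [mul_one] at h3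
    rw [map_mul, Matrix.SpecialLinearGroup.coe_mul]
    exact h3
  | inv x _ h =>
    obtain ⟨a', M', h3, h4, h5⟩ := R.inv h
    have e1 : a' = ((x⁻¹ : Matrix.SpecialLinearGroup (Fin 2) F) : Matrix (Fin 2) (Fin 2) F) := by
      refine (left_inv_eq_right_inv (a := (x : Matrix (Fin 2) (Fin 2) F)) ?_ h4).symm
      rw [← Matrix.SpecialLinearGroup.coe_mul, inv_mul_cancel, Matrix.SpecialLinearGroup.coe_one]
    rw [one_mul] at h5
    rw [e1, h5] at h3
    rw [map_inv]
    exact h3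

theorem cartanR_one : Cfsg.Agent.ChevalleyStructure.Strings.cartanR chevE7 125 1 = 1 ∨
    Cfsg.Agent.ChevalleyStructure.Strings.cartanR chevE7 125 1 = -1 := by decide +kernel

theorem io_neg (h2 : (2 : F) ≠ 0) {z : ↥(chevE7.group F)} (hz : Z7 z) (hzT : z ∈ T7s F) : io F (-1) = z := by
  have R := rd7 h2 hz
  have h := R.scal (c := -1) (d := 1) (io_rel h2 hz hzT (-1)) (neg_ne_zero.2 one_ne_zero) one_ne_zero
  rw [Matrix.SpecialLinearGroup.coe_neg, Matrix.SpecialLinearGroup.coe_one, smul_neg, neg_one_smul, neg_neg, one_smul] at h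
  refine (R.ker h).resolve_left fun h1 => ?_
  have h3 : (hS (-1 : F)) = (-1 : Matrix.SpecialLinearGroup (Fin 2) F) := by
    apply Subtype.ext
    rw [coe_hS (neg_ne_zero.2 one_ne_zero)]
    ext a b
    fin_cases a <;> fin_cases b <;> simp
  have h4 := congrArg (fun g : ↥(chevE7.group F) => ((g : GL chevE7.Idx F) : Matrix chevE7.Idx chevE7.Idx F)) h1
  simp only [coe_io, Subgroup.coe_one, Units.val_one] at h4
  rw [← h3, psi_hS inE7 (show 125 < chevE7.nroots by decide), coe_hG,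
    Cfsg.Agent.ChevalleyStructure.StringMem.hMat_eq inE7 (show 125 < chevE7.nroots by decide) (neg_ne_zero.2 one_ne_zero)] at h4
  have h5 := congrFun (congrFun h4 (Sum.inr ⟨1, by decide⟩)) (Sum.inr ⟨1, by decide⟩)
  rw [Matrix.diagonal_apply_eq, Matrix.one_apply_eq, Sum.elim_inr] at h5
  have h6 : (-1 : F) = 1 := by
    rcases cartanR_one with h7 | h7
    · rw [h7, _root_.zpow_one] at h5; exact h5
    · rw [h7, _root_.zpow_neg, _root_.zpow_one, inv_neg, inv_one] at h5; exact h5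
  exact h2 (by linear_combination -h6)

end

end Cfsg.Agent.H249.Co3

private theorem dce_2c35ef54eed5 : _root_.True := by
  try have : _root_.True := by simp only [_root_.Cfsg.Agent.Nodes.RGDFoldSL.psi.congr_simp]
  exact _root_.True.intro
end

-- part: H169/Co3/RowF4
section
set_option linter.all false
open scoped Cfsg.Agent.FastGrp

/-!
# S1920, case B: the row `F₄(q)`, `q` odd (helper169)
-/

set_option autoImplicit false

universe u

namespace Cfsg.Agent.H169.Co3

open Cfsg Cfsg.Lie Cfsg.Lie.ChevalleyDatum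
open Cfsg.Agent.ChevalleyStructure Cfsg.Agent.ChevalleyStructure.CoxeterGeomTypes
open Cfsg.Agent.Nodes.RGDChev Cfsg.Agent.BpExc.TorChev Cfsg.Agent.BpExc.TorAll
open Cfsg.Agent.GpExc.Field (emb emb_injective)
open Cfsg.Agent.H13.Co3 (CB)
open Cfsg.Agent.H415.C3 (Kit exists_kit)
open Module Subgroup

theorem tabF4 : ∀ b : Fin 4 → Bool, b = (fun _ => false) ∨
    (Finset.univ.filter fun s : Fin chevF4.nroots => Odd (∑ i, if b i then vec chevF4 4 s i else 0)).card = 16 ∨
    (Finset.univ.filter fun s : Fin chevF4.nroots => Odd (∑ i, if b i then vec chevF4 4 s i else 0)).card = 28 := by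
  decide +kernel

/-- **the row `F₄(q)`, `q` odd** -/
theorem f4_odd {F : Type} [Field F] [Finite F] (h2F : (2 : F) ≠ 0) {G : Type*} [Group G] [Finite G]
    (e : G ≃* ↥(chevF4.group F)) {P N0 : Subgroup G} {z s : G} {ψ : ↥(normalizer (P : Set G)) →* Equiv.Perm (Fin 6)}
    (C : CB P N0 z s ψ) : False := by
  obtain ⟨p, hpc⟩ := CharP.exists F
  have hpp : Fact p.Prime := ⟨(CharP.char_is_prime_or_zero F p).resolve_right (CharP.char_ne_zero_of_finite F p)⟩
  have hp2 : p ≠ 2 := by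
    rintro rfl
    exact h2F (by exact_mod_cast CharP.cast_eq_zero F 2)
  set k := AlgebraicClosure F with hkdef
  have hch : CharP k p := charP_of_injective_algebraMap (algebraMap F k).injective p
  have hk : HAlg p k := Cfsg.Agent.H944.RootVals.hAlg_closure p F
  have hpT : IsType chevF4 4 CoxeterMatrix.F₄ := Cfsg.Agent.Nodes.KindF.isType
  have cne : ∀ n : ℕ, n.Prime → p ≠ n → (n : k) ≠ 0 := by
    intro n hn hpn h0
    exact hpn ((Nat.prime_dvd_prime_iff_eq Fact.out hn).1 ((CharP.cast_eq_zero_iff k p n).1 h0))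
  have h2 : (2 : k) ≠ 0 := by exact_mod_cast cne 2 Nat.prime_two hp2
  let φ : G →* ↥(chevF4.group k) := (emb hpT.inList (algebraMap F k)).comp e.toMonoidHom
  have hφ : Function.Injective φ := (emb_injective hpT.inList (algebraMap F k)).comp e.injective
  obtain ⟨A, E, x, r, ψ', K⟩ := exists_kit C
  have hz : z ∈ centralizer ({z} : Set G) := mem_centralizer_singleton_iff.2 rfl
  obtain ⟨i, hi⟩ := IsAlgClosed.exists_pow_nat_eq (-1 : k) (n := 2) (by norm_num)
  rw [pow_two] at hi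
  have h8 := dvd_eight K h2 hi (Rm φ z) hz (Rm_z φ z hz)
  have hL : Cfsg.Agent.H512.LinFour.IdealF.Lac chevF4 := Cfsg.Agent.H512.LinFour.IdealF.lac_F4
  have hV : finrank k ↥(Vm φ z) = 16 := by
    obtain ⟨b, hb, hb'⟩ := exists_neg hpT p hk hp2 (z := φ z) (by rw [← map_mul, C.z_sq, map_one])
      (fun h => C.z_ne (hφ (by rw [h, map_one])))
    have hb'' : finrank k ↥(Vm φ z) = _ := hb'
    rw [hb''] at h8 ⊢
    rcases tabF4 b with h | h | h
    · exact absurd h hb
    · exact h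
    · rw [h] at h8
      exact absurd h8 (by norm_num)
  have hE : ∀ e (he : e ∈ centralizer ({z} : Set G)), e ∈ E → Rm φ z ⟨e, he⟩ = 1 → e = 1 := by
    intro e he _ h
    exact congrArg Subtype.val (Rm_inj φ z hL h2 hφ C.z_sq C.z_ne h)
  by_cases hp3 : p = 3
  · have h5 : (5 : k) ≠ 0 := by exact_mod_cast cne 5 Nat.prime_five (by rw [hp3]; norm_num)
    exact Cfsg.Agent.H858.Co3.eig_ne5 K (Rm φ z) hV h2 h5 hz (Rm_z φ z hz) hE (-1) (by norm_num)
      (fun g hg hg' l hl => Rm_inv hpT p hk φ z h2 g hg hg' l hl)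
  · have h3 : (3 : k) ≠ 0 := by exact_mod_cast cne 3 Nat.prime_three hp3
    exact Cfsg.Agent.H858.Co3.eig_ne3 K (Rm φ z) hV h2 h3 hz (Rm_z φ z hz) hE

/-- **the row `F₄`** -/
theorem f4 : Cfsg.Agent.H527.Co3.Row.{u} @Lie.IsoF4 := by
  intro G _ _ _ h P N0 z s ψ C
  obtain ⟨F, hF, hF', ⟨e⟩⟩ := h
  by_cases h2 : (2 : F) = 0
  · have hch : CharP F 2 := by
      have := CharP.charP_iff_prime_eq_zero Nat.prime_two (R := F)
      exact this.2 (by exact_mod_cast h2)
    exact Cfsg.Agent.H738.C3.false_of_lieTwo C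
      (Or.inr (Or.inr (Or.inr (Or.inr (Or.inr (Or.inr (Or.inl ⟨F, hF, hF', hch, Or.inr (Or.inl ⟨e⟩)⟩)))))))
  · exact f4_odd h2 e C

end Cfsg.Agent.H169.Co3
end

-- part: H738/C3/SporFinal_mg
section
prune_inst 0x560204400c0020000000586912020444c0000b000230800d9a00a40020677220080af40c4801a06022a220500350000000000f0004000000400040001180080988252063340a10466008f80b083100000000000000000000000000000041004000000000
set_option linter.all false
open scoped Cfsg.Agent.FastGrp

-- part: H738/C3/SporOrd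
section
/-!
# S1920, case B: sporadic groups with `2 ^ 10 ∤ |G|` (helper738)
-/

set_option autoImplicit false

open Subgroup Equiv Cfsg

universe u

namespace Cfsg.Agent.H738.C3

open Cfsg.Agent.H13.Co3

variable {G : Type u} [Group G] [Finite G]
variable {P N0 : Subgroup G} {z s : G} {ψ : ↥(normalizer (P : Set G)) →* Equiv.Perm (Fin 6)}

theorem of_order (C : CB P N0 z s ψ) {n : ℕ} (h : Nat.card G = n) (hn : ¬ 2 ^ 10 * 45 ∣ n) : False :=
  hn (h ▸ dvd_card C)

theorem row_m11 (h : Spor.IsoM11 G) (C : CB P N0 z s ψ) : False := of_order C (NotCT.Orders.m11 h) (by decide)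
theorem row_m12 (h : Spor.IsoM12 G) (C : CB P N0 z s ψ) : False := of_order C (NotCT.Orders.m12 h) (by decide)
theorem row_m22 (h : Spor.IsoM22 G) (C : CB P N0 z s ψ) : False := of_order C (NotCT.Orders.m22 h) (by decide)
theorem row_m23 (h : Spor.IsoM23 G) (C : CB P N0 z s ψ) : False := of_order C (NotCT.Orders.m23 h) (by decide)
theorem row_j1 (h : Spor.IsoJ1 G) (C : CB P N0 z s ψ) : False := of_order C (NotCT.Orders.j1 h) (by decide)
theorem row_j2 (h : Spor.IsoJ2 G) (C : CB P N0 z s ψ) : False := of_order C (NotCT.Orders.j2 h) (by decide)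
theorem row_j3 (h : Spor.IsoJ3 G) (C : CB P N0 z s ψ) : False := of_order C (NotCT.Orders.j3 h) (by decide)
theorem row_hs (h : Spor.IsoHS G) (C : CB P N0 z s ψ) : False := of_order C (NotCT.Orders.hs h) (by decide)
theorem row_mcl (h : Spor.IsoMcL G) (C : CB P N0 z s ψ) : False := of_order C (NotCT.Orders.mcl h) (by decide)
theorem row_ly (h : Spor.IsoLy G) (C : CB P N0 z s ψ) : False := of_order C (NotCT.Orders.ly h) (by decide)
theorem row_on (h : Spor.IsoON G) (C : CB P N0 z s ψ) : False := of_order C (NotCT.Orders.on h) (by decide)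

end Cfsg.Agent.H738.C3
end

-- part: H738/C3/SporC2
section
/-!
# S1920, case B: the sporadic groups of characteristic 2 type (helper738)
-/

set_option autoImplicit false

open Subgroup Equiv Cfsg

universe u

namespace Cfsg.Agent.H738.C3

open Cfsg.Agent.H13.Co3

variable {G : Type u} [Group G] [Finite G]
variable {P N0 : Subgroup G} {z s : G} {ψ : ↥(normalizer (P : Set G)) →* Equiv.Perm (Fin 6)}

theorem row_m24 (h : Spor.IsoM24 G) (C : CB P N0 z s ψ) : False :=
  false_of_charTwo C (Cfsg.Agent.OddHalf.Small.M24Char.m24 h)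

theorem row_th (h : Spor.IsoTh G) (C : CB P N0 z s ψ) : False :=
  false_of_charTwo C (Cfsg.Agent.SevenCases.SporTh.charTwo h)

theorem row_co2 (h : Spor.IsoCo2 G) (C : CB P N0 z s ψ) : False :=
  false_of_charTwo C (Cfsg.Agent.SevenCases.SporCo2.charTwo h)

theorem row_j4 (h : Spor.IsoJ4 G) (C : CB P N0 z s ψ) : False :=
  false_of_charTwo C (Cfsg.Agent.SevenCases.SporJ4.charTwo h)

end Cfsg.Agent.H738.C3
end

-- part: H738/C3/SporFive
section
/-!
# S1920, case B: the sporadic groups in which `64` does not divide the orders of the centralizers of elements of order 5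
(helper738)
-/

set_option autoImplicit false

open Subgroup Equiv Cfsg

universe u

namespace Cfsg.Agent.H738.C3

open Cfsg.Agent.H13.Co3

variable {G : Type u} [Group G] [Finite G]
variable {P N0 : Subgroup G} {z s : G} {ψ : ↥(normalizer (P : Set G)) →* Equiv.Perm (Fin 6)}

/-- the order of the centralizer, along an isomorphism -/
theorem card_cent_equiv {X : Type*} [Group X] (e : G ≃* X) (y : G) :
    Nat.card ↥(centralizer ({e y} : Set X)) = Nat.card ↥(centralizer ({y} : Set G)) := by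
  have h : (centralizer ({y} : Set G)).map e.toMonoidHom = centralizer ({e y} : Set X) := by
    ext x
    rw [mem_centralizer_singleton_iff]
    constructor
    · rintro ⟨w, hw, rfl⟩
      have hw' := mem_centralizer_singleton_iff.1 hw
      have h1 := congrArg e hw'
      rw [map_mul, map_mul] at h1
      exact h1
    · intro hx
      refine ⟨e.symm x, ?_, e.apply_symm_apply x⟩
      rw [SetLike.mem_coe, mem_centralizer_singleton_iff]
      apply e.injective
      rw [map_mul, map_mul, e.apply_symm_apply]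
      exact hx
  rw [← h]
  exact (Nat.card_congr ((centralizer ({y} : Set G)).equivMapOfInjective e.toMonoidHom e.injective).toEquiv).symm

theorem of_five {X : Type*} [Group X] (e : G ≃* X)
    (h : ∀ x : X, orderOf x = 5 → ¬ 64 ∣ Nat.card ↥(centralizer ({x} : Set X))) (C : CB P N0 z s ψ) : False := by
  obtain ⟨y, hy, hd⟩ := exists_five_dvd C
  apply h (e y) (by rw [e.orderOf_eq, hy])
  rwa [card_cent_equiv]

theorem row_he (h : Spor.IsoHe G) (C : CB P N0 z s ψ) : False := by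
  obtain ⟨y, hy, hd⟩ := exists_five_dvd C
  exact Cfsg.Agent.CpAut.SmallP.He.not_eight_five h hy (dvd_trans (by norm_num) hd)

theorem row_suz (h : Spor.IsoSuz G) (C : CB P N0 z s ψ) : False := by
  obtain ⟨e⟩ := h
  refine of_five e (fun x hx => ?_) C
  exact Cfsg.Agent.H895.Pron.SuzX5.not_64 hx

theorem row_ru (h : Spor.IsoRu G) (C : CB P N0 z s ψ) : False := by
  obtain ⟨e⟩ := h
  refine of_five (e.trans RuLat.Main.equiv) (fun x hx => ?_) C
  exact Cfsg.Agent.CpAutRuFive.not_dvd hx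

theorem row_co3 (h : Spor.IsoCo3 G) (C : CB P N0 z s ψ) : False := by
  obtain ⟨e⟩ := h
  exact of_five e (fun x hx => Cfsg.Agent.BpSpor.CoThreeFive.not_dvd_co3 hx) C

theorem row_fi22 (h : Spor.IsoFi22 G) (C : CB P N0 z s ψ) : False := by
  obtain ⟨y, hy, hd⟩ := exists_five_dvd C
  rw [Cfsg.Agent.H559.FiSpec.cent5 h hy] at hd
  revert hd
  decide

theorem row_fi23 (h : Spor.IsoFi23 G) (C : CB P N0 z s ψ) : False := by
  obtain ⟨e⟩ := h
  refine of_five e (fun x hx => ?_) C
  rw [Cfsg.Agent.H841.PB.FiTwentyThree.card_cent_five hx]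
  decide

end Cfsg.Agent.H738.C3
end

-- part: H738/C3/SporAll
section
/-!
# S1920, case B: assembly of the sporadic rows (helper738)
-/

set_option autoImplicit false

open Subgroup Equiv Cfsg

universe u

namespace Cfsg.Agent.H738.C3

open Cfsg.Agent.H13.Co3 Cfsg.Agent.H527.Co3

/-- **The sporadic rows**, from the rows of Co₁, Fi₂₄', HN, B, M -/
theorem row_spor_of (co1 : Row.{u} @Spor.IsoCo1) (fi24 : Row.{u} @Spor.IsoFi24') (hn : Row.{u} @Spor.IsoHN)
    (b : Row.{u} @Spor.IsoB) (m : Row.{u} @Spor.IsoM) : Row.{u} @IsSporadicGroup := by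
  intro G _ _ _ h P N0 z s ψ C
  rcases h with h | h | h | h | h | h | h | h | h | h | h | h | h | h | h | h | h | h | h | h | h | h | h | h | h | h
  map_tacs [(exact row_m11 h C); (exact row_m12 h C); (exact row_m22 h C); (exact row_m23 h C); (exact row_m24 h C); (exact row_j1 h C); (exact row_j2 h C);
   (exact row_j3 h C); (exact row_j4 h C); (exact co1 G h _ _ _ _ _ C); (exact row_co2 h C); (exact row_co3 h C); (exact row_mcl h C); (exact row_hs h C);
   (exact row_suz h C); (exact row_he h C); (exact row_ru h C); (exact row_on h C); (exact row_ly h C); (exact row_fi22 h C); (exact row_fi23 h C);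
   (exact fi24 G h _ _ _ _ _ C); (exact hn G h _ _ _ _ _ C); (exact row_th h C); (exact b G h _ _ _ _ _ C); (exact m G h _ _ _ _ _ C)]

end Cfsg.Agent.H738.C3
end

-- part: H444/Co1CB
section
/-!
# S1920, case B: the row `Co₁` (helper444)

* classes 2A, 2C: `C(t)` is of characteristic 2;
* class 2B: `C(w) = (2² × L).2`, `L = G₂(4)`: the four-group is in `N0`, so `|N0 ∩ L| ≥ 8`; but the Sylow 2-subgroups of the
  centralizer of an element of order 5 of `L` have order 4.
-/

set_option autoImplicit false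

open Subgroup

namespace Cfsg.Agent.H444.Co1CB

open Cfsg Cfsg.Agent.H738.C3 Cfsg.Agent.H13.Co3
open Cfsg.Agent.KFacts.Co1D4
open Cfsg.Agent.StdG24.FiveL (FC)

universe u

/-! ### elements of order 5 of `G₂(4)` -/

/-- a 2-group commuting with an element of order 5 has order dividing 4 -/
theorem card_dvd_of_FC {L : Type*} [Group L] [Finite L] {d : L} {D : Subgroup L} (h : FC d D) (hd5 : d ^ 5 = 1)
    {Q : Subgroup L} (hQ : IsPGroup 2 Q) (hc : ∀ q ∈ Q, q * d = d * q) : Nat.card Q ∣ 4 := by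
  have : Fact (Nat.Prime 2) := ⟨Nat.prime_two⟩
  obtain ⟨e⟩ := h.iso
  let f : zpowers d × D →* L :=
    { toFun := fun p => (p.1 : L) * p.2
      map_one' := by simp only [_root_.Prod.fst_one, _root_.OneMemClass.coe_one, _root_.Prod.snd_one, _root_.mul_one]
      map_mul' := by
        rintro ⟨⟨a, i, rfl⟩, b⟩ ⟨⟨a', i', rfl⟩, b'⟩
        have h1 : Commute (b : L) d := h.comm b b.2
        have h2 : (b : L) * d ^ i' = d ^ i' * b := (h1.zpow_right i').eq
        show d ^ i * d ^ i' * ((b : L) * b') = d ^ i * b * (d ^ i' * b')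
        calc d ^ i * d ^ i' * ((b : L) * b') = d ^ i * (d ^ i' * b) * b' := by group
          _ = d ^ i * (b * d ^ i') * b' := by rw [h2]
          _ = d ^ i * b * (d ^ i' * b') := by group }
  have hle : Q ≤ f.range := by
    intro q hq
    obtain ⟨i, c, hcD, hqc⟩ := h.cent q (hc q hq)
    exact ⟨(⟨d ^ i, pow_mem (mem_zpowers d) i⟩, ⟨c, hcD⟩), hqc.symm⟩
  have h1 : Nat.card Q ∣ Nat.card f.range := card_dvd_of_le hle
  have h2 : Nat.card f.range ∣ Nat.card (zpowers d × D) := card_range_dvd f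
  have h3 : Nat.card D = 60 := by
    rw [Nat.card_congr e.toEquiv, nat_card_alternatingGroup]
    simp [Nat.factorial]
  have h4 : Nat.card (zpowers d) ∣ 5 := by
    rw [Nat.card_zpowers]
    exact orderOf_dvd_of_pow_eq_one hd5
  have h5 : Nat.card Q ∣ 5 * 60 := by
    refine h1.trans (h2.trans ?_)
    rw [Nat.card_prod, h3]
    exact mul_dvd_mul_right h4 60
  obtain ⟨k, hk⟩ := hQ.exists_card_eq
  rw [hk] at h5 ⊢
  have h6 : (2 ^ k).Coprime 75 := Nat.Coprime.pow_left k (by norm_num)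
  exact h6.dvd_of_dvd_mul_right (by rw [show 4 * 75 = 5 * 60 by norm_num]; exact h5)

theorem card_dvd {y : Spor.Co1} (hy : y ∈ GTwo.L) (hy1 : y ≠ 1) (hy5 : y ^ 5 = 1) {Q : Subgroup Spor.Co1}
    (hQL : Q ≤ GTwo.L) (hQ : IsPGroup 2 Q) (hc : ∀ q ∈ Q, q * y = y * q) : Nat.card Q ∣ 4 := by
  have hfin : Finite StdG24.Mod6.L := SixCen.finite_L
  obtain ⟨d, hd⟩ : ∃ d, GTwo.φ d = ⟨y, hy⟩ := GTwo.φ.surjective _
  have hd5 : d ^ 5 = 1 := by
    apply GTwo.φ.injective
    rw [map_pow, hd, map_one]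
    exact Subtype.ext hy5
  have hd1 : d ≠ 1 := by
    intro h0
    rw [h0, map_one] at hd
    exact hy1 (congrArg Subtype.val hd).symm
  obtain ⟨D, hD⟩ := StdG24.FiveL.exists_FC StdG24.Ax6.ax6 hd1 hd5
  have h1 : Nat.card ((Q.subgroupOf GTwo.L).comap GTwo.φ.toMonoidHom) = Nat.card Q := by
    have e1 : (Q.subgroupOf GTwo.L).comap GTwo.φ.toMonoidHom = (Q.subgroupOf GTwo.L).map GTwo.φ.symm.toMonoidHom :=
      (map_equiv_eq_comap_symm GTwo.φ.symm _).symm
    rw [e1, card_map_of_injective GTwo.φ.symm.injective]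
    exact Nat.card_congr (subgroupOfEquivOfLe hQL).toEquiv
  rw [← h1]
  refine card_dvd_of_FC hD hd5 ?_ ?_
  · have h2 : IsPGroup 2 (Q.subgroupOf GTwo.L) := hQ.of_equiv (subgroupOfEquivOfLe hQL).symm
    exact h2.comap_of_injective _ GTwo.φ.injective
  · intro q hq
    apply GTwo.φ.injective
    rw [map_mul, map_mul, hd]
    exact Subtype.ext (hc _ hq)

/-! ### the four-group -/

section abs

variable {X : Type*} [Group X] {w v r z₀ : X} {L : Subgroup X}

theorem conj_Z [Finite X] (S : Abs.Setup w v r z₀ L) {c x : X} (hc : c * w = w * c) (hx : x ∈ S.Z) :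
    c * x * c⁻¹ ∈ S.Z := by
  have hxw : x * w = w * x := S.Z_comm x hx w S.w_mem
  have hc' : c⁻¹ * w = w * c⁻¹ := Abs.Setup.inv_w hc
  apply S.cent
  · exact Abs.Setup.mul_w (Abs.Setup.mul_w hc hxw) hc'
  · intro l hl
    have h1 : c⁻¹ * l * c ∈ L := by
      have := S.conj_L hc' hl
      rwa [inv_inv] at this
    have h2 := S.cent_LZ _ h1 x hx
    calc c * x * c⁻¹ * l = c * (x * (c⁻¹ * l * c)) * c⁻¹ := by group
      _ = c * (c⁻¹ * l * c * x) * c⁻¹ := by rw [h2]
      _ = l * (c * x * c⁻¹) := by group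

theorem comm_Z [Finite X] (S : Abs.Setup w v r z₀ L) {c x : X} (hc : c * w = w * c) (hx : x ∈ S.Z) :
    x * c * x⁻¹ * c⁻¹ = 1 ∨ x * c * x⁻¹ * c⁻¹ = w := by
  have key : ∀ t : X, t ∈ S.Z → t ≠ 1 → t ≠ w → c * t * c⁻¹ = t ∨ c * t * c⁻¹ = w * t := by
    intro t ht ht1 htw
    have h1 := conj_Z S hc ht
    have h2 : c * t * c⁻¹ ≠ 1 := by
      intro h
      rw [mul_inv_eq_one] at h
      exact ht1 (mul_left_cancel (h.trans (mul_one c).symm))
    have h3 : c * t * c⁻¹ ≠ w := by
      intro h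
      rw [mul_inv_eq_iff_eq_mul, ← hc] at h
      exact htw (mul_left_cancel h)
    rcases ht with rfl | rfl | rfl | rfl
    · exact absurd rfl ht1
    · exact absurd rfl htw
    · rcases h1 with h | h | h | h
      · exact absurd h h2
      · exact absurd h h3
      · exact Or.inl h
      · exact Or.inr h
    · rcases h1 with h | h | h | h
      · exact absurd h h2
      · exact absurd h h3
      · right
        rw [h, ← mul_assoc, S.ww, one_mul]
      · exact Or.inl h
  by_cases hx1 : x = 1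
  · left
    rw [hx1]; simp
  by_cases hxw : x = w
  · left
    rw [hxw, ← hc]; group
  have hxx : x⁻¹ = x := by
    have h1 : ∀ a ∈ S.Z, a * a = 1 := by
      rintro a (rfl | rfl | rfl | rfl)
      · exact mul_one 1
      · exact S.ww
      · exact S.vv
      · calc w * v * (w * v) = w * (v * w) * v := by group
          _ = w * (w * v) * v := by rw [S.comm]
          _ = (w * w) * (v * v) := by group
          _ = 1 := by rw [S.ww, S.vv, mul_one]
    exact inv_eq_of_mul_eq_one_right (h1 x hx)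
  have e : x * c * x⁻¹ * c⁻¹ = x * (c * x * c⁻¹) := by rw [hxx]; group
  have hxx' : x * x = 1 := by
    nth_rw 1 [← hxx]
    exact inv_mul_cancel x
  rw [e]
  rcases key x hx hx1 hxw with h | h
  · left
    rw [h]; exact hxx'
  · right
    rw [h, ← mul_assoc, S.Z_comm x hx w S.w_mem, mul_assoc, hxx', mul_one]

/-- **The contradiction.** -/
theorem abs [Finite X] (S : Abs.Setup w v r z₀ L)
    (hL : ∀ y ∈ L, y ≠ 1 → y ^ 5 = 1 → ∀ Q : Subgroup X, Q ≤ L → IsPGroup 2 Q → (∀ q ∈ Q, q * y = y * q) → Nat.card Q ∣ 4)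
    {N : Subgroup X} (hN2 : IsPGroup 2 N) (hcard : Nat.card N = 64) (hZN : S.Z ≤ N) (hNw : ∀ n ∈ N, n * w = w * n)
    {y : X} (hy5 : y ^ 5 = 1) (hy1 : y ≠ 1) (hyN : ∀ n ∈ N, y * n = n * y) : False := by
  classical
  -- `y ∈ L`
  have hyw : y * w = w * y := hyN w (hZN S.w_mem)
  have hy2 : y * y ∈ S.ZL := (S.mul_mem_iff hyw hyw).2 Iff.rfl
  have hyL : y ∈ L := by
    obtain ⟨a, ha, l, hl, h⟩ := hy2
    have h1 : l * a = a * l := S.cent_LZ l hl a ha
    have haa : a * a = 1 := by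
      rcases ha with rfl | rfl | rfl | rfl
      · exact mul_one 1
      · exact S.ww
      · exact S.vv
      · calc w * v * (w * v) = w * (v * w) * v := by group
          _ = w * (w * v) * v := by rw [S.comm]
          _ = (w * w) * (v * v) := by group
          _ = 1 := by rw [S.ww, S.vv, mul_one]
    have h2 : y⁻¹ = l * l := by
      have h3 : y * y * (y * y) * y = 1 := by
        rw [← hy5]; simp only [pow_succ, pow_zero, one_mul, mul_assoc]
      have h4 : y * y * (y * y) = l * l := by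
        rw [h]
        calc a * l * (a * l) = a * (l * a) * l := by group
          _ = a * (a * l) * l := by rw [h1]
          _ = (a * a) * (l * l) := by group
          _ = l * l := by rw [haa, one_mul]
      rw [h4] at h3
      exact (eq_inv_of_mul_eq_one_left h3).symm
    rw [← inv_inv y, h2]
    exact L.inv_mem (L.mul_mem hl hl)
  -- `N ∩ L`
  have h4 : Nat.card ↥(N ⊓ L) ∣ 4 := by
    refine hL y hyL hy1 hy5 _ inf_le_right (hN2.to_le inf_le_left) ?_
    intro q hq
    exact (hyN q hq.1).symm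
  -- the order of `N ∩ ZL`
  have h5 : 32 ≤ Nat.card ↥(N ⊓ S.ZL) := by
    have h6 : ((S.ZL).subgroupOf N).index = 1 ∨ ((S.ZL).subgroupOf N).index = 2 := by
      by_cases hle : N ≤ S.ZL
      · left
        rw [subgroupOf_eq_top.2 hle, index_top]
      · right
        obtain ⟨a, haN, haZ⟩ := SetLike.not_le_iff_exists.1 hle
        rw [index_eq_two_iff]
        refine ⟨⟨a, haN⟩, fun b => ?_⟩
        rw [mem_subgroupOf, mem_subgroupOf]
        have h7 := S.mul_mem_iff (hNw b b.2) (hNw a haN)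
        show Xor ((b : X) * a ∈ S.ZL) ((b : X) ∈ S.ZL)
        rw [h7]
        unfold Xor
        (clear * - haZ; tauto)
    have h7 := ((S.ZL).subgroupOf N).index_mul_card
    have h8 : Nat.card ((S.ZL).subgroupOf N) = Nat.card ↥(N ⊓ S.ZL) := by
      rw [← card_map_of_injective N.subtype_injective, subgroupOf_map_subtype, inf_comm]
    rw [hcard, h8] at h7
    rcases h6 with h | h <;> rw [h] at h7 <;> omega
  have h9 : Nat.card ↥(N ⊓ S.ZL) ≤ 4 * Nat.card ↥(N ⊓ L) := by
    rw [← S.card_Z, ← Nat.card_prod]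
    have hex : ∀ g : ↥(N ⊓ S.ZL), ∃ p : S.Z × ↥(N ⊓ L), (g : X) = p.1 * p.2 := by
      rintro ⟨g, hgN, a, ha, l, hl, rfl⟩
      refine ⟨(⟨a, ha⟩, ⟨l, ?_, hl⟩), rfl⟩
      have := N.mul_mem (N.inv_mem (hZN ha)) hgN
      rwa [inv_mul_cancel_left] at this
    choose f hf using hex
    refine Nat.card_le_card_of_injective f ?_
    intro a b hab
    apply Subtype.ext
    rw [hf a, hf b, hab]
  have h10 := Nat.le_of_dvd (by norm_num) h4
  omega

end abs

/-! ### the row -/

section row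

variable {G : Type u} [Group G] [Finite G] {P N0 : Subgroup G} {z s : G}
  {ψ : ↥(normalizer (P : Set G)) →* Equiv.Perm (Fin 6)}

theorem kill_ctr (C : CB P N0 z s ψ) {t : Spor.Co1} (e : G ≃* Spor.Co1) (he : e z = t) (h : CTwoTab.Co1.Ctr t) :
    False := by
  obtain ⟨R, h1, h2, h3, h4⟩ := h
  obtain ⟨y, hy, hyN⟩ := exists_five C
  have hcz : ∀ g : G, g * z = z * g → e g ∈ centralizer ({t} : Set Spor.Co1) := by
    intro g hg
    rw [mem_centralizer_singleton_iff, ← he, ← map_mul, ← map_mul, hg]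
  have hcA : ∀ g, Act z N0 g → g * z = z * g := fun g hg => hg.comm_z (conf C).ord (conf C).mem
  have h5 := (conf C).not_char2 (M := centralizer ({z} : Set G)) (Q := R.comap e.toMonoidHom) ?_ ?_ ?_ ?_ ?_ hyN
    (by rw [hy]; decide) ?_
  · rw [h5, orderOf_one] at hy
    omega
  · intro g hg m hm
    have hg' : g ∈ centralizer ({z} : Set G) := mem_centralizer_singleton_iff.2 (hcA g hg)
    exact mul_mem (mul_mem hg' hm) (inv_mem hg')
  · exact h3.comap_of_injective _ e.injective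
  · intro g hg w hw
    have := h2 (e g) (hcz g (hcA g hg)) (e w) hw
    show e (g * w * g⁻¹) ∈ R
    rwa [map_mul, map_mul, map_inv]
  · intro m hm q hq
    have := h2 (e m) (hcz m (mem_centralizer_singleton_iff.1 hm)) (e q) hq
    show e (m * q * m⁻¹) ∈ R
    rwa [map_mul, map_mul, map_inv]
  · intro m hm hq
    refine h4 (e m) (hcz m (mem_centralizer_singleton_iff.1 hm)) ?_
    intro r hr
    obtain ⟨x, rfl⟩ := e.surjective r
    rw [← map_mul, ← map_mul, hq x hr]
  · exact mem_centralizer_singleton_iff.2 (hyN z (conf C).mem)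

theorem kill_two (C : CB P N0 z s ψ) (e : G ≃* Spor.Co1) (he : e z = TwoB.w) : False := by
  have hfin : Finite Spor.Co1 := Finite.of_equiv G e.toEquiv
  have S := Main.setup
  obtain ⟨y, hy, hyN⟩ := exists_five C
  have hcz : ∀ g : G, g * z = z * g → e g * TwoB.w = TwoB.w * e g := by
    intro g hg
    rw [← he, ← map_mul, ← map_mul, hg]
  have hcA : ∀ g, Act z N0 g → g * z = z * g := fun g hg => hg.comm_z (conf C).ord (conf C).mem
  have hNz : ∀ n ∈ N0, n * z = z * n := fun n hn => hcA n (act_N C hn)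
  have hZ2 : IsPGroup 2 S.Z := IsPGroup.of_card (n := 2) (by rw [S.card_Z]; norm_num)
  have hle : S.Z.comap e.toMonoidHom ≤ N0 := by
    apply le_N0 C (hZ2.comap_of_injective _ e.injective)
    · intro x hx a ha
      have h1 := comm_Z S (hcz a (hNz a ha)) (show e x ∈ S.Z from hx)
      have h2 : e (x * a * x⁻¹ * a⁻¹) = e x * e a * (e x)⁻¹ * (e a)⁻¹ := by
        rw [map_mul, map_mul, map_mul, map_inv, map_inv]
      rw [← h2] at h1
      rcases h1 with h | h
      · rw [e.injective (h.trans (map_one e).symm)]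
        exact one_mem _
      · rw [e.injective (h.trans he.symm)]
        exact mem_zpowers z
    · intro g hg x hx
      have := conj_Z S (hcz g (hcA g hg)) (show e x ∈ S.Z from hx)
      show e (g * x * g⁻¹) ∈ S.Z
      rwa [map_mul, map_mul, map_inv]
  refine abs S (fun y hy hy1 hy5 Q hQL hQ hc => card_dvd hy hy1 hy5 hQL hQ hc) (N := N0.map e.toMonoidHom) ?_ ?_ ?_ ?_
    (y := e y) ?_ ?_ ?_
  · exact C.N_two.map _
  · rw [card_map_of_injective e.injective, C.card]
  · intro x hx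
    obtain ⟨g, rfl⟩ := e.surjective x
    exact ⟨g, hle hx, rfl⟩
  · rintro _ ⟨n, hn, rfl⟩
    exact hcz n (hNz n hn)
  · rw [← map_pow, ← hy, pow_orderOf_eq_one, map_one]
  · intro h
    rw [e.injective (h.trans (map_one e).symm), orderOf_one] at hy
    omega
  · rintro _ ⟨n, hn, rfl⟩
    show e y * e n = e n * e y
    rw [← map_mul, ← map_mul, hyN n hn]

end row

/-- **The row `Co₁` of S1920, case B.** -/
theorem row_Co1 {G : Type u} [Group G] [Finite G] (h : Spor.IsoCo1 G) {P N0 : Subgroup G} {z s : G}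
    {ψ : ↥(normalizer (P : Set G)) →* Equiv.Perm (Fin 6)} (C : CB P N0 z s ψ) : False := by
  obtain ⟨e⟩ := h
  have ho : orderOf (e z) = 2 := by rw [MulEquiv.orderOf_eq, orderOf_z C]
  obtain ⟨g, t, ht, hg⟩ := CTwoTab.Co1.exists_rep (e z) ho
  have he : (e.trans (MulAut.conj g⁻¹)) z = t := by
    show g⁻¹ * e z * g⁻¹⁻¹ = t
    rw [hg]; group
  rcases ht with ⟨o, ho, rfl⟩ | ⟨d, hd, rfl⟩ | rfl
  · exact kill_ctr C _ he (CTwoTab.Co1.ctr_octad ho)
  · exact kill_ctr C _ he (CTwoTab.Co1.ctr_dodecad hd)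
  · exact kill_two C _ he

end Cfsg.Agent.H444.Co1CB
end

-- part: H282/Co3/Fi24
section
/-!
# S1920, case B: the row `Fi24'` (helper282)

`C(5A) = 5 × S₉` in `Fi24`; `N0` is embedded in `A₉` and commutes with an element of order 4 of `A₉`, whose
centralizer in `S₉` has order 48 or 32.
-/

set_option autoImplicit false

open Subgroup Equiv Equiv.Perm

namespace Cfsg.Agent.H282.Co3

open Cfsg Cfsg.Agent.H13.Co3 Cfsg.Agent.H841.Five Cfsg.Agent.LThreeFi24.FiveConj
open Cfsg.Agent.LThreeFi24.SNine (y0 R)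
open Cfsg.Agent.R08.FiTwentyFour (L sgn_L mem_commutator_iff)
open Cfsg.Agent.Fischer.Fi24Final (sgn)
open Cfsg.Spor (Fi24)

/-- centralizers of even elements of order 4 of `S₉` -/
theorem cent_nine (σ : Perm (Fin 9)) (h4 : σ ^ 4 = 1) (h2 : σ ^ 2 ≠ 1) (hs : sign σ = 1) :
    ¬ 64 ∣ Nat.card ↥(centralizer ({σ} : Set (Perm (Fin 9)))) := by
  classical
  have h1 : ∀ k ∈ σ.cycleType, k = 2 ∨ k = 4 := by
    intro k hk
    have h2 := Equiv.Perm.two_le_of_mem_cycleType hk
    have h3 : k ∣ 4 := (Equiv.Perm.dvd_of_mem_cycleType hk).trans (orderOf_dvd_of_pow_eq_one h4)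
    have h5 : k ≤ 4 := Nat.le_of_dvd (by norm_num) h3
    interval_cases k
    · exact Or.inl rfl
    · norm_num at h3
    · exact Or.inr rfl
  -- there is a 4
  have h3 : 4 ∈ σ.cycleType := by
    by_contra hcon
    apply h2
    apply orderOf_dvd_iff_pow_eq_one.1
    rw [← Equiv.Perm.lcm_cycleType]
    apply Multiset.lcm_dvd.2
    intro k hk
    rcases h1 k hk with rfl | rfl
    · exact dvd_rfl
    · exact absurd hk hcon
  have h5 : σ.cycleType.sum ≤ 9 := by
    rw [Equiv.Perm.sum_cycleType]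
    exact (Finset.card_le_univ _).trans (by simp)
  have h6 : sign σ = (-1) ^ (σ.cycleType.sum + Multiset.card σ.cycleType) := sign_of_cycleType σ
  have h7 := Equiv.Perm.nat_card_centralizer σ
  rw [h7]
  clear h7
  generalize hm : σ.cycleType = m at h1 h3 h5 h6
  -- the multiset
  have hmem : m = Multiset.replicate (m.count 4) 4 + Multiset.replicate (m.count 2) 2 := by
    ext k
    rw [Multiset.count_add, Multiset.count_replicate, Multiset.count_replicate]
    by_cases hk : k ∈ m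
    · rcases h1 k hk with rfl | rfl <;> simp
    · rw [Multiset.count_eq_zero_of_notMem hk]
      by_cases h4 : 4 = k
      · subst h4; simp [Multiset.count_eq_zero_of_notMem hk]
      · by_cases h2 : 2 = k
        · subst h2; simp [Multiset.count_eq_zero_of_notMem hk]
        · simp [h4, h2]
  have hc : 1 ≤ m.count 4 := Multiset.one_le_count_iff_mem.2 h3
  generalize m.count 4 = a at hmem hc
  generalize m.count 2 = b at hmem
  subst hmem
  rw [hs] at h6
  simp only [Multiset.sum_add, Multiset.sum_replicate, smul_eq_mul, Multiset.card_add, Multiset.card_replicate] at h5 h6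
  have ha : a ≤ 2 := by omega
  have hb : b ≤ 2 := by omega
  interval_cases a <;> interval_cases b <;> first | omega | (revert h6; decide)

theorem sgn_Phi9 (τ : Perm (Fin 9)) : sgn (Phi τ) = sign τ := by
  induction τ using Equiv.Perm.swap_induction_on with
  | one => rw [map_one, map_one, map_one]
  | swap_mul f x z hxz ih =>
    rw [map_mul, map_mul, ih, map_mul, Perm.sign_swap hxz]
    congr 1
    exact sgn_L (Phi_swap_mem_L hxz)

universe u

/-- **S1920, case B: the row `Fi24'`** -/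
theorem row_Fi24p {G : Type u} [Group G] [Finite G] (h : Spor.IsoFi24' G) {P N0 : Subgroup G} {z s : G}
    {ψ : ↥(normalizer (P : Set G)) →* Perm (Fin 6)} (C : CB P N0 z s ψ) : False := by
  classical
  obtain ⟨e⟩ := h
  obtain ⟨y, hy, hyc⟩ := H738.C3.exists_five C
  -- the embedding
  let f : G →* Fi24 := (Subgroup.subtype _).comp e.toMonoidHom
  have hf : Function.Injective f := fun a b hab => e.injective (Subtype.ext hab)
  have hfs : ∀ a, sgn (f a) = 1 := fun a => mem_commutator_iff.1 (e a).2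
  have hfy : orderOf (f y) = 5 := by rw [orderOf_injective f hf, hy]
  obtain ⟨g, hg⟩ := exists_conj_five hfy
  -- the relation
  have key : ∀ n ∈ N0, ∃ (i : ℕ) (σ : Perm (Fin 9)), R (g * f n * g⁻¹) σ ∧ g * f n * g⁻¹ = y0 ^ i * Phi σ := by
    intro n hn
    have h1 : (g * f n * g⁻¹) * y0 = y0 * (g * f n * g⁻¹) := by
      rw [← hg]
      have h2 : f n * f y = f y * f n := by rw [← map_mul, ← map_mul, hyc n hn]
      calc g * f n * g⁻¹ * (g * f y * g⁻¹) = g * (f n * f y) * g⁻¹ := by group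
        _ = g * (f y * f n) * g⁻¹ := by rw [h2]
        _ = g * f y * g⁻¹ * (g * f n * g⁻¹) := by group
    obtain ⟨i, σ, -, h2, h3⟩ := exists_of_comm h1
    exact ⟨i, σ, h2, h3⟩
  choose! idx π hπ hπ' using key
  have hmul : ∀ a ∈ N0, ∀ b ∈ N0, π (a * b) = π a * π b := by
    intro a ha b hb
    refine (hπ _ (mul_mem ha hb)).uniq ?_
    have h1 := (hπ a ha).mul (hπ b hb)
    have h2 : g * f a * g⁻¹ * (g * f b * g⁻¹) = g * f (a * b) * g⁻¹ := by rw [map_mul]; group
    rwa [h2] at h1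
  have hone : π 1 = 1 := by
    have h1 := hπ 1 (one_mem _)
    rw [map_one, mul_one, mul_inv_cancel] at h1
    exact h1.uniq R.one
  let Th : ↥N0 →* Perm (Fin 9) :=
    { toFun := fun a => π a
      map_one' := hone
      map_mul' := fun a b => hmul a a.2 b b.2 }
  have hinj : Function.Injective Th := by
    rw [injective_iff_map_eq_one]
    rintro ⟨a, ha⟩ ha1
    have h1 : π a = 1 := ha1
    have h2 := hπ' a ha
    rw [h1, map_one, mul_one] at h2
    have h3 : (g * f a * g⁻¹) ^ 5 = 1 := by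
      rw [h2, ← pow_mul, mul_comm, pow_mul]
      have : y0 ^ 5 = 1 := by rw [← orderOf_y0, pow_orderOf_eq_one]
      rw [this, one_pow]
    have h4 : a ^ 5 = 1 := by
      apply hf
      rw [map_pow, map_one]
      have h5 : (g * f a * g⁻¹) ^ 5 = g * f a ^ 5 * g⁻¹ := conj_pow
      rw [h5] at h3
      have h6 : f a ^ 5 = g⁻¹ * (g * f a ^ 5 * g⁻¹) * g := by group
      rw [h6, h3]; group
    obtain ⟨k, hk⟩ := C.N_two ⟨a, ha⟩
    have hk' : a ^ 2 ^ k = 1 := congrArg Subtype.val hk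
    have h7 : orderOf a ∣ 1 := by
      have h8 : (5 : ℕ).Coprime (2 ^ k) := Nat.Coprime.pow_right k (by norm_num)
      exact h8 ▸ Nat.dvd_gcd (orderOf_dvd_of_pow_eq_one h4) (orderOf_dvd_of_pow_eq_one hk')
    exact Subtype.ext (orderOf_eq_one_iff.1 (Nat.dvd_one.1 h7))
  -- the element of order 4
  let s' : ↥N0 := ⟨s, C.sN⟩
  have hs4 : s' ^ 4 = 1 := by
    apply Subtype.ext
    change s ^ 4 = 1
    rw [show 4 = 2 * 2 by rfl, pow_mul, pow_two s, C.s_sq, pow_two, C.z_sq]
  have hs2 : s' ^ 2 ≠ 1 := by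
    intro h1
    have h2 : s ^ 2 = 1 := congrArg Subtype.val h1
    rw [pow_two, C.s_sq] at h2
    exact C.z_ne h2
  refine cent_nine (Th s') ?_ ?_ ?_ ?_
  · rw [← map_pow, hs4, map_one]
  · rw [← map_pow]
    intro h1
    exact hs2 (hinj (h1.trans (map_one Th).symm))
  · have h1 := hπ' s C.sN
    have h2 : sgn (g * f s * g⁻¹) = 1 := by
      rw [map_mul, map_mul, map_inv, hfs, mul_one, mul_inv_cancel]
    rw [h1, map_mul, sgn_Phi9, map_pow] at h2
    have h3 : sgn y0 = 1 := by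
      have h4 : sgn y0 ^ 5 = 1 := by
        rw [← map_pow]
        have : y0 ^ 5 = 1 := by rw [← orderOf_y0, pow_orderOf_eq_one]
        rw [this, map_one]
      rcases Int.units_eq_one_or (sgn y0) with h5 | h5
      · exact h5
      · rw [h5] at h4; exact absurd h4 (by decide)
    rw [h3, one_pow, one_mul] at h2
    exact h2
  · have h1 : Nat.card ↥Th.range = 64 := by
      rw [← C.card]
      exact (Nat.card_congr (MonoidHom.ofInjective hinj).toEquiv).symm
    rw [← h1]
    apply card_dvd_of_le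
    rintro _ ⟨a, rfl⟩
    rw [mem_centralizer_singleton_iff, ← map_mul, ← map_mul]
    congr 1
    exact Subtype.ext (C.s_cen a a.2)

end Cfsg.Agent.H282.Co3
end

-- part: H748/Co3/RowHN
section
/-!
# S1920, case B: the row `HN` (helper748)
-/

set_option autoImplicit false

open Subgroup

namespace Cfsg.Agent.H748.Co3

open Cfsg Cfsg.Agent.H738.C3 Cfsg.Agent.H13.Co3
open Cfsg.Agent.HN.Pres Cfsg.Agent.HN.H0Basic
open Cfsg.Agent.HN.XWords Cfsg.Agent.KFacts.HN Cfsg.Agent.HN.Classes Cfsg.Agent.SigZeroHN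
open Cfsg.Agent.HN.HS100 (K gx_mem)

universe u

/-- `C(2B)` is of characteristic 2 -/
theorem char_two_B {G : Type u} [Group G] [Finite G] (θ : G ≃* Spor.HN) {z : G} (hz : θ z = W0) :
    IsOfCharacteristicTwo ↥(centralizer ({z} : Set G)) := by
  let f : ↥(centralizer ({z} : Set G)) →* Spor.HN := θ.toMonoidHom.comp (centralizer ({z} : Set G)).subtype
  have hf : Function.Injective f := θ.injective.comp (centralizer ({z} : Set G)).subtype_injective
  have hP : ∀ x, f x ∈ PP := by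
    intro x
    rw [mem_PP, ← hz]
    show θ (x : G) * θ z = θ z * θ (x : G)
    rw [← map_mul, ← map_mul, mem_centralizer_singleton_iff.1 x.2]
  have hr : ∀ r ∈ RS, ∃ x, f x = r := by
    intro r hr
    have h1 := mem_PP.1 (RS_le_PP hr)
    refine ⟨⟨θ.symm r, mem_centralizer_singleton_iff.2 ?_⟩, θ.apply_symm_apply r⟩
    apply θ.injective
    rw [map_mul, map_mul, θ.apply_symm_apply, hz, h1]
  refine OddHalf.Small.Generic.of_centralizer_le (Q := RS.comap f) ⟨fun n hn g => ?_⟩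
    (RS_isPGroup.comap_of_injective f hf) ?_
  · rw [mem_comap, map_mul, map_mul, map_inv]
    exact conj_RS (hP g) hn
  · intro x hx
    rw [mem_comap]
    rcases cent_RS (x := f x) (fun y hy => by
      obtain ⟨y', rfl⟩ := hr y hy
      rw [← map_mul, ← map_mul, mem_centralizer_iff.1 hx y' hy]) with h | h
    · rw [h]; exact one_mem _
    · rw [h]; exact W0_mem_RS

/-- in `2.HS.2` -/
theorem not_h0 {N : Subgroup H0} (hN : Nat.card N = 64) {y : H0} (hy : orderOf y = 5) (hc : ∀ n ∈ N, y * n = n * y) :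
    False := by
  have hfin : Finite H0 := Cfsg.Agent.HN.H0Basic.finite_H0
  have hyK : y ∈ K := by
    have h1 : y = (y ^ 3) ^ 2 := by
      rw [← pow_mul, show 3 * 2 = 1 + 5 by norm_num, pow_add, ← hy, pow_orderOf_eq_one, mul_one, pow_one]
    rw [h1]
    exact sq_mem_K _
  obtain ⟨hcen, ⟨e⟩, -⟩ := Cfsg.Agent.HN.CoverUnique.isCover_K
  have hmem : ∀ g : K, g ∈ center K → (g : H0) = 1 ∨ (g : H0) = τ := by
    intro g hg
    rw [Cfsg.Agent.HN.DoubleCover.center_K Cfsg.Agent.HN.H0Basic.card_H0 Cfsg.Agent.HN.CoverUnique.gxne,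
      MonoidHom.mem_ker] at hg
    exact φ_eq_one_iff.1 (congrArg Subtype.val hg)
  let f : K →* Spor.HS := e.toMonoidHom.comp (QuotientGroup.mk' (center K))
  have hf1 : ∀ g : K, f g = 1 ↔ g ∈ center K := by
    intro g
    show e (QuotientGroup.mk' (center K) g) = 1 ↔ _
    rw [map_eq_one_iff e e.injective]
    exact QuotientGroup.eq_one_iff g
  have hfHS : Finite Spor.HS := Finite.of_surjective f (e.surjective.comp (QuotientGroup.mk'_surjective _))
  have h5 : Fact (Nat.Prime 5) := ⟨by norm_num⟩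
  have h2 : Fact (Nat.Prime 2) := ⟨Nat.prime_two⟩
  have ho : orderOf (f ⟨y, hyK⟩) = 5 := by
    refine orderOf_eq_prime ?_ ?_
    · rw [← map_pow]
      have h1 : (⟨y, hyK⟩ : K) ^ 5 = 1 := Subtype.ext (by rw [← hy]; exact pow_orderOf_eq_one y)
      rw [h1, map_one]
    · intro h
      have h2 : y ^ 2 = 1 := by
        rcases hmem _ ((hf1 _).1 h) with h3 | h3
        · have h4 : y = 1 := h3
          rw [h4, one_pow]
        · have h4 : y = τ := h3
          rw [h4, pow_two]
          exact emb.sq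
      have h5 := orderOf_dvd_of_pow_eq_one h2
      rw [hy] at h5
      norm_num at h5
  -- `N ∩ K`
  have hKi : K.index = 2 := Cfsg.Agent.HN.HS100.K_index
  have hτ2 : orderOf τ = 2 := orderOf_eq_prime (by rw [pow_two]; exact emb.sq) emb.ne
  let M : Subgroup K := N.subgroupOf K
  have hM : 32 ≤ Nat.card M := by
    have e1 : Nat.card (K.subgroupOf N) = Nat.card M := by
      rw [← Subgroup.card_map_of_injective (K := M) K.subtype_injective,
        ← Subgroup.card_map_of_injective (K := K.subgroupOf N) N.subtype_injective, subgroupOf_map_subtype,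
        subgroupOf_map_subtype, inf_comm]
    have e2 : (K.subgroupOf N).index ∣ 2 := by
      rw [← hKi]
      exact Subgroup.relIndex_dvd_index_of_normal K N
    have e3 := (K.subgroupOf N).card_mul_index
    rw [e1, hN] at e3
    have e4 := Nat.le_of_dvd (by norm_num) e2
    by_contra hlt
    push Not at hlt
    have e5 : Nat.card M * (K.subgroupOf N).index ≤ 31 * 2 := Nat.mul_le_mul (by omega) e4
    omega
  let f' : M →* Spor.HS := f.comp M.subtype
  have hker : Nat.card f'.ker ≤ 2 := by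
    have hinj : Function.Injective (K.subtype.comp M.subtype) := K.subtype_injective.comp M.subtype_injective
    have hle : f'.ker.map (K.subtype.comp M.subtype) ≤ zpowers τ := by
      rintro _ ⟨x, hx, rfl⟩
      rcases hmem _ ((hf1 _).1 hx) with h | h
      · show ((M.subtype x : K) : H0) ∈ zpowers τ
        rw [h]; exact one_mem _
      · show ((M.subtype x : K) : H0) ∈ zpowers τ
        rw [h]; exact mem_zpowers _
    have h1 := Subgroup.card_le_of_le hle
    rwa [Subgroup.card_map_of_injective hinj, Nat.card_zpowers, hτ2] at h1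
  have hran : 16 ≤ Nat.card f'.range := by
    have h1 := f'.ker.card_mul_index
    rw [Subgroup.index_ker] at h1
    by_contra hlt
    push Not at hlt
    have h2 : Nat.card f'.ker * Nat.card f'.range ≤ 2 * 15 := Nat.mul_le_mul hker (by omega)
    omega
  have hM2 : IsPGroup 2 M := by
    have h1 : IsPGroup 2 N := IsPGroup.of_card (n := 6) (by rw [hN]; norm_num)
    exact h1.comap_of_injective K.subtype K.subtype_injective
  have hr2 : IsPGroup 2 f'.range := by
    rw [MonoidHom.range_eq_map]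
    exact (hM2.of_equiv (Subgroup.topEquiv (G := M)).symm).map f'
  obtain ⟨k, hk⟩ := IsPGroup.iff_card.1 hr2
  have hk3 : 3 ≤ k := by
    by_contra hlt
    push Not at hlt
    have h1 : 2 ^ k ≤ 2 ^ 2 := Nat.pow_le_pow_right (by norm_num) (by omega)
    omega
  have h8 : 8 ∣ Nat.card f'.range := by
    rw [hk]
    exact pow_dvd_pow 2 hk3
  refine CpAutHSFive.not_eight (L := Spor.HS) ⟨MulEquiv.refl _⟩ ho (h8.trans (Subgroup.card_dvd_of_le ?_))
  rintro _ ⟨x, rfl⟩
  rw [mem_centralizer_singleton_iff]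
  show f x * f ⟨y, hyK⟩ = f ⟨y, hyK⟩ * f x
  rw [← map_mul, ← map_mul]
  congr 1
  exact Subtype.ext (hc _ x.2).symm

/-- **S1920, case B: no `HN`** -/
theorem row_HN {G : Type u} [Group G] [Finite G] (h : Cfsg.Spor.IsoHN G) {P N0 : Subgroup G} {z s : G}
    {ψ : ↥(normalizer (P : Set G)) →* Equiv.Perm (Fin 6)} (C : Cfsg.Agent.H13.Co3.CB P N0 z s ψ) : False := by
  obtain ⟨e⟩ := h
  have hz := orderOf_z C
  obtain ⟨y, hy, hyN⟩ := exists_five C
  have hez : orderOf (e z) = 2 := by rw [e.orderOf_eq, hz]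
  have key : ∀ w : Spor.HN, IsConj (e z) w → ∃ θ : G ≃* Spor.HN, θ z = w := by
    intro w hw
    obtain ⟨g, hg⟩ := isConj_iff.1 hw
    exact ⟨e.trans (MulAut.conj g), hg⟩
  rcases Classes.inv_class hez with h1 | h1
  · obtain ⟨θ, hθ⟩ := key _ h1
    have hN0 : ∀ n ∈ N0, θ n * Cfsg.Agent.HN.NormalH.ψ τ = Cfsg.Agent.HN.NormalH.ψ τ * θ n := by
      intro n hn
      rw [← hθ, ← map_mul, ← map_mul, ← C.s_sq, ← mul_assoc, C.s_cen n hn, mul_assoc, C.s_cen n hn, mul_assoc]
    let N1 : Subgroup H0 := (N0.map θ.toMonoidHom).comap Cfsg.Agent.HN.NormalH.ψ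
    have hmap : N1.map Cfsg.Agent.HN.NormalH.ψ = N0.map θ.toMonoidHom := by
      rw [map_comap_eq, inf_eq_right]
      rintro _ ⟨n, hn, rfl⟩
      obtain ⟨k, hk⟩ := emb.cent _ (hN0 n hn)
      exact ⟨k, hk⟩
    have hcard : Nat.card N1 = 64 := by
      rw [← Subgroup.card_map_of_injective (K := N1) emb.inj, hmap,
        Subgroup.card_map_of_injective (f := θ.toMonoidHom) θ.injective, C.card]
    have hyz : θ y * Cfsg.Agent.HN.NormalH.ψ τ = Cfsg.Agent.HN.NormalH.ψ τ * θ y := by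
      rw [← hθ, ← map_mul, ← map_mul, hyN z (C.PN C.zP)]
    obtain ⟨y1, hy1⟩ := emb.cent _ hyz
    refine not_h0 hcard (y := y1) ?_ fun n hn => ?_
    · rw [← orderOf_injective _ emb.inj, hy1, θ.orderOf_eq, hy]
    · obtain ⟨m, hm, hmn⟩ := hn
      apply emb.inj
      have hmn' : θ m = Cfsg.Agent.HN.NormalH.ψ n := hmn
      rw [map_mul, map_mul, hy1, ← hmn', ← map_mul, ← map_mul, hyN m hm]
  · obtain ⟨θ, hθ⟩ := key _ h1
    refine (conf C).not_char2_cent hyN ?_ ?_ (char_two_B θ hθ)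
    · rw [hy]; decide
    · rintro rfl
      rw [orderOf_one] at hy
      omega

end Cfsg.Agent.H748.Co3
end

-- part: H738/C3/SporFinal
section
/-!
# S1920, case B: the sporadic row, final form (helper738)
-/

set_option autoImplicit false

open Subgroup Equiv Cfsg

universe u

namespace Cfsg.Agent.H738.C3

open Cfsg.Agent.H13.Co3 Cfsg.Agent.H527.Co3

/-- **The row of the 26 sporadic groups** -/
theorem row_spor : Row.{u} @IsSporadicGroup := by
  refine row_spor_of ?_ ?_ ?_ ?_ ?_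
  · intro G _ _ _ h P N0 z s ψ C
    exact Cfsg.Agent.H444.Co1CB.row_Co1 h C
  · intro G _ _ _ h P N0 z s ψ C
    exact Cfsg.Agent.H282.Co3.row_Fi24p h C
  · intro G _ _ _ h P N0 z s ψ C
    exact Cfsg.Agent.H748.Co3.row_HN h C
  · intro G _ _ _ h P N0 z s ψ C
    exact Cfsg.Agent.H877.C3.row_B h C
  · intro G _ _ _ h P N0 z s ψ C
    exact Cfsg.Agent.H877.C3.row_M h C

end Cfsg.Agent.H738.C3
end

-- part: H282/Co3/Alt
section
/-!
# S1920, case B: alternating groups (helper282)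

`dead_alt` : no configuration `CB` in an alternating group.

`C = C_G(N0)`; every 2-subgroup of `C ∩ ker ψ` lies in `⟨s⟩`; elements of odd order of `C` fix the points moved by `N0`;
`Δ` (the points moved by `N0`) is one `N0`-orbit; `z` restricted to half of `Δ` is an even permutation inverting `s`, trivial
on `N0/⟨z⟩`, commuting with `E`.
-/

set_option autoImplicit false
set_option linter.unusedSectionVars false

open Subgroup

namespace Cfsg.Agent.H282.Co3

open Equiv Equiv.Perm Cfsg.Agent.H13.Co3 Cfsg.Agent.H282.LT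
open scoped commutatorElement

/-! ### restrictions of permutations -/

section Res

variable {α : Type*}

open Classical in
/-- the restriction of `σ` to the invariant set `O` -/
noncomputable def res (σ : Perm α) (O : Set α) (h : ∀ i, i ∈ O ↔ σ i ∈ O) : Perm α where
  toFun i := if i ∈ O then σ i else i
  invFun i := if i ∈ O then σ⁻¹ i else i
  left_inv i := by
    by_cases hi : i ∈ O
    · have h1 := (h i).1 hi
      simp only [if_pos hi, if_pos h1]
      exact σ.symm_apply_apply i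
    · simp only [if_neg hi]
  right_inv i := by
    by_cases hi : i ∈ O
    · have h0 : σ (σ⁻¹ i) = i := σ.apply_symm_apply i
      have h1 : σ⁻¹ i ∈ O := by rw [h, h0]; exact hi
      simp only [if_pos hi, if_pos h1]
      exact h0
    · simp only [if_neg hi]

theorem res_mem {σ : Perm α} {O : Set α} {h : ∀ i, i ∈ O ↔ σ i ∈ O} {i : α} (hi : i ∈ O) : res σ O h i = σ i :=
  if_pos hi

theorem res_not {σ : Perm α} {O : Set α} {h : ∀ i, i ∈ O ↔ σ i ∈ O} {i : α} (hi : i ∉ O) : res σ O h i = i :=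
  if_neg hi

end Res

variable {G : Type*} [Group G] [Finite G] {P N0 : Subgroup G} {z s : G}
  {ψ : ↥(normalizer (P : Set G)) →* Perm (Fin 6)} {n : ℕ} {φ : G →* Perm (Fin n)}

/-! ### generalities -/

theorem mem_zs (C : CB P N0 z s ψ) {b : G} (hb : b ∈ zpowers s) (h2 : b * b = 1) (h1 : b ≠ 1) : b = z := by
  obtain ⟨k, rfl⟩ := hb
  have h3 : s ^ (2 : ℤ) = z := by rw [zpow_two, C.s_sq]
  rcases Int.even_or_odd' k with ⟨m, rfl | rfl⟩
  · simp only [zpow_mul] at h1 h2 ⊢
    rw [h3] at h1 h2 ⊢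
    rcases Int.even_or_odd' m with ⟨l, rfl | rfl⟩
    · exfalso; apply h1
      rw [zpow_mul, zpow_two, C.z_sq, one_zpow]
    · rw [zpow_add, zpow_mul, zpow_two, C.z_sq, one_zpow, one_mul, zpow_one]
  · exfalso
    apply C.z_ne
    simp only at h2
    rw [← zpow_add] at h2
    have h4 : (s : G) ^ ((2 : ℤ) * (2 * m + 1)) = 1 := by
      rw [← h2]; congr 1; ring
    rw [zpow_mul, h3, zpow_add, zpow_mul, zpow_two, C.z_sq, one_zpow, one_mul, zpow_one] at h4
    exact h4

/-- `C_G(N0) ≤ H` -/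
theorem mem_H (C : CB P N0 z s ψ) {c : G} (hc : c ∈ centralizer (N0 : Set G)) : c ∈ normalizer (P : Set G) :=
  C.key fun m hm => Or.inl ((mem_centralizer_iff.1 hc) m hm).symm

/-- every 2-subgroup of `C_G(N0) ∩ ker ψ` lies in `⟨s⟩` -/
theorem two_le (C : CB P N0 z s ψ) {B : Subgroup G} (hB : IsPGroup 2 B) (hBC : B ≤ centralizer (N0 : Set G))
    (hψ : ∀ b (hb : b ∈ B), ψ ⟨b, mem_H C (hBC hb)⟩ = 1) : B ≤ zpowers s := by
  have h2 : IsPGroup 2 ↥(N0 ⊔ B : Subgroup G) :=
    IsPGroup.to_sup_of_normal_left' C.N_two hB (hBC.trans (centralizer_le_normalizer _))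
  have hH : N0 ⊔ B ≤ normalizer (P : Set G) := sup_le C.NH fun b hb => mem_H C (hBC hb)
  have hker : (N0 ⊔ B).subgroupOf (normalizer (P : Set G)) ≤ ψ.ker := by
    have h3 : N0 ⊔ B ≤ ψ.ker.map (normalizer (P : Set G)).subtype := by
      refine sup_le ?_ ?_
      · intro m hm
        exact ⟨⟨m, C.NH hm⟩, C.psi_N m hm, rfl⟩
      · intro b hb
        exact ⟨⟨b, mem_H C (hBC hb)⟩, hψ b hb, rfl⟩
    intro x hx
    obtain ⟨y, hy, hyx⟩ := h3 (mem_subgroupOf.1 hx)
    rwa [← Subtype.ext hyx]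
  have h3 : Nat.card ↥(N0 ⊔ B : Subgroup G) ∣ Nat.card ψ.ker := by
    rw [← Nat.card_congr (subgroupOfEquivOfLe hH).toEquiv]
    exact Subgroup.card_dvd_of_le hker
  obtain ⟨m, hm, hcard⟩ := C.ker_card
  rw [hcard] at h3
  obtain ⟨k, hk⟩ := IsPGroup.iff_card.1 h2
  have h4 : Nat.card ↥(N0 ⊔ B : Subgroup G) ∣ 64 := by
    rw [hk] at h3 ⊢
    exact Nat.Coprime.dvd_of_dvd_mul_right (Nat.Coprime.pow_left k ((Nat.coprime_two_left).2 hm)) h3
  have h5 : N0 = N0 ⊔ B := by
    apply Subgroup.eq_of_le_of_card_ge le_sup_left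
    rw [C.card]
    exact Nat.le_of_dvd (by norm_num) h4
  intro b hb
  have hbN : b ∈ N0 := by rw [h5]; exact mem_sup_right hb
  exact C.cen b hbN fun m hm => ((mem_centralizer_iff.1 (hBC hb)) m hm).symm

/-- `ψ` is even on `C_G(N0)` -/
theorem even_C (C : CB P N0 z s ψ) {c : G} (hc : c ∈ centralizer (N0 : Set G)) : sign (ψ ⟨c, mem_H C hc⟩) = 1 :=
  (C.inv_s ⟨c, mem_H C hc⟩ (centralizer_le_normalizer _ hc)).2 ((mem_centralizer_iff.1 hc) s C.sN).symm

/-- a normal 2-subgroup of `C_G(N0)` lies in `⟨s⟩` -/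
theorem normal_le (C : CB P N0 z s ψ) {B : Subgroup G} (hB : IsPGroup 2 B) (hBC : B ≤ centralizer (N0 : Set G))
    (hn : ∀ c ∈ centralizer (N0 : Set G), ∀ b ∈ B, c * b * c⁻¹ ∈ B) : B ≤ zpowers s := by
  apply two_le C hB hBC
  by_contra hcon
  push Not at hcon
  obtain ⟨b₀, hb₀, hne₀⟩ := hcon
  -- an element of `B` inducing an involution
  obtain ⟨b, hb, hne, hsq⟩ : ∃ b, ∃ hb : b ∈ B, ψ ⟨b, mem_H C (hBC hb)⟩ ≠ 1 ∧ ψ ⟨b, mem_H C (hBC hb)⟩ ^ 2 = 1 := by
    obtain ⟨k, hk⟩ := hB ⟨b₀, hb₀⟩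
    have hk' : b₀ ^ 2 ^ k = 1 := congrArg Subtype.val hk
    have hpow : ∀ j : ℕ, ψ ⟨b₀ ^ 2 ^ j, mem_H C (hBC (pow_mem hb₀ _))⟩ = ψ ⟨b₀, mem_H C (hBC hb₀)⟩ ^ 2 ^ j := by
      intro j
      rw [← map_pow]; rfl
    have hex : ∃ j : ℕ, ψ ⟨b₀, mem_H C (hBC hb₀)⟩ ^ 2 ^ j = 1 := by
      refine ⟨k, ?_⟩
      rw [← hpow]
      have : (⟨b₀ ^ 2 ^ k, mem_H C (hBC (pow_mem hb₀ _))⟩ : ↥(normalizer (P : Set G))) = 1 := Subtype.ext hk'
      rw [this, map_one]
    classical
    have hspec := Nat.find_spec hex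
    have h0 : Nat.find hex ≠ 0 := by
      intro h0
      rw [h0, pow_zero, pow_one] at hspec
      exact hne₀ hspec
    obtain ⟨j, hj⟩ := Nat.exists_eq_succ_of_ne_zero h0
    have hnot := Nat.find_min hex (m := j) (by omega)
    rw [hj] at hspec
    refine ⟨b₀ ^ 2 ^ j, pow_mem hb₀ _, ?_, ?_⟩
    · rw [hpow]; exact hnot
    · rw [hpow, ← pow_mul, ← pow_succ]; exact hspec
  set u := ψ ⟨b, mem_H C (hBC hb)⟩ with hu
  have huu : ∀ l, u (u l) = l := by
    intro l
    have h1 := congrArg (fun f : Perm (Fin 6) => f l) hsq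
    rw [pow_two] at h1
    exact h1
  obtain ⟨i, hi⟩ : ∃ i, u i ≠ i := by
    by_contra hc
    push Not at hc
    exact hne (Equiv.ext hc)
  have hsg : sign u = 1 := even_C C (hBC hb)
  obtain ⟨e, he⟩ : ∃ e, u e = e := by
    by_contra hc
    push Not at hc
    have h1 : ∀ k ∈ u.cycleType, k = 2 := by
      intro k hk
      have h2 := Equiv.Perm.two_le_of_mem_cycleType hk
      have h3 : k ∣ orderOf u := Equiv.Perm.dvd_of_mem_cycleType hk
      have h4 : orderOf u ∣ 2 := orderOf_dvd_of_pow_eq_one hsq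
      exact le_antisymm (Nat.le_of_dvd (by norm_num) (h3.trans h4)) h2
    have h5 := Multiset.eq_replicate_of_mem h1
    have h6 := Equiv.Perm.sum_cycleType u
    have h7 : u.support = Finset.univ := by
      ext l; rw [mem_support]; simp [hc l]
    rw [h5, Multiset.sum_replicate, smul_eq_mul, h7, Finset.card_univ, Fintype.card_fin] at h6
    have h8 : Multiset.card u.cycleType = 3 := by omega
    rw [sign_of_cycleType, h5, h8] at hsg
    revert hsg
    decide
  have hie : i ≠ e := by rintro rfl; exact hi he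
  have hje : u i ≠ e := by
    intro h5
    apply hie
    rw [← huu i, h5, he]
  obtain ⟨h₀, hh₀, hψh⟩ := C.even (cyc i (u i) e) (sign_cyc hi.symm hje)
  have hhC : (h₀ : G) ∈ centralizer (N0 : Set G) := by
    rw [mem_centralizer_iff]
    exact fun m hm => (hh₀ m hm).symm
  have hmem : ⁅b, (h₀ : G)⁆ ∈ B := by
    have h2 := hn _ hhC b⁻¹ (inv_mem hb)
    have e : ⁅b, (h₀ : G)⁆ = b * ((h₀ : G) * b⁻¹ * (h₀ : G)⁻¹) := by rw [commutatorElement_def]; group
    rw [e]; exact mul_mem hb h2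
  obtain ⟨k, hk⟩ := hB ⟨_, hmem⟩
  have hk' : ⁅b, (h₀ : G)⁆ ^ 2 ^ k = 1 := congrArg Subtype.val hk
  have hk2 : ⁅u, cyc i (u i) e⁆ ^ 2 ^ k = 1 := by
    rw [← hψh, hu, ← map_commutatorElement, ← map_pow]
    have : (⁅(⟨b, mem_H C (hBC hb)⟩ : ↥(normalizer (P : Set G))), h₀⁆) ^ 2 ^ k = 1 := Subtype.ext hk'
    rw [this, map_one]
  exact comm_fix (X := Fin 6) (cyc_1 hi.symm hie hje) (cyc_2 hi.symm hie hje) (cyc_3 hi.symm hie hje)
    rfl (huu i) he hie hk2

/-! ### orbits of `N0` -/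

/-- `G` is an alternating group, through `φ` -/
structure AltG (φ : G →* Perm (Fin n)) : Prop where
  inj : Function.Injective φ
  ev : ∀ g, sign (φ g) = 1
  lift : ∀ σ : Perm (Fin n), sign σ = 1 → ∃ g, φ g = σ

/-- same `N0`-orbit -/
def Rl (φ : G →* Perm (Fin n)) (N0 : Subgroup G) (i j : Fin n) : Prop := ∃ m ∈ N0, φ m i = j

/-- moved by `N0` -/
def Mv (φ : G →* Perm (Fin n)) (N0 : Subgroup G) (i : Fin n) : Prop := ∃ m ∈ N0, φ m i ≠ i

theorem Rl.refl (φ : G →* Perm (Fin n)) (N0 : Subgroup G) (i : Fin n) : Rl φ N0 i i := ⟨1, one_mem _, by simp⟩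

theorem Rl.symm {i j : Fin n} (h : Rl φ N0 i j) : Rl φ N0 j i := by
  obtain ⟨m, hm, rfl⟩ := h
  refine ⟨m⁻¹, inv_mem hm, ?_⟩
  rw [← Perm.mul_apply, ← map_mul, inv_mul_cancel, map_one]; rfl

theorem Rl.trans {i j k : Fin n} (h : Rl φ N0 i j) (h' : Rl φ N0 j k) : Rl φ N0 i k := by
  obtain ⟨m, hm, rfl⟩ := h
  obtain ⟨m', hm', rfl⟩ := h'
  exact ⟨m' * m, mul_mem hm' hm, by rw [map_mul]; rfl⟩

theorem Mv.of_rl {i j : Fin n} (hi : Mv φ N0 i) (h : Rl φ N0 i j) : Mv φ N0 j := by
  by_contra hc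
  unfold Mv at hc
  push Not at hc
  obtain ⟨m, hm, hmi⟩ := hi
  obtain ⟨k, hk, rfl⟩ := h
  have h1 := hc k⁻¹ (inv_mem hk)
  have h2 : φ k⁻¹ (φ k i) = i := by rw [← Perm.mul_apply, ← map_mul, inv_mul_cancel, map_one]; rfl
  rw [h2] at h1
  apply hmi
  have h3 := hc m hm
  rwa [← h1] at h3

theorem cap {c m : G} (hc : c ∈ centralizer (N0 : Set G)) (hm : m ∈ N0) (i : Fin n) : φ c (φ m i) = φ m (φ c i) := by
  rw [← Perm.mul_apply, ← Perm.mul_apply, ← map_mul, ← map_mul, (mem_centralizer_iff.1 hc) m hm]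

theorem conj_cent {c d : G} (hc : c ∈ centralizer (N0 : Set G)) (hd : d ∈ centralizer (N0 : Set G)) :
    d * c * d⁻¹ ∈ centralizer (N0 : Set G) := mul_mem (mul_mem hd hc) (inv_mem hd)

theorem pow4 (C : CB P N0 z s ψ) {m : G} (hm : m ∈ N0) : (m * m) * (m * m) = 1 := by
  rcases C.sq m hm with h | h
  · rw [h, one_mul]
  · rw [h, C.z_sq]

/-- the elements of `C_G(N0)` preserving all `N0`-orbits -/
def BB (φ : G →* Perm (Fin n)) (N0 : Subgroup G) : Subgroup G where
  carrier := {c | c ∈ centralizer (N0 : Set G) ∧ ∀ i, Rl φ N0 i (φ c i)}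
  mul_mem' := by
    rintro a b ⟨h1, h2⟩ ⟨h3, h4⟩
    refine ⟨mul_mem h1 h3, fun i => ?_⟩
    rw [map_mul]
    exact (h4 i).trans (h2 _)
  one_mem' := ⟨one_mem _, fun i => by rw [map_one]; exact Rl.refl φ N0 i⟩
  inv_mem' := by
    rintro a ⟨h1, h2⟩
    refine ⟨inv_mem h1, fun i => ?_⟩
    have h3 := h2 (φ a⁻¹ i)
    have h4 : φ a (φ a⁻¹ i) = i := by rw [← Perm.mul_apply, ← map_mul, mul_inv_cancel, map_one]; rfl
    rw [h4] at h3
    exact h3.symm

theorem BB_le (A : AltG φ) (C : CB P N0 z s ψ) : BB φ N0 ≤ zpowers s := by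
  refine normal_le C (B := BB φ N0) ?_ (fun b hb => ?_) ?_
  rotate_left
  · exact (show b ∈ centralizer (N0 : Set G) ∧ _ from hb).1
  · rintro c hc b ⟨hb1, hb2⟩
    refine ⟨conj_cent hb1 hc, fun i => ?_⟩
    obtain ⟨m, hm, hmi⟩ := hb2 (φ c⁻¹ i)
    refine ⟨m, hm, ?_⟩
    have h4 : φ c (φ c⁻¹ i) = i := by rw [← Perm.mul_apply, ← map_mul, mul_inv_cancel, map_one]; rfl
    rw [map_mul, map_mul, Perm.mul_apply, Perm.mul_apply, ← hmi, cap hc hm, h4]
  · rintro ⟨b, hb1, hb2⟩
    refine ⟨2, Subtype.ext ?_⟩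
    apply A.inj
    change φ (b ^ 2 ^ 2) = φ 1
    rw [map_one]
    have e : b ^ 2 ^ 2 = (b * b) * (b * b) := by
      rw [← pow_two, ← pow_two, ← pow_mul]; rfl
    rw [e]
    ext i
    congr 1
    obtain ⟨m, hm, hmi⟩ := hb2 i
    have h1 : ∀ k ∈ N0, φ b (φ k i) = φ k (φ m i) := fun k hk => by rw [cap hb1 hk, ← hmi]
    have h2 : φ (b * b) i = φ (m * m) i := by
      rw [map_mul, Perm.mul_apply, ← hmi, h1 m hm, map_mul]; rfl
    have h3 : φ (b * b) (φ (m * m) i) = φ ((m * m) * (m * m)) i := by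
      rw [cap (mul_mem hb1 hb1) (mul_mem hm hm), h2, map_mul (f := φ) (m * m) (m * m)]; rfl
    rw [map_mul, Perm.mul_apply, h2, h3, pow4 C hm, map_one]

/-- an involution commuting with `N0`, supported on the orbit of `y` -/
theorem exists_t (C : CB P N0 z s ψ) {y : Fin n} (hy : Mv φ N0 y) : ∃ t : Perm (Fin n), t * t = 1 ∧ t y ≠ y ∧
    (∀ m ∈ N0, t * φ m = φ m * t) ∧ (∀ i, ¬ Rl φ N0 y i → t i = i) ∧ ∀ i, Rl φ N0 i (t i) := by
  have hzN : z ∈ N0 := C.PN C.zP
  have hzc : ∀ m ∈ N0, z * m = m * z := fun m hm => (C.z_cen m (C.NH hm)).symm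
  -- the element `m₀` of `N0`
  obtain ⟨m₀, hm₀, hm1, hm2, hm3⟩ : ∃ m₀ ∈ N0, φ m₀ y ≠ y ∧ (∀ i, Rl φ N0 y i → φ (m₀ * m₀) i = i) ∧
      (∀ i, Rl φ N0 y i → ∀ m ∈ N0, φ (m₀ * m) i = φ (m * m₀) i) := by
    by_cases hz : φ z y = y
    · obtain ⟨m₀, hm₀, hm1⟩ := hy
      have hzi : ∀ i, Rl φ N0 y i → φ z i = i := by
        rintro i ⟨m, hm, rfl⟩
        rw [← Perm.mul_apply, ← map_mul, hzc m hm, map_mul, Perm.mul_apply, hz]
      refine ⟨m₀, hm₀, hm1, fun i hi => ?_, fun i hi m hm => ?_⟩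
      · rcases C.sq m₀ hm₀ with h | h
        · rw [h, map_one]; rfl
        · rw [h, hzi i hi]
      · rcases C.comm m₀ hm₀ m hm with h | h
        · rw [h]
        · rw [h, map_mul, Perm.mul_apply]
          apply hzi
          exact hi.trans ⟨m * m₀, mul_mem hm hm₀, rfl⟩
    · refine ⟨z, hzN, hz, fun i _ => ?_, fun i _ m hm => by rw [hzc m hm]⟩
      rw [C.z_sq, map_one]; rfl
  have hO : ∀ i, i ∈ {i | Rl φ N0 y i} ↔ φ m₀ i ∈ {i | Rl φ N0 y i} := fun i =>
    ⟨fun h => h.trans ⟨m₀, hm₀, rfl⟩, fun h => h.trans (Rl.symm ⟨m₀, hm₀, rfl⟩)⟩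
  refine ⟨res (φ m₀) {i | Rl φ N0 y i} hO, ?_, ?_, ?_, ?_, ?_⟩
  · ext i
    congr 1
    rw [Perm.mul_apply, Perm.one_apply]
    by_cases hi : Rl φ N0 y i
    · rw [res_mem (show i ∈ {i | Rl φ N0 y i} from hi), res_mem ((hO i).1 hi)]
      have := hm2 i hi
      rwa [map_mul] at this
    · rw [res_not (show i ∉ {i | Rl φ N0 y i} from hi), res_not (show i ∉ {i | Rl φ N0 y i} from hi)]
  · rw [res_mem (show y ∈ {i | Rl φ N0 y i} from Rl.refl _ _ _)]
    exact hm1
  · intro m hm
    ext i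
    congr 1
    rw [Perm.mul_apply, Perm.mul_apply]
    by_cases hi : Rl φ N0 y i
    · have hmi : Rl φ N0 y (φ m i) := hi.trans ⟨m, hm, rfl⟩
      rw [res_mem (show i ∈ {i | Rl φ N0 y i} from hi), res_mem (show φ m i ∈ {i | Rl φ N0 y i} from hmi)]
      have := hm3 i hi m hm
      rwa [map_mul, map_mul] at this
    · have hmi : ¬ Rl φ N0 y (φ m i) := fun h => hi (h.trans (Rl.symm ⟨m, hm, rfl⟩))
      rw [res_not (show i ∉ {i | Rl φ N0 y i} from hi), res_not (show φ m i ∉ {i | Rl φ N0 y i} from hmi)]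
  · intro i hi
    exact res_not (show i ∉ {i | Rl φ N0 y i} from hi)
  · intro i
    by_cases hi : Rl φ N0 y i
    · rw [res_mem (show i ∈ {i | Rl φ N0 y i} from hi)]
      exact ⟨m₀, hm₀, rfl⟩
    · rw [res_not (show i ∉ {i | Rl φ N0 y i} from hi)]
      exact Rl.refl _ _ _

/-- an even involution commuting with `N0` and preserving the orbits is `z` -/
theorem eq_z (A : AltG φ) (C : CB P N0 z s ψ) {u : Perm (Fin n)} (hs : sign u = 1) (hu : u * u = 1) {y : Fin n}
    (hy : u y ≠ y) (hc : ∀ m ∈ N0, u * φ m = φ m * u) (hr : ∀ i, Rl φ N0 i (u i)) : φ z = u := by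
  obtain ⟨b, hb⟩ := A.lift u hs
  have hbB : b ∈ BB φ N0 := by
    refine ⟨?_, fun i => by rw [hb]; exact hr i⟩
    rw [mem_centralizer_iff]
    intro m hm
    apply A.inj
    rw [map_mul, map_mul, hb, hc m hm]
  have h1 : b * b = 1 := by apply A.inj; rw [map_mul, hb, hu, map_one]
  have h2 : b ≠ 1 := by
    rintro rfl
    rw [map_one] at hb
    rw [← hb] at hy
    exact hy rfl
  rw [← hb, mem_zs C (BB_le A C hbB) h1 h2]

theorem pow_rl {c : G} (hc : c ∈ centralizer (N0 : Set G)) {m : G} (hm : m ∈ N0) {y : Fin n} (h : φ c y = φ m y)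
    (k : ℕ) : φ (c ^ k) y = φ (m ^ k) y := by
  induction k with
  | zero => simp only [_root_.pow_zero, _root_.map_one, _root_.Equiv.Perm.coe_one, _root_.id_eq]
  | succ k ih =>
    rw [pow_succ', map_mul, Perm.mul_apply, ih, cap hc (pow_mem hm k), h, pow_succ, map_mul]; rfl

theorem odd_pow {x : G} (hx : Odd (orderOf x)) : ∃ k : ℕ, (x ^ 2) ^ k = x := by
  obtain ⟨k, hk⟩ := hx
  refine ⟨k + 1, ?_⟩
  rw [← pow_mul, show 2 * (k + 1) = orderOf x + 1 by omega, pow_succ, pow_orderOf_eq_one, one_mul]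

/-- elements of odd order of `C_G(N0)` fix the points moved by `N0` -/
theorem odd_fix (A : AltG φ) (C : CB P N0 z s ψ) {x : G} (hx : x ∈ centralizer (N0 : Set G))
    (hodd : Odd (orderOf x)) {y : Fin n} (hy : Mv φ N0 y) : φ x y = y := by
  have hR : Rl φ N0 y (φ x y) := by
    by_contra h1
    have h2 : ¬ Rl φ N0 y (φ (x * x) y) := by
      rintro ⟨m, hm, hmy⟩
      apply h1
      obtain ⟨k, hk⟩ := odd_pow hodd
      have h3 := pow_rl (mul_mem hx hx) hm hmy.symm k
      rw [← pow_two, hk] at h3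
      exact ⟨m ^ k, pow_mem hm k, h3.symm⟩
    obtain ⟨t, ht1, ht2, ht3, ht4, ht5⟩ := exists_t C hy
    have key : ∀ c ∈ centralizer (N0 : Set G), ¬ Rl φ N0 y (φ c y) → φ z = t * (φ c * t * (φ c)⁻¹) := by
      intro c hc hcy
      have h0 : ∀ i, φ c ((φ c)⁻¹ i) = i := fun i => by rw [← Perm.mul_apply, mul_inv_cancel]; rfl
      have h0' : ∀ i, (φ c)⁻¹ i = φ c⁻¹ i := fun i => by rw [map_inv]
      have hdis : ∀ i, t i = i ∨ (φ c * t * (φ c)⁻¹) i = i := by
        intro i
        by_contra hcon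
        rw [not_or] at hcon
        have r1 : Rl φ N0 y i := by
          by_contra h; exact hcon.1 (ht4 i h)
        have r2 : Rl φ N0 y ((φ c)⁻¹ i) := by
          by_contra h
          apply hcon.2
          rw [Perm.mul_apply, Perm.mul_apply, ht4 _ h, h0]
        apply hcy
        obtain ⟨m, hm, hmi⟩ := r2
        have h5 : φ m (φ c y) = i := by rw [← cap hc hm, hmi, h0]
        exact r1.trans (Rl.symm ⟨m, hm, h5⟩)
      have hcomm : t * (φ c * t * (φ c)⁻¹) = (φ c * t * (φ c)⁻¹) * t :=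
        (show Equiv.Perm.Disjoint t (φ c * t * (φ c)⁻¹) from hdis).commute.eq
      refine eq_z A C (y := y) ?_ ?_ ?_ ?_ ?_
      · simp only [map_mul, map_inv]
        rcases Int.units_eq_one_or (sign t) with h5 | h5 <;> simp [h5]
      · calc t * (φ c * t * (φ c)⁻¹) * (t * (φ c * t * (φ c)⁻¹))
            = t * ((φ c * t * (φ c)⁻¹) * t) * (φ c * t * (φ c)⁻¹) := by group
          _ = t * (t * (φ c * t * (φ c)⁻¹)) * (φ c * t * (φ c)⁻¹) := by rw [← hcomm]
          _ = (t * t) * (φ c * (t * t) * (φ c)⁻¹) := by group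
          _ = 1 := by rw [ht1]; group
      · have h5 : (φ c * t * (φ c)⁻¹) y = y := by
          rcases hdis y with h | h
          · exact absurd h ht2
          · exact h
        rw [Perm.mul_apply, h5]
        exact ht2
      · intro m hm
        have h5 : φ c * φ m = φ m * φ c := by
          rw [← map_mul, ← map_mul, (mem_centralizer_iff.1 hc) m hm]
        have h6 : (φ c)⁻¹ * φ m = φ m * (φ c)⁻¹ := by
          rw [inv_mul_eq_iff_eq_mul, ← mul_assoc, h5, mul_inv_cancel_right]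
        calc t * (φ c * t * (φ c)⁻¹) * φ m = t * φ c * t * ((φ c)⁻¹ * φ m) := by group
          _ = t * φ c * (t * φ m) * (φ c)⁻¹ := by rw [h6]; group
          _ = t * (φ c * φ m) * t * (φ c)⁻¹ := by rw [ht3 m hm]; group
          _ = (t * φ m) * φ c * t * (φ c)⁻¹ := by rw [h5]; group
          _ = φ m * (t * (φ c * t * (φ c)⁻¹)) := by rw [ht3 m hm]; group
      · intro i
        have h5 : Rl φ N0 i ((φ c * t * (φ c)⁻¹) i) := by
          obtain ⟨m, hm, hmi⟩ := ht5 ((φ c)⁻¹ i)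
          refine ⟨m, hm, ?_⟩
          rw [Perm.mul_apply, Perm.mul_apply, ← hmi, cap hc hm, h0]
        rw [Perm.mul_apply]
        exact h5.trans (ht5 _)
    have k1 := key x hx h1
    have k2 := key (x * x) (mul_mem hx hx) h2
    rw [k1] at k2
    have k3 := mul_left_cancel k2
    have k4 := congrArg (fun f : Perm (Fin n) => f (φ x y)) k3
    have h0 : (φ x)⁻¹ (φ x y) = y := by rw [← Perm.mul_apply, inv_mul_cancel]; rfl
    simp only [Perm.mul_apply] at k4
    rw [h0] at k4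
    have h5 : (φ (x * x))⁻¹ (φ x y) = φ x⁻¹ y := by
      rw [← map_inv, ← Perm.mul_apply, ← map_mul]
      congr 2; group
    have hneg : ¬ Rl φ N0 y (φ x⁻¹ y) := by
      intro h6
      apply h1
      obtain ⟨m, hm, hmy⟩ := h6
      have h7 : φ m (φ x y) = y := by
        rw [← cap hx hm, hmy, ← Perm.mul_apply, ← map_mul, mul_inv_cancel, map_one]; rfl
      exact Rl.symm ⟨m, hm, h7⟩
    rw [h5, ht4 (φ x⁻¹ y) hneg] at k4
    have h6 : φ (x * x) (φ x⁻¹ y) = φ x y := by
      rw [← Perm.mul_apply, ← map_mul]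
      congr 2; group
    rw [h6] at k4
    exact ht2 ((φ x).injective k4)
  obtain ⟨m, hm, hmy⟩ := hR
  obtain ⟨k, hk⟩ := odd_pow hodd
  have h1 : φ (x ^ 4) y = y := by
    rw [pow_rl hx hm hmy.symm 4]
    have : m ^ 4 = 1 := by rw [← pow4 C hm, ← pow_two, ← pow_two, ← pow_mul]
    rw [this, map_one]; rfl
  -- `x = (x ^ 4) ^ j`
  have h2 : ∀ j : ℕ, φ ((x ^ 4) ^ j) y = y := by
    intro j
    induction j with
    | zero => simp
    | succ j ih => rw [pow_succ, map_mul, Perm.mul_apply, h1, ih]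
  have h3 : ((x ^ 4) ^ (k * k)) = x := by
    have e : (x ^ 4) ^ (k * k) = (((x ^ 2) ^ k) ^ 2) ^ k := by
      rw [← pow_mul, ← pow_mul, ← pow_mul, ← pow_mul]; congr 1; ring
    rw [e, hk, hk]
  rw [← h3]
  exact h2 _

end Cfsg.Agent.H282.Co3
end

-- part: H282/Co3/Alt2
section
/-!
# S1920, case B: alternating groups, end (helper282)
-/

set_option autoImplicit false
set_option linter.unusedSectionVars false

open Subgroup

namespace Cfsg.Agent.H282.Co3

open Equiv Equiv.Perm Cfsg.Agent.H13.Co3 Cfsg.Agent.H282.LT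

variable {G : Type*} [Group G] [Finite G] {P N0 : Subgroup G} {z s : G}
  {ψ : ↥(normalizer (P : Set G)) →* Perm (Fin 6)} {n : ℕ} {φ : G →* Perm (Fin n)}

/-- the elements fixing the points moved by `N0` -/
def AF (φ : G →* Perm (Fin n)) (N0 : Subgroup G) : Subgroup G where
  carrier := {g | ∀ i, Mv φ N0 i → φ g i = i}
  mul_mem' := by
    intro a b ha hb i hi
    rw [map_mul, Perm.mul_apply, hb i hi, ha i hi]
  one_mem' := fun i _ => by rw [map_one]; rfl
  inv_mem' := by
    intro a ha i hi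
    have h := ha i hi
    have h2 : φ a⁻¹ (φ a i) = i := by rw [← Perm.mul_apply, ← map_mul, inv_mul_cancel, map_one]; rfl
    rwa [h] at h2

theorem AF_cent (A : AltG φ) {g : G} (hg : g ∈ AF φ N0) : g ∈ centralizer (N0 : Set G) := by
  rw [mem_centralizer_iff]
  intro m hm
  apply A.inj
  rw [map_mul, map_mul]
  refine (show Equiv.Perm.Disjoint (φ m) (φ g) from fun i => ?_).commute.eq
  by_cases hi : φ m i = i
  · exact Or.inl hi
  · exact Or.inr (hg i ⟨m, hm, hi⟩)

theorem AF_even (A : AltG φ) (C : CB P N0 z s ψ) {π : Perm (Fin 6)} (hπ : sign π = 1) :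
    ∃ g, ∃ hg : g ∈ AF φ N0, ψ ⟨g, mem_H C (AF_cent A hg)⟩ = π := by
  have h1 : alternatingGroup (Fin 6) ≤ ((AF φ N0).subgroupOf (normalizer (P : Set G))).map ψ := by
    rw [← closure_three_cycles_eq_alternating, closure_le]
    intro c hc
    obtain ⟨h, hh, hψ⟩ := C.even c hc.sign
    have hhC : (h : G) ∈ centralizer (N0 : Set G) := by
      rw [mem_centralizer_iff]
      exact fun m hm => (hh m hm).symm
    obtain ⟨k, m, hm, hkm⟩ := Nat.exists_eq_two_pow_mul_odd (n := orderOf (h : G)) (orderOf_pos _).ne'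
    have hx : Odd (orderOf ((h : G) ^ 4 ^ k)) := by
      have h2 : orderOf ((h : G) ^ 4 ^ k) ∣ m := by
        apply orderOf_dvd_of_pow_eq_one
        rw [← pow_mul]
        have h3 : 4 ^ k * m = orderOf (h : G) * 2 ^ k := by
          rw [hkm, show (4 : ℕ) = 2 * 2 by rfl, mul_pow]; ring
        rw [h3, pow_mul, pow_orderOf_eq_one, one_pow]
      exact Odd.of_dvd_nat hm h2
    refine ⟨h ^ 4 ^ k, ?_, ?_⟩
    · rw [SetLike.mem_coe, mem_subgroupOf]
      intro i hi
      exact odd_fix A C (pow_mem hhC _) hx hi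
    · rw [map_pow, hψ]
      have h3 : c ^ 3 = 1 := by rw [← hc.orderOf]; exact pow_orderOf_eq_one c
      have h4 : 4 ^ k = 3 * (4 ^ k / 3) + 1 := by
        have : 4 ^ k % 3 = 1 := by rw [Nat.pow_mod]; norm_num
        omega
      rw [h4, pow_succ, pow_mul, h3, one_pow, one_mul]
  obtain ⟨g, hg, hgπ⟩ := h1 (mem_alternatingGroup.2 hπ)
  exact ⟨g, mem_subgroupOf.1 hg, hgπ⟩

theorem not_mv_apply {m : G} (hm : m ∈ N0) {i : Fin n} (h : ¬ Mv φ N0 i) : φ m i = i := by
  by_contra hc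
  exact h ⟨m, hm, hc⟩

theorem exists_ab (A : AltG φ) (C : CB P N0 z s ψ) : ∃ a b, ¬ Mv φ N0 a ∧ ¬ Mv φ N0 b ∧ a ≠ b := by
  obtain ⟨g, hg, hgπ⟩ := AF_even A C (π := cyc 0 1 2) (sign_cyc (by decide) (by decide))
  have hg1 : ∃ a, φ g a ≠ a := by
    by_contra hcon
    push Not at hcon
    have h1 : g = 1 := A.inj (by rw [map_one]; exact Equiv.ext hcon)
    have h2 : (⟨g, mem_H C (AF_cent A hg)⟩ : ↥(normalizer (P : Set G))) = 1 := Subtype.ext h1
    rw [h2, map_one] at hgπ
    have h3 : (1 : Perm (Fin 6)) 0 = cyc 0 1 2 0 := congrArg (fun f : Perm (Fin 6) => f 0) hgπ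
    rw [cyc_1 (by decide) (by decide) (by decide)] at h3
    exact absurd h3 (by decide)
  obtain ⟨a, ha⟩ := hg1
  have haF : ¬ Mv φ N0 a := fun h => ha (hg a h)
  refine ⟨φ g a, a, ?_, haF, ha⟩
  intro h
  apply ha
  exact (φ g).injective (hg _ h)

theorem even_of_comm (A : AltG φ) (C : CB P N0 z s ψ) {d : Perm (Fin n)} (hd : ∀ i, ¬ Mv φ N0 i → d i = i)
    (hc : ∀ m ∈ N0, d * φ m = φ m * d) : sign d = 1 := by
  by_contra hodd
  have hodd' : sign d = -1 := (Int.units_eq_one_or _).resolve_left hodd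
  obtain ⟨a, b, ha, hb, hab⟩ := exists_ab A C
  have hτ : ∀ i, Mv φ N0 i → swap a b i = i := fun i hi =>
    swap_apply_of_ne_of_ne (fun h => ha (h ▸ hi)) (fun h => hb (h ▸ hi))
  have hτc : ∀ m ∈ N0, swap a b * φ m = φ m * swap a b := by
    intro m hm
    refine (show Equiv.Perm.Disjoint (swap a b) (φ m) from fun i => ?_).commute.eq
    by_cases hi : Mv φ N0 i
    · exact Or.inl (hτ i hi)
    · exact Or.inr (not_mv_apply hm hi)
  obtain ⟨γ, hγ⟩ := A.lift (d * swap a b) (by rw [map_mul, hodd', sign_swap hab]; rfl)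
  have hγC : γ ∈ centralizer (N0 : Set G) := by
    rw [mem_centralizer_iff]
    intro m hm
    apply A.inj
    rw [map_mul, map_mul, hγ, mul_assoc, hτc m hm, ← mul_assoc, ← mul_assoc, hc m hm]
  obtain ⟨e, he, heψ⟩ := AF_even A C (even_C C hγC)
  have heC := AF_cent A he
  -- the difference
  set y := γ * e⁻¹ with hy
  have hyC : y ∈ centralizer (N0 : Set G) := mul_mem hγC (inv_mem heC)
  have hyψ : ψ ⟨y, mem_H C hyC⟩ = 1 := by
    have h1 : (⟨y, mem_H C hyC⟩ : ↥(normalizer (P : Set G))) = ⟨γ, mem_H C hγC⟩ * ⟨e, mem_H C heC⟩⁻¹ := rfl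
    rw [h1, map_mul, map_inv, heψ, mul_inv_cancel]
  set ρ : Perm (Fin n) := swap a b * (φ e)⁻¹ with hρ
  have hφy : φ y = d * ρ := by rw [hy, map_mul, map_inv, hγ, hρ, mul_assoc]
  have hρΔ : ∀ i, Mv φ N0 i → ρ i = i := by
    intro i hi
    rw [hρ, Perm.mul_apply]
    have h1 : (φ e)⁻¹ i = i := by
      have h2 := inv_mem he i hi
      rwa [map_inv] at h2
    rw [h1, hτ i hi]
  have hρd : Commute d ρ := by
    refine (show Equiv.Perm.Disjoint d ρ from fun i => ?_).commute
    by_cases hi : Mv φ N0 i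
    · exact Or.inr (hρΔ i hi)
    · exact Or.inl (hd i hi)
  obtain ⟨k, m, hm, hkm⟩ := Nat.exists_eq_two_pow_mul_odd (n := orderOf y) (orderOf_pos _).ne'
  have hB : zpowers (y ^ m) ≤ zpowers s := by
    refine two_le C ?_ ?_ ?_
    · have h1 : orderOf (y ^ m) ∣ 2 ^ k := by
        apply orderOf_dvd_of_pow_eq_one
        rw [← pow_mul, mul_comm m, ← hkm, pow_orderOf_eq_one]
      obtain ⟨l, -, hl⟩ := (Nat.dvd_prime_pow Nat.prime_two).1 h1
      exact IsPGroup.of_card (n := l) (by rw [Nat.card_zpowers, hl])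
    · rw [zpowers_le]; exact pow_mem hyC m
    · rintro _ ⟨j, rfl⟩
      have h1 : ∀ hh, ψ ⟨(y ^ m) ^ j, hh⟩ = (ψ ⟨y, mem_H C hyC⟩ ^ m) ^ j := by
        intro hh
        rw [← map_pow, ← map_zpow]; rfl
      have h2 := h1 (mem_H C (zpow_mem (pow_mem hyC m) j))
      rw [hyψ, one_pow, one_zpow] at h2
      exact h2
  have hyN : y ^ m ∈ N0 := (zpowers_le.2 C.sN) (hB (mem_zpowers _))
  have hρm : ρ ^ m = 1 := by
    ext i
    congr 1
    rw [Perm.one_apply]
    by_cases hi : Mv φ N0 i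
    · clear hkm hB hyN hm
      induction m with
      | zero => rfl
      | succ m ih => rw [pow_succ, Perm.mul_apply, hρΔ i hi, ih]
    · have h1 := not_mv_apply hyN hi
      rw [map_pow, hφy, hρd.mul_pow, Perm.mul_apply] at h1
      have h2 : (d ^ m) i = i := by
        clear hkm hB hyN hm h1
        induction m with
        | zero => rfl
        | succ m ih => rw [pow_succ, Perm.mul_apply, hd i hi, ih]
      exact (d ^ m).injective (h1.trans h2.symm)
  have h1 := congrArg sign hρm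
  rw [map_pow, hρ, map_mul, map_inv, A.ev, sign_swap hab, inv_one, mul_one, hm.neg_one_pow, map_one] at h1
  exact absurd h1 (by decide)

/-- all moved points are in one orbit -/
theorem one_orbit (A : AltG φ) (C : CB P N0 z s ψ) {i j : Fin n} (hi : Mv φ N0 i) (hj : Mv φ N0 j) :
    Rl φ N0 i j := by
  by_contra hcon
  have key : ∀ y, Mv φ N0 y → ∃ t : Perm (Fin n), φ z = t ∧ t y ≠ y ∧ ∀ l, ¬ Rl φ N0 y l → t l = l := by
    intro y hy
    obtain ⟨t, ht1, ht2, ht3, ht4, ht5⟩ := exists_t C hy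
    refine ⟨t, eq_z A C (even_of_comm A C ?_ ht3) ht1 ht2 ht3 ht5, ht2, ht4⟩
    intro l hl
    apply ht4
    intro h
    exact hl (hy.of_rl h)
  obtain ⟨t, h1, h2, h3⟩ := key i hi
  obtain ⟨t', h1', h2', h3'⟩ := key j hj
  have h4 := h3' i (fun h => hcon h.symm)
  rw [← h1', h1] at h4
  exact h2 h4

/-- maximal subgroups avoiding an element -/
theorem exists_K (C : CB P N0 z s ψ) {L D : Subgroup G} (hL : L ≤ N0) (hDL : D ≤ L) (hzL : z ∈ L) {u : G}
    (huL : u ∈ L) (hD : ∀ d ∈ D, u ≠ d ∧ u ≠ z * d) : ∃ K : Subgroup G, K ≤ L ∧ D ≤ K ∧ z ∈ K ∧ u ∉ K ∧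
      ∀ m ∈ L, m ∈ K ∨ u * m ∈ K := by
  have hzc : ∀ m ∈ N0, z * m = m * z := fun m hm => (C.z_cen m (C.NH hm)).symm
  have hzz := C.z_sq
  -- the extension of a subgroup containing `z`
  have ext : ∀ K : Subgroup G, K ≤ N0 → z ∈ K → ∀ v ∈ N0, ∃ K' : Subgroup G, K ≤ K' ∧ v ∈ K' ∧
      ∀ g ∈ K', g ∈ K ∨ v * g ∈ K := by
    intro K hK hzK v hv
    have hcj : ∀ g ∈ K, v * g * v⁻¹ ∈ K := by
      intro g hg
      rcases C.comm v hv g (hK hg) with h | h
      · rw [h, mul_inv_cancel_right]; exact hg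
      · rw [h, show z * (g * v) * v⁻¹ = z * g by group]; exact mul_mem hzK hg
    have hvv : v * v ∈ K := by
      rcases C.sq v hv with h | h
      · rw [h]; exact one_mem _
      · rw [h]; exact hzK
    have hvm : ∀ g, v * g ∈ K → g * v ∈ K := by
      intro g hg
      have h1 := hcj _ hg
      have h2 : g * v = (v * v)⁻¹ * (v * (v * g) * v⁻¹) * (v * v) := by group
      rw [h2]
      exact mul_mem (mul_mem (inv_mem hvv) h1) hvv
    refine ⟨{ carrier := {g | g ∈ K ∨ v * g ∈ K}, mul_mem' := ?_, one_mem' := Or.inl (one_mem _), inv_mem' := ?_ },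
      fun g hg => Or.inl hg, Or.inr hvv, fun g hg => hg⟩
    · rintro g h (hg | hg) (hh | hh)
      · exact Or.inl (mul_mem hg hh)
      · right
        have h1 : v * (g * h) = (v * g * v⁻¹) * (v * h) := by group
        rw [h1]; exact mul_mem (hcj g hg) hh
      · right
        rw [← mul_assoc]; exact mul_mem hg hh
      · left
        have h1 : g * h = (g * v) * (v * v)⁻¹ * (v * h) := by group
        rw [h1]; exact mul_mem (mul_mem (hvm g hg) (inv_mem hvv)) hh
    · rintro g (hg | hg)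
      · exact Or.inl (inv_mem hg)
      · right
        have h1 : v * g⁻¹ = (v * v) * (g * v)⁻¹ := by group
        change v * g⁻¹ ∈ K
        rw [h1]
        exact mul_mem hvv (inv_mem (hvm g hg))
  -- the first subgroup
  have hDz : ∀ g, z * g ∈ D → g ∈ L := by
    intro g hg
    have h1 : g = z * (z * g) := by rw [← mul_assoc, hzz, one_mul]
    rw [h1]; exact mul_mem hzL (hDL hg)
  let D1 : Subgroup G := {
    carrier := {g | g ∈ D ∨ z * g ∈ D}
    mul_mem' := by
      rintro g h (hg | hg) (hh | hh)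
      · exact Or.inl (mul_mem hg hh)
      · right
        have h1 : z * (g * h) = g * (z * h) := by
          rw [← mul_assoc, hzc g (hL (hDL hg)), mul_assoc]
        rw [h1]; exact mul_mem hg hh
      · right
        rw [← mul_assoc]; exact mul_mem hg hh
      · left
        have h1 : g * h = (z * g) * (z * h) := by
          rw [hzc g (hL (hDz g hg)), mul_assoc, ← mul_assoc z z, hzz, one_mul]
        rw [h1]; exact mul_mem hg hh
    one_mem' := Or.inl (one_mem _)
    inv_mem' := by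
      rintro g (hg | hg)
      · exact Or.inl (inv_mem hg)
      · right
        have h1 : z * g⁻¹ = (z * g)⁻¹ := by
          have h2 : z⁻¹ = z := inv_eq_of_mul_eq_one_right hzz
          rw [mul_inv_rev, h2, hzc _ (inv_mem (hL (hDz g hg)))]
        change z * g⁻¹ ∈ D
        rw [h1]
        exact inv_mem hg }
  let S : Set (Subgroup G) := {K | K ≤ L ∧ D ≤ K ∧ z ∈ K ∧ u ∉ K}
  have hne : S.Nonempty := by
    refine ⟨D1, ?_, fun g hg => Or.inl hg, Or.inr (by rw [hzz]; exact one_mem _), ?_⟩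
    · rintro g (hg | hg)
      · exact hDL hg
      · exact hDz g hg
    · rintro (h | h)
      · exact (hD u h).1 rfl
      · exact (hD _ h).2 (by rw [← mul_assoc, hzz, one_mul])
  obtain ⟨K, hK, hmax⟩ := (Set.toFinite S).exists_maximal hne
  obtain ⟨hK1, hK2, hK3, hK4⟩ : K ≤ L ∧ D ≤ K ∧ z ∈ K ∧ u ∉ K := hK
  refine ⟨K, hK1, hK2, hK3, hK4, fun m hm => ?_⟩
  obtain ⟨K', h1, h2, h3⟩ := ext K (hK1.trans hL) hK3 m (hL hm)
  by_cases hu : u ∈ K'
  · right
    rcases h3 u hu with h4 | h4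
    · exact absurd h4 hK4
    · rcases C.comm u (hL huL) m (hL hm) with h5 | h5
      · rw [h5]; exact h4
      · rw [h5]; exact mul_mem hK3 h4
  · left
    have h4 : K' ≤ K := by
      apply hmax (show K' ∈ S from ⟨?_, hK2.trans h1, h1 hK3, hu⟩) h1
      intro g hg
      rcases h3 g hg with h5 | h5
      · exact hK1 h5
      · have h6 : g = m⁻¹ * (m * g) := by group
        rw [h6]; exact mul_mem (inv_mem hm) (hK1 h5)
    exact h4 h2

/-- **no alternating group in case B** (permutation form) -/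
theorem altG_false (A : AltG φ) (C : CB P N0 z s ψ) : False := by
  have hzN : z ∈ N0 := C.PN C.zP
  have hzc : ∀ m ∈ N0, z * m = m * z := fun m hm => (C.z_cen m (C.NH hm)).symm
  have hzz := C.z_sq
  -- the base point
  obtain ⟨x, hx⟩ : ∃ x, φ z x ≠ x := by
    by_contra hcon
    push Not at hcon
    exact C.z_ne (A.inj (by rw [map_one]; exact Equiv.ext hcon))
  have hxM : Mv φ N0 x := ⟨z, hzN, hx⟩
  -- the stabiliser
  let D : Subgroup G := {
    carrier := {g | g ∈ N0 ∧ φ g x = x}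
    mul_mem' := by
      rintro g h ⟨h1, h2⟩ ⟨h3, h4⟩
      exact ⟨mul_mem h1 h3, by rw [map_mul, Perm.mul_apply, h4, h2]⟩
    one_mem' := ⟨one_mem _, by rw [map_one]; rfl⟩
    inv_mem' := by
      rintro g ⟨h1, h2⟩
      refine ⟨inv_mem h1, ?_⟩
      have h3 : φ g⁻¹ (φ g x) = x := by rw [← Perm.mul_apply, ← map_mul, inv_mul_cancel, map_one]; rfl
      rwa [h2] at h3 }
  have hDN : D ≤ N0 := fun g hg => hg.1
  have hzD : z ∉ D := fun h => hx h.2
  have hDsq : ∀ d ∈ D, d * d = 1 := by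
    intro d hd
    rcases C.sq d hd.1 with h | h
    · exact h
    · exact absurd (by rw [← h]; exact mul_mem hd hd) hzD
  have hDab : ∀ d ∈ D, ∀ e ∈ D, d * e = e * d := by
    intro d hd e he
    rcases C.comm d hd.1 e he.1 with h | h
    · exact h
    · exfalso
      apply hzD
      have h1 : z = (d * e) * (e * d)⁻¹ := by rw [h]; group
      rw [h1]; exact mul_mem (mul_mem hd he) (inv_mem (mul_mem he hd))
  obtain ⟨K, hKN, hDK, hzK, hsK, hK⟩ := exists_K C (L := N0) (D := D) le_rfl hDN hzN (u := s) C.sN (by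
    intro d hd
    have h1 := hDsq d hd
    constructor
    · rintro rfl
      exact C.z_ne (C.s_sq.symm.trans h1)
    · intro h
      apply C.z_ne
      rw [← C.s_sq, h, mul_assoc, ← mul_assoc d z d, ← hzc d hd.1, mul_assoc z d d, h1, mul_one, hzz])
  -- `K` is bigger than `D ⟨z⟩`
  obtain ⟨u, huK, huD⟩ : ∃ u ∈ K, ∀ d ∈ D, u ≠ d ∧ u ≠ z * d := by
    by_contra hcon
    push Not at hcon
    -- `K` is abelian
    have h1 : ∀ k ∈ K, k ∈ D ∨ z * k ∈ D := by
      intro k hk
      obtain ⟨d, hd, h⟩ := hcon k hk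
      by_cases hkd : k = d
      · left; rw [hkd]; exact hd
      · right; rw [h hkd, ← mul_assoc, hzz, one_mul]; exact hd
    have h2 : ∀ k ∈ K, ∀ l ∈ D, k * l = l * k := by
      intro k hk l hl
      rcases h1 k hk with h | h
      · exact hDab k h l hl
      · have h3 := hDab _ h l hl
        have h4 : z * (k * l) = z * (l * k) := by
          rw [← mul_assoc, h3, ← mul_assoc, ← mul_assoc, hzc l (hDN hl)]
        exact mul_left_cancel h4
    have h3 : ∀ k ∈ K, ∀ l ∈ K, k * l = l * k := by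
      intro k hk l hl
      rcases h1 l hl with h | h
      · exact h2 k hk l h
      · have h3 := h2 k hk _ h
        have h4 : z * (k * l) = z * (l * k) := by
          rw [← mul_assoc z l k, ← h3, ← mul_assoc, ← mul_assoc, hzc k (hKN hk)]
        exact mul_left_cancel h4
    have h4 : ∀ k ∈ K, ∀ l ∈ N0, k * l = l * k := by
      intro k hk l hl
      rcases hK l hl with h | h
      · exact h3 k hk l h
      · have h5 := h3 k hk _ h
        have h6 : s * (k * l) = s * (l * k) := by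
          rw [← mul_assoc s l k, ← h5, ← mul_assoc, ← mul_assoc, C.s_cen k (hKN hk)]
        exact mul_left_cancel h6
    have h5 : N0 ≤ zpowers s := by
      intro k hk
      apply C.cen k hk
      intro l hl
      rcases hK k hk with h | h
      · exact h4 k h l hl
      · have h6 := h4 _ h l hl
        have h7 : s * (k * l) = s * (l * k) := by
          rw [← mul_assoc, h6, ← mul_assoc, ← mul_assoc, C.s_cen l hl]
        exact mul_left_cancel h7
    have h6 := Subgroup.card_dvd_of_le h5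
    rw [C.card, Nat.card_zpowers] at h6
    have h7 : orderOf s ∣ 4 := by
      apply orderOf_dvd_of_pow_eq_one
      rw [show 4 = 2 * 2 by rfl, pow_mul, pow_two s, C.s_sq, pow_two, hzz]
    have h8 := h6.trans h7
    norm_num at h8
  obtain ⟨K2, hK2K, hDK2, hzK2, huK2, hK2⟩ := exists_K C (L := K) (D := D) hKN hDK hzK huK huD
  have huN : u ∈ N0 := hKN huK
  have hsc := C.s_cen
  -- bookkeeping
  have cancel : ∀ g, ∀ i, φ g (φ g⁻¹ i) = i := fun g i => by
    rw [← Perm.mul_apply, ← map_mul, mul_inv_cancel, map_one]; rfl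
  have hsK' : ∀ m ∈ N0, m ∉ K → s * m ∈ K := fun m hm h => (hK m hm).resolve_left h
  have hsK'' : ∀ m ∈ K, s * m ∉ K := by
    intro m hm h
    apply hsK
    have h1 : s = (s * m) * m⁻¹ := by group
    rw [h1]; exact mul_mem h (inv_mem hm)
  have mulK : ∀ m ∈ N0, ∀ l ∈ N0, m ∉ K → l ∉ K → m * l ∈ K := by
    intro m hm l hl h1 h2
    have h3 := mul_mem (hsK' m hm h1) (hsK' l hl h2)
    have h4 : m * l = z * ((s * m) * (s * l)) := by
      rw [mul_assoc s m, ← mul_assoc m s l, hsc m hm, mul_assoc s m l, ← mul_assoc s s, C.s_sq, ← mul_assoc z z,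
        hzz, one_mul]
    rw [h4]; exact mul_mem hzK h3
  have uniq : ∀ m ∈ N0, ∀ l ∈ N0, φ m x = φ l x → l⁻¹ * m ∈ D := by
    intro m hm l hl h
    refine ⟨mul_mem (inv_mem hl) hm, ?_⟩
    rw [map_mul, Perm.mul_apply, h, ← Perm.mul_apply, ← map_mul, inv_mul_cancel, map_one]; rfl
  -- the two sets
  set D2 : Set (Fin n) := {i | ∃ m ∈ N0, m ∉ K ∧ φ m x = i} with hD2
  set D3 : Set (Fin n) := {i | ∃ m ∈ N0, s * m ∈ K2 ∧ φ m x = i} with hD3
  have mem2 : ∀ m ∈ N0, (φ m x ∈ D2 ↔ m ∉ K) := by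
    intro m hm
    constructor
    · rintro ⟨l, hl, hlK, h⟩ hmK
      apply hlK
      have h1 := uniq l hl m hm h
      have h2 : l = m * (m⁻¹ * l) := by group
      rw [h2]; exact mul_mem hmK (hDK h1)
    · intro h
      exact ⟨m, hm, h, rfl⟩
  have mem3 : ∀ m ∈ N0, (φ m x ∈ D3 ↔ s * m ∈ K2) := by
    intro m hm
    constructor
    · rintro ⟨l, hl, hlK, h⟩
      have h1 := uniq m hm l hl h.symm
      have h2 : s * m = (s * l) * (l⁻¹ * m) := by group
      rw [h2]; exact mul_mem hlK (hDK2 h1)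
    · intro h
      exact ⟨m, hm, h, rfl⟩
  have pt : ∀ i, (∃ m ∈ N0, φ m x = i) ∨ (¬ Mv φ N0 i) := by
    intro i
    by_cases hi : Mv φ N0 i
    · exact Or.inl (one_orbit A C hxM hi)
    · exact Or.inr hi
  have mvx : ∀ m ∈ N0, Mv φ N0 (φ m x) := fun m hm => hxM.of_rl ⟨m, hm, rfl⟩
  have not2 : ∀ i, ¬ Mv φ N0 i → i ∉ D2 := by
    rintro i hi ⟨m, hm, -, rfl⟩
    exact hi (mvx m hm)
  have not3 : ∀ i, ¬ Mv φ N0 i → i ∉ D3 := by
    rintro i hi ⟨m, hm, -, rfl⟩
    exact hi (mvx m hm)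
  have hzx : ∀ m, φ z (φ m x) = φ (z * m) x := fun m => by rw [map_mul]; rfl
  have hux : ∀ l m, φ l (φ m x) = φ (l * m) x := fun l m => by rw [map_mul]; rfl
  have hzK' : ∀ m, m ∈ K ↔ z * m ∈ K := fun m => (Subgroup.mul_mem_cancel_left K hzK).symm
  have hzK2' : ∀ m ∈ N0, s * m ∈ K2 ↔ s * (z * m) ∈ K2 := by
    intro m hm
    rw [← mul_assoc, ← hzc s C.sN, mul_assoc]
    exact (Subgroup.mul_mem_cancel_left K2 hzK2).symm
  have hO2 : ∀ i, i ∈ D2 ↔ φ z i ∈ D2 := by
    intro i
    rcases pt i with ⟨m, hm, rfl⟩ | hi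
    · rw [hzx, mem2 m hm, mem2 _ (mul_mem hzN hm), ← hzK']
    · rw [not_mv_apply hzN hi]
  have hO3 : ∀ i, i ∈ D3 ↔ φ z i ∈ D3 := by
    intro i
    rcases pt i with ⟨m, hm, rfl⟩ | hi
    · rw [hzx, mem3 m hm, mem3 _ (mul_mem hzN hm), ← hzK2' m hm]
    · rw [not_mv_apply hzN hi]
  set g : Perm (Fin n) := res (φ z) D2 hO2 with hg
  set a : Perm (Fin n) := res (φ z) D3 hO3 with ha
  have g1 : ∀ m ∈ N0, m ∉ K → g (φ m x) = φ (z * m) x := fun m hm h => by
    rw [hg, res_mem ((mem2 m hm).2 h), hzx]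
  have g2 : ∀ m ∈ N0, m ∈ K → g (φ m x) = φ m x := fun m hm h => by
    rw [hg, res_not (fun h' => (mem2 m hm).1 h' h)]
  have g3 : ∀ i, ¬ Mv φ N0 i → g i = i := fun i hi => by rw [hg, res_not (not2 i hi)]
  have a1 : ∀ m ∈ N0, s * m ∈ K2 → a (φ m x) = φ (z * m) x := fun m hm h => by
    rw [ha, res_mem ((mem3 m hm).2 h), hzx]
  have a2 : ∀ m ∈ N0, s * m ∉ K2 → a (φ m x) = φ m x := fun m hm h => by
    rw [ha, res_not (fun h' => h ((mem3 m hm).1 h'))]
  have a3 : ∀ i, ¬ Mv φ N0 i → a i = i := fun i hi => by rw [ha, res_not (not3 i hi)]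
  -- `g` is even
  have hga : g = a * (φ u * a * (φ u)⁻¹) := by
    ext i
    congr 1
    rw [Perm.mul_apply, Perm.mul_apply, Perm.mul_apply, ← map_inv]
    rcases pt i with ⟨m, hm, rfl⟩ | hi
    · have hum : u⁻¹ * m ∈ N0 := mul_mem (inv_mem huN) hm
      have hs1 : s * (u⁻¹ * m) = u⁻¹ * (s * m) := by
        rw [← mul_assoc, ← hsc _ (inv_mem huN), mul_assoc]
      rw [hux]
      by_cases hmK : m ∈ K
      · have h1 : s * m ∉ K2 := fun h => hsK'' m hmK (hK2K h)
        have h2 : s * (u⁻¹ * m) ∉ K2 := fun h => hsK'' _ (mul_mem (inv_mem huK) hmK) (hK2K h)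
        rw [a2 _ hum h2, hux, mul_inv_cancel_left, a2 m hm h1, g2 m hm hmK]
      · rw [g1 m hm hmK]
        by_cases h1 : s * m ∈ K2
        · have h2 : s * (u⁻¹ * m) ∉ K2 := by
            intro h
            rw [hs1] at h
            exact huK2 ((inv_mem_iff).1 ((Subgroup.mul_mem_cancel_right K2 h1).1 h))
          rw [a2 _ hum h2, hux, mul_inv_cancel_left, a1 m hm h1]
        · have h2 : s * (u⁻¹ * m) ∈ K2 := by
            rw [hs1]
            have h3 := (hK2 _ (hsK' m hm hmK)).resolve_left h1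
            have h4 : u⁻¹ * (s * m) = (u * u)⁻¹ * (u * (s * m)) := by group
            rw [h4]
            refine mul_mem (inv_mem ?_) h3
            rcases C.sq u huN with h | h
            · rw [h]; exact one_mem _
            · rw [h]; exact hzK2
          rw [a1 _ hum h2, hux]
          have h5 : u * (z * (u⁻¹ * m)) = z * m := by
            rw [← mul_assoc u z, ← hzc u huN, mul_assoc, mul_inv_cancel_left]
          rw [h5, a2 _ (mul_mem hzN hm) (fun h => h1 ((hzK2' m hm).2 h))]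
    · rw [not_mv_apply (inv_mem huN) hi, a3 i hi, not_mv_apply huN hi, a3 i hi, g3 i hi]
  have hgs : sign g = 1 := by
    rw [hga]
    simp only [map_mul, map_inv]
    rcases Int.units_eq_one_or (sign a) with h5 | h5 <;> simp [h5]
  obtain ⟨γ, hγ⟩ := A.lift g hgs
  have cK : ∀ m ∈ K, γ * m = m * γ := by
    intro m hmK
    have hm := hKN hmK
    apply A.inj
    rw [map_mul, map_mul, hγ]
    ext i
    congr 1
    rw [Perm.mul_apply, Perm.mul_apply]
    rcases pt i with ⟨l, hl, rfl⟩ | hi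
    · rw [hux]
      by_cases hlK : l ∈ K
      · rw [g2 l hl hlK, g2 _ (mul_mem hm hl) (mul_mem hmK hlK), hux]
      · have h1 : m * l ∉ K := fun h => hlK ((Subgroup.mul_mem_cancel_left K hmK).1 h)
        rw [g1 l hl hlK, g1 _ (mul_mem hm hl) h1, hux, ← mul_assoc, hzc m hm, mul_assoc]
    · rw [not_mv_apply hm hi, g3 i hi, not_mv_apply hm hi]
  have cN : ∀ m ∈ N0, m ∉ K → γ * m = z * (m * γ) := by
    intro m hm hmK
    apply A.inj
    rw [map_mul, map_mul, map_mul, hγ]
    ext i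
    congr 1
    rw [Perm.mul_apply, Perm.mul_apply, Perm.mul_apply]
    rcases pt i with ⟨l, hl, rfl⟩ | hi
    · rw [hux]
      by_cases hlK : l ∈ K
      · have h1 : m * l ∉ K := fun h => hmK ((Subgroup.mul_mem_cancel_right K hlK).1 h)
        rw [g2 l hl hlK, g1 _ (mul_mem hm hl) h1, hux, hux]
      · rw [g1 l hl hlK, g2 _ (mul_mem hm hl) (mulK m hm l hl hmK hlK), hux, hux]
        have h1 : z * (m * (z * l)) = m * l := by
          rw [← mul_assoc m z, ← hzc m hm, mul_assoc z m l, ← mul_assoc z z, hzz, one_mul]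
        rw [h1]
    · rw [not_mv_apply hm hi, g3 i hi, not_mv_apply hm hi, not_mv_apply hzN hi]
  have hγH : γ ∈ normalizer (P : Set G) := by
    apply C.key
    intro m hm
    by_cases hmK : m ∈ K
    · exact Or.inl (cK m hmK)
    · exact Or.inr (cN m hm hmK)
  have hγz : γ * z = z * γ := cK z hzK
  have hγN : γ ∈ normalizer (N0 : Set G) := by
    rw [mem_normalizer_iff]
    intro m
    constructor
    · intro hm
      by_cases hmK : m ∈ K
      · rw [cK m hmK, mul_inv_cancel_right]; exact hm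
      · rw [cN m hm hmK]
        have h1 : z * (m * γ) * γ⁻¹ = z * m := by group
        rw [h1]; exact mul_mem hzN hm
    · intro hm
      obtain ⟨l, hl⟩ : ∃ l, l = γ * m * γ⁻¹ := ⟨_, rfl⟩
      rw [← hl] at hm
      have h1 : m = γ⁻¹ * l * γ := by rw [hl]; group
      rw [h1]
      by_cases hmK : l ∈ K
      · rw [mul_assoc, ← cK l hmK, inv_mul_cancel_left]; exact hm
      · have h2 := cN l hm hmK
        have h3 : l * γ = γ * (z * l) := by
          rw [← mul_assoc, hγz, mul_assoc z, h2, ← mul_assoc z z, hzz, one_mul]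
        rw [mul_assoc, h3, inv_mul_cancel_left]; exact mul_mem hzN hm
  -- `ψ γ = 1`
  have hψ : ψ ⟨γ, hγH⟩ = 1 := by
    have hcom : ∀ π : Perm (Fin 6), sign π = 1 → ψ ⟨γ, hγH⟩ * π = π * ψ ⟨γ, hγH⟩ := by
      intro π hπ
      obtain ⟨e, he, heψ⟩ := AF_even A C hπ
      rw [← heψ, ← map_mul, ← map_mul]
      congr 1
      apply Subtype.ext
      change γ * e = e * γ
      apply A.inj
      rw [map_mul, map_mul, hγ]
      refine (show Equiv.Perm.Disjoint g (φ e) from fun i => ?_).commute.eq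
      by_cases hi : Mv φ N0 i
      · exact Or.inr (he i hi)
      · exact Or.inl (g3 i hi)
    set w := ψ ⟨γ, hγH⟩ with hw
    by_contra hne
    obtain ⟨i, hi⟩ : ∃ i, w i ≠ i := by
      by_contra hc
      push Not at hc
      exact hne (Equiv.ext hc)
    obtain ⟨b, c, hbi, hbw, hci, hcw, hbc⟩ : ∃ b c : Fin 6, i ≠ b ∧ w i ≠ b ∧ i ≠ c ∧ w i ≠ c ∧ b ≠ c := by
      generalize w i = j at hi
      revert i j
      decide +kernel
    have h1 := hcom (cyc i b c) (sign_cyc hbi hbc)
    have h2 : w (cyc i b c i) = cyc i b c (w i) := congrArg (fun f : Perm (Fin 6) => f i) h1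
    rw [cyc_1 hbi hci hbc, cyc_of_ne hi hbw hcw] at h2
    exact hbi (w.injective h2).symm
  have h1 : γ * s = s * γ := (C.inv_s ⟨γ, hγH⟩ hγN).1 (by rw [hψ]; exact map_one _)
  have h2 := cN s C.sN hsK
  rw [h1] at h2
  exact C.z_ne (by simpa using h2)

/-- **S1920, case B: no alternating group.** -/
theorem dead_alt (e : G ≃* alternatingGroup (Fin n)) (C : CB P N0 z s ψ) : False := by
  refine altG_false (φ := (alternatingGroup (Fin n)).subtype.comp e.toMonoidHom) ⟨?_, ?_, ?_⟩ C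
  · intro g h hgh
    exact e.injective (Subtype.ext hgh)
  · intro g
    exact (e g).2
  · intro σ hσ
    refine ⟨e.symm ⟨σ, mem_alternatingGroup.2 hσ⟩, ?_⟩
    change ((e (e.symm ⟨σ, _⟩) : alternatingGroup (Fin n)) : Perm (Fin n)) = σ
    rw [e.apply_symm_apply]

end Cfsg.Agent.H282.Co3
end

-- part: H738/C3/AltRow
section
/-!
# S1920, case B: the alternating row (helper738, from helper282's `dead_alt`)
-/

set_option autoImplicit false

open Subgroup Equiv Cfsg

universe u

namespace Cfsg.Agent.H738.C3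

open Cfsg.Agent.H13.Co3 Cfsg.Agent.H527.Co3

/-- **The row of the alternating groups** -/
theorem row_alt : Row.{u} @IsAlternating := by
  intro G _ _ _ h P N0 z s ψ C
  obtain ⟨n, -, ⟨e⟩⟩ := h
  exact Cfsg.Agent.H282.Co3.dead_alt e C

end Cfsg.Agent.H738.C3
end
end
end
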